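import Cfsg.Agent.Lib.Classical.Pauli.Frame

set_option autoImplicit false
set_option linter.unusedSectionVars false

/-!
Elements of orders two, three and five normalising a frame, given by their coordinates in the basis of products; all
identities between them are identities of integer coefficient vectors.
-/

namespace CfsgLib.Pauli

open Matrix

/-- The position of an exponent vector. -/
def pos (v : V) : ℕ := 8 * v.1.val + 4 * v.2.1.val + 2 * v.2.2.1.val + v.2.2.2.val

/-- Coordinates from a list. -/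
def ofList (l : List ℤ) (v : V) : ℤ := l.getD (pos v) 0

/-- The product of coordinates. -/
def conv (x y : V → ℤ) (u : V) : ℤ := ∑ v : V, sg ℤ (cyc v (u + v)) * x v * y (u + v)

/-- The coordinates of a product of generators. -/
def single (w : V) (u : V) : ℤ := if u = w then 1 else 0

/-- The coordinates of the adjoint. -/
def star' (x : V → ℤ) (v : V) : ℤ := sg ℤ (cyc v v) * x v

def e3 : V → ℤ := ofList [-1, -1, -1, 1]
def e3sq : V → ℤ := ofList [-1, 1, 1, -1]
def e5 : V → ℤ := ofList [-1, -1, -1, 1, 1, -1, -1, -1, 1, 1, -1, 1, -1, 1, -1, -1]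
def e5sq : V → ℤ := ofList [-1, 1, -1, -1, -1, -1, -1, 1, -1, -1, -1, 1, 1, -1, 1, 1]
def e5four : V → ℤ := ofList [-1, 1, 1, -1, 1, 1, 1, 1, 1, -1, 1, -1, 1, 1, -1, -1]
def z1 : V → ℤ := ofList [1, 0, 0, 0, 0, 0, 0, 0, 1]
def z2 : V → ℤ := ofList [0, 0, 1, 0, 0, 0, 0, 0, 0, 0, -1]

theorem sg_cast (F : Type*) [Ring F] (x : ZMod 2) : ((sg ℤ x : ℤ) : F) = sg F x := by
  unfold sg; split <;> simp

variable {F : Type*} [Field F] {ι : Type} [Fintype ι] [DecidableEq ι] (f : Frame F ι)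

namespace Frame

/-- The matrix with given coordinates. -/
def lin (x : V → ℤ) : Matrix ι ι F := ∑ v, (x v : F) • f.M v

theorem lin_mul (x y : V → ℤ) : f.lin x * f.lin y = f.lin (conv x y) := by
  rw [lin, lin, lin, Finset.sum_mul_sum]
  simp only [conv, smul_mul_assoc, mul_smul_comm, smul_smul, M_mul, Int.cast_sum, Finset.sum_smul]
  conv_rhs => rw [Finset.sum_comm]
  refine Finset.sum_congr rfl fun v _ => ?_
  refine Fintype.sum_equiv (Equiv.addLeft v) _ _ fun w => ?_
  have e : v + w + v = w := by rw [add_right_comm, add_self, zero_add]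
  simp only [Equiv.coe_addLeft, e, Int.cast_mul, sg_cast]
  congr 1
  ring

theorem lin_smul (k : ℤ) (x : V → ℤ) : f.lin (fun v => k * x v) = (k : F) • f.lin x := by
  simp only [lin, Finset.smul_sum, smul_smul, Int.cast_mul]

theorem lin_add (x y : V → ℤ) : f.lin (fun v => x v + y v) = f.lin x + f.lin y := by
  simp only [lin, ← Finset.sum_add_distrib, Int.cast_add, add_smul]

theorem lin_single (w : V) : f.lin (single w) = f.M w := by
  rw [lin, Finset.sum_eq_single w (fun v _ hv => by simp [single, hv]) (by simp)]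
  simp [single]

theorem lin_eq {x y : V → ℤ} (k : ℤ) (h : ∀ v, x v = k * y v) : f.lin x = (k : F) • f.lin y := by
  rw [← lin_smul]; exact congrArg f.lin (funext h)

theorem lin_one (k : ℤ) {x : V → ℤ} (h : ∀ v, x v = k * single 0 v) : f.lin x = (k : F) • 1 := by
  rw [f.lin_eq k h, lin_single, M_zero]

theorem lin_comm {x : V → ℤ} {v w : V} (k : ℤ) (h : ∀ u, conv x (single v) u = k * conv (single w) x u) :
    f.lin x * f.M v = (k : F) • (f.M w * f.lin x) := by
  rw [← lin_single, ← lin_single, lin_mul, lin_mul]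
  exact f.lin_eq k h

theorem trace_lin (h2 : (2 : F) ≠ 0) (x : V → ℤ) : (f.lin x).trace = (x 0 : F) * Fintype.card ι := by
  rw [lin, Matrix.trace_sum, Finset.sum_eq_single 0 (fun v _ hv => by
    rw [Matrix.trace_smul, f.trace_M h2 hv, smul_zero]) (by simp), Matrix.trace_smul, M_zero, Matrix.trace_one,
    smul_eq_mul]

/-- The element of order three acting on the second pair only. -/
def y3 : Matrix ι ι F := (2 : F)⁻¹ • f.lin e3

/-- The element of order five. -/
def y5 : Matrix ι ι F := ((2 : F) * 2)⁻¹ • f.lin e5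

/-- The reflection-like involution, for a square root `i` of minus one. -/
def cz (i : F) : Matrix ι ι F := (2 : F)⁻¹ • (f.lin z1 + i • f.lin z2)

variable (h2 : (2 : F) ≠ 0)
include h2

theorem y3_pow : f.y3 ^ 3 = 1 := by
  have h1 : ∀ v, conv e3 e3 v = 2 * e3sq v := by decide +kernel
  have h3 : ∀ v, conv e3sq e3 v = 4 * single 0 v := by decide +kernel
  rw [pow_succ, pow_two, y3]
  simp only [smul_mul_assoc, mul_smul_comm, smul_smul, lin_mul]
  rw [← f.lin_mul, f.lin_eq 2 h1, smul_mul_assoc, lin_mul, f.lin_one 4 h3, smul_smul, smul_smul]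
  push_cast
  rw [show ((2 : F)⁻¹ * (2⁻¹ * 2⁻¹) * 2 * 4) = 1 by field_simp; norm_num, one_smul]

theorem y5_pow : f.y5 ^ 5 = 1 := by
  have h1 : ∀ v, conv e5 e5 v = 4 * e5sq v := by decide +kernel
  have h3 : ∀ v, conv e5sq e5sq v = 4 * e5four v := by decide +kernel
  have h5 : ∀ v, conv e5four e5 v = 16 * single 0 v := by decide +kernel
  have h4 : (2 : F) * 2 ≠ 0 := mul_ne_zero h2 h2
  have q2 : f.y5 * f.y5 = ((2 : F) * 2)⁻¹ • f.lin e5sq := by
    rw [y5, smul_mul_assoc, mul_smul_comm, smul_smul, lin_mul, f.lin_eq 4 h1, smul_smul]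
    congr 1
    push_cast
    field_simp
    norm_num
  have q4 : f.y5 * f.y5 * (f.y5 * f.y5) = ((2 : F) * 2)⁻¹ • f.lin e5four := by
    rw [q2, smul_mul_assoc, mul_smul_comm, smul_smul, lin_mul, f.lin_eq 4 h3, smul_smul]
    congr 1
    push_cast
    field_simp
    norm_num
  rw [show (5 : ℕ) = 2 + 2 + 1 from rfl, pow_succ, pow_add, pow_two, q4, y5, smul_mul_assoc, mul_smul_comm, smul_smul,
    lin_mul, f.lin_one 16 h5, smul_smul]
  push_cast
  rw [show (((2 : F) * 2)⁻¹ * ((2 : F) * 2)⁻¹ * 16) = 1 by field_simp; norm_num, one_smul]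

theorem trace_y3 (h4 : Fintype.card ι = 4) : f.y3.trace = -2 := by
  rw [y3, Matrix.trace_smul, f.trace_lin h2, h4, smul_eq_mul]
  simp [e3, ofList, pos]
  field_simp
  norm_num

theorem trace_y5 (h4 : Fintype.card ι = 4) : f.y5.trace = -1 := by
  rw [y5, Matrix.trace_smul, f.trace_lin h2, h4, smul_eq_mul]
  simp [e5, ofList, pos]
  field_simp
  norm_num

theorem y3_gens : f.y3 * f.a = f.a * f.y3 ∧ f.y3 * f.b = f.b * f.y3 ∧
    f.y3 * f.c = (-1 : F) • (f.M (0, 0, 1, 1) * f.y3) ∧ f.y3 * f.d = f.c * f.y3 := by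
  have ha : ∀ u, conv e3 (single (1, 0, 0, 0)) u = 1 * conv (single (1, 0, 0, 0)) e3 u := by decide +kernel
  have hb : ∀ u, conv e3 (single (0, 1, 0, 0)) u = 1 * conv (single (0, 1, 0, 0)) e3 u := by decide +kernel
  have hc : ∀ u, conv e3 (single (0, 0, 1, 0)) u = -1 * conv (single (0, 0, 1, 1)) e3 u := by decide +kernel
  have hd : ∀ u, conv e3 (single (0, 0, 0, 1)) u = 1 * conv (single (0, 0, 1, 0)) e3 u := by decide +kernel
  simp only [y3, smul_mul_assoc, mul_smul_comm, a_eq, b_eq, c_eq, d_eq, f.lin_comm _ ha, f.lin_comm _ hb,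
    f.lin_comm _ hc, f.lin_comm _ hd, Int.cast_one, Int.cast_neg, one_smul, smul_comm (-1 : F), and_self]

theorem y5_gens : f.y5 * f.a = (-1 : F) • (f.M (1, 1, 1, 0) * f.y5) ∧
    f.y5 * f.b = (-1 : F) • (f.M (1, 1, 1, 1) * f.y5) ∧
    f.y5 * f.c = (1 : F) • (f.M (0, 1, 0, 1) * f.y5) ∧ f.y5 * f.d = (-1 : F) • (f.M (1, 0, 0, 1) * f.y5) := by
  have ha : ∀ u, conv e5 (single (1, 0, 0, 0)) u = -1 * conv (single (1, 1, 1, 0)) e5 u := by decide +kernel
  have hb : ∀ u, conv e5 (single (0, 1, 0, 0)) u = -1 * conv (single (1, 1, 1, 1)) e5 u := by decide +kernel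
  have hc : ∀ u, conv e5 (single (0, 0, 1, 0)) u = 1 * conv (single (0, 1, 0, 1)) e5 u := by decide +kernel
  have hd : ∀ u, conv e5 (single (0, 0, 0, 1)) u = -1 * conv (single (1, 0, 0, 1)) e5 u := by decide +kernel
  simp only [y5, smul_mul_assoc, mul_smul_comm, a_eq, b_eq, c_eq, d_eq, f.lin_comm _ ha, f.lin_comm _ hb,
    f.lin_comm _ hc, f.lin_comm _ hd, Int.cast_one, Int.cast_neg, one_smul, smul_comm (-1 : F), and_self]

variable {i : F} (hi : i * i = -1)
include hi

theorem cz_sq : f.cz i * f.cz i = 1 := by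
  have h1 : ∀ v, conv z1 z1 v + -1 * conv z2 z2 v = 4 * single 0 v := by decide +kernel
  have h3 : ∀ v, conv z1 z2 v + conv z2 z1 v = 0 * single 0 v := by decide +kernel
  have k1 := f.lin_one 4 h1
  have k3 := f.lin_one 0 h3
  rw [lin_add, lin_smul] at k1
  rw [lin_add] at k3
  simp only [Int.cast_zero, zero_smul, Int.cast_neg, Int.cast_one, Int.cast_ofNat, neg_one_smul] at k1 k3
  rw [cz, smul_mul_assoc, mul_smul_comm, smul_smul, add_mul, mul_add, mul_add, smul_mul_assoc, smul_mul_assoc,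
    mul_smul_comm, mul_smul_comm, smul_smul i i, hi, neg_one_smul, lin_mul, lin_mul, lin_mul, lin_mul]
  rw [show f.lin (conv z1 z1) + i • f.lin (conv z1 z2) + (i • f.lin (conv z2 z1) + -f.lin (conv z2 z2)) =
    (f.lin (conv z1 z1) + -f.lin (conv z2 z2)) + i • (f.lin (conv z1 z2) + f.lin (conv z2 z1)) by
      rw [smul_add]; abel, k1, k3, smul_zero, add_zero, smul_smul]
  rw [show ((2 : F)⁻¹ * 2⁻¹ * 4) = 1 by field_simp; norm_num, one_smul]

theorem cz_gens : f.cz i * f.a = f.a * f.cz i ∧ f.cz i * f.b = i • (f.M (0, 1, 1, 0) * f.cz i) ∧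
    f.cz i * f.c = f.c * f.cz i ∧ f.cz i * f.d = f.M (1, 0, 0, 1) * f.cz i := by
  have a1 : ∀ u, conv z1 (single (1, 0, 0, 0)) u = 1 * conv (single (1, 0, 0, 0)) z1 u := by decide +kernel
  have a2 : ∀ u, conv z2 (single (1, 0, 0, 0)) u = 1 * conv (single (1, 0, 0, 0)) z2 u := by decide +kernel
  have b1 : ∀ u, conv z1 (single (0, 1, 0, 0)) u = -1 * conv (single (0, 1, 1, 0)) z2 u := by decide +kernel
  have b2 : ∀ u, conv z2 (single (0, 1, 0, 0)) u = 1 * conv (single (0, 1, 1, 0)) z1 u := by decide +kernel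
  have c1 : ∀ u, conv z1 (single (0, 0, 1, 0)) u = 1 * conv (single (0, 0, 1, 0)) z1 u := by decide +kernel
  have c2 : ∀ u, conv z2 (single (0, 0, 1, 0)) u = 1 * conv (single (0, 0, 1, 0)) z2 u := by decide +kernel
  have d1 : ∀ u, conv z1 (single (0, 0, 0, 1)) u = 1 * conv (single (1, 0, 0, 1)) z1 u := by decide +kernel
  have d2 : ∀ u, conv z2 (single (0, 0, 0, 1)) u = 1 * conv (single (1, 0, 0, 1)) z2 u := by decide +kernel
  have conv' : ∀ {x y : V → ℤ} {v w : V} (k : ℤ),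
      (∀ u, conv x (single v) u = k * conv (single w) y u) →
      f.lin x * f.M v = (k : F) • (f.M w * f.lin y) := fun {x y v w} k h => by
    rw [← lin_single, ← lin_single, lin_mul, lin_mul]
    exact f.lin_eq k h
  simp only [cz, smul_mul_assoc, mul_smul_comm, add_mul, mul_add, a_eq, b_eq, c_eq, d_eq, conv' _ a1, conv' _ a2,
    conv' _ b1, conv' _ b2, conv' _ c1, conv' _ c2, conv' _ d1, conv' _ d2, Int.cast_one, Int.cast_neg, one_smul,
    neg_one_smul]
  refine ⟨trivial, ?_, trivial, trivial⟩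
  rw [smul_comm i (2 : F)⁻¹, smul_add i, smul_smul i i, hi, neg_one_smul, smul_add, smul_add, add_comm]

theorem trace_cz (h4 : Fintype.card ι = 4) : (f.cz i).trace = 2 := by
  rw [cz, Matrix.trace_smul, Matrix.trace_add, Matrix.trace_smul, f.trace_lin h2, f.trace_lin h2, h4, smul_eq_mul,
    smul_eq_mul]
  simp [z1, z2, ofList, pos]
  field_simp
  norm_num

end Frame

def u1 : V → ℤ := ofList [1, 1, 1, -1, 0, 0, 0, 0, 0, 0, 0, 0, 1, 1, 1, -1]
def u2 : V → ℤ := ofList [0, 0, 0, 0, 1, 1, 1, -1, 1, 1, 1, -1, 0, 0, 0, 0]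
def v1 : V → ℤ := ofList [1, -1, -1, 1, 0, 0, 0, 0, 0, 0, 0, 0, -1, 1, 1, -1]
def v2 : V → ℤ := ofList [0, 0, 0, 0, -1, 1, 1, -1, -1, 1, 1, -1, 0, 0, 0, 0]

namespace Frame

variable {F : Type*} [Field F] {ι : Type} [Fintype ι] [DecidableEq ι] (f : Frame F ι)

/-- An element of order three acting on both pairs, for a square root `i` of minus one. -/
def y33 (i : F) : Matrix ι ι F := ((2 : F) * 2)⁻¹ • (f.lin u1 + i • f.lin u2)

variable {i : F} (hi : i * i = -1)
include hi

/-- Products with imaginary parts. -/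
theorem lin2_mul {x x' y y' w w' : V → ℤ} (k : ℤ) (h : ∀ v, conv x y v + -1 * conv x' y' v = k * w v)
    (h' : ∀ v, conv x y' v + conv x' y v = k * w' v) :
    (f.lin x + i • f.lin x') * (f.lin y + i • f.lin y') = (k : F) • (f.lin w + i • f.lin w') := by
  have k1 := f.lin_eq k h
  have k2 := f.lin_eq k h'
  rw [lin_add, lin_smul] at k1
  rw [lin_add] at k2
  simp only [Int.cast_neg, Int.cast_one, neg_one_smul] at k1
  rw [smul_add, smul_comm (k : F) i, ← k1, ← k2, add_mul, mul_add, mul_add, smul_mul_assoc, smul_mul_assoc,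
    mul_smul_comm, mul_smul_comm, smul_smul i i, hi, neg_one_smul, lin_mul, lin_mul, lin_mul, lin_mul, smul_add]
  abel

theorem y33_gens : f.y33 i * f.a = (-i) • (f.M (1, 1, 0, 0) * f.y33 i) ∧ f.y33 i * f.b = f.a * f.y33 i ∧
    f.y33 i * f.c = (-1 : F) • (f.M (0, 0, 1, 1) * f.y33 i) ∧ f.y33 i * f.d = f.c * f.y33 i := by
  have conv' : ∀ {x y : V → ℤ} {v w : V} (k : ℤ),
      (∀ u, conv x (single v) u = k * conv (single w) y u) →
      f.lin x * f.M v = (k : F) • (f.M w * f.lin y) := fun {x y v w} k h => by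
    rw [← lin_single, ← lin_single, lin_mul, lin_mul]
    exact f.lin_eq k h
  have a1 : ∀ u, conv u1 (single (1, 0, 0, 0)) u = 1 * conv (single (1, 1, 0, 0)) u2 u := by decide +kernel
  have a2 : ∀ u, conv u2 (single (1, 0, 0, 0)) u = -1 * conv (single (1, 1, 0, 0)) u1 u := by decide +kernel
  have b1 : ∀ u, conv u1 (single (0, 1, 0, 0)) u = 1 * conv (single (1, 0, 0, 0)) u1 u := by decide +kernel
  have b2 : ∀ u, conv u2 (single (0, 1, 0, 0)) u = 1 * conv (single (1, 0, 0, 0)) u2 u := by decide +kernel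
  have c1 : ∀ u, conv u1 (single (0, 0, 1, 0)) u = -1 * conv (single (0, 0, 1, 1)) u1 u := by decide +kernel
  have c2 : ∀ u, conv u2 (single (0, 0, 1, 0)) u = -1 * conv (single (0, 0, 1, 1)) u2 u := by decide +kernel
  have d1 : ∀ u, conv u1 (single (0, 0, 0, 1)) u = 1 * conv (single (0, 0, 1, 0)) u1 u := by decide +kernel
  have d2 : ∀ u, conv u2 (single (0, 0, 0, 1)) u = 1 * conv (single (0, 0, 1, 0)) u2 u := by decide +kernel
  simp only [y33, smul_mul_assoc, mul_smul_comm, add_mul, mul_add, a_eq, b_eq, c_eq, d_eq, conv' _ a1, conv' _ a2,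
    conv' _ b1, conv' _ b2, conv' _ c1, conv' _ c2, conv' _ d1, conv' _ d2, Int.cast_one, Int.cast_neg, one_smul,
    neg_one_smul, smul_neg, neg_smul, ← neg_add]
  refine ⟨?_, trivial, trivial, trivial⟩
  rw [smul_comm i ((2 : F) * 2)⁻¹, smul_add i, smul_smul i i, hi, neg_one_smul]
  module

variable (h2 : (2 : F) ≠ 0)
include h2

theorem y33_pow : f.y33 i ^ 3 = 1 := by
  have h1 : ∀ v, conv u1 u1 v + -1 * conv u2 u2 v = 4 * v1 v := by decide +kernel
  have h1' : ∀ v, conv u1 u2 v + conv u2 u1 v = 4 * v2 v := by decide +kernel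
  have h3 : ∀ v, conv v1 u1 v + -1 * conv v2 u2 v = 16 * single 0 v := by decide +kernel
  have h3' : ∀ v, conv v1 u2 v + conv v2 u1 v = 16 * (0 * single 0 v) := by decide +kernel
  have h4 : (2 : F) * 2 ≠ 0 := mul_ne_zero h2 h2
  rw [pow_succ, pow_two, y33]
  simp only [smul_mul_assoc, mul_smul_comm]
  rw [f.lin2_mul hi 4 h1 h1', smul_mul_assoc, f.lin2_mul hi 16 h3 h3', f.lin_one 0 (fun _ => rfl), lin_single, M_zero]
  simp only [smul_smul, Int.cast_zero, zero_smul, smul_zero, add_zero]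
  push_cast
  rw [show ((2 : F) * 2)⁻¹ * ((2 * 2)⁻¹ * ((2 * 2)⁻¹ * (4 * 16))) = 1 by field_simp; norm_num, one_smul]

theorem trace_y33 (h4 : Fintype.card ι = 4) : (f.y33 i).trace = 1 := by
  rw [y33, Matrix.trace_smul, Matrix.trace_add, Matrix.trace_smul, f.trace_lin h2, f.trace_lin h2, h4, smul_eq_mul,
    smul_eq_mul]
  simp [u1, u2, ofList, pos]
  field_simp
  norm_num

end Frame

end CfsgLib.Pauli
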