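import Cfsg.Agent.Lib.Classical.Pauli.Extract
import Cfsg.Agent.Lib.Classical.Pauli.Elements

set_option autoImplicit false
set_option linter.unusedSectionVars false

/-!
Elements of the normaliser of a spanned group: membership from the images of the generators, and, for an element of
odd prime projective order, the permutation of the products, its fixed points and a bound on its commutant.
-/

namespace CfsgLib.Pauli

open Matrix
open scoped MatrixGroups
open Cfsg.Geo (matrixSet)

variable {F : Type*} [Field F] {ι : Type} [Fintype ι] [DecidableEq ι] {f : Frame F ι} {R : Subgroup (GL ι F)}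

theorem sg_mem (hneg : (-1 : Matrix ι ι F) ∈ matrixSet R) (x : ZMod 2) :
    sg F x • (1 : Matrix ι ι F) ∈ matrixSet R := by
  unfold sg
  split
  · rw [one_smul]; exact mem_one
  · rwa [neg_one_smul]

theorem Spans.scalar_mem (h : Spans f R) (hneg : (-1 : Matrix ι ι F) ∈ matrixSet R) {v : V} {u : F}
    (hu : u • f.M v ∈ matrixSet R) : u • (1 : Matrix ι ι F) ∈ matrixSet R := by
  have h1 := mem_mul (mem_mul hu (h.mem_M v)) (sg_mem hneg (cyc v v))
  rwa [smul_mul_assoc, f.M_sq, smul_mul_assoc, smul_mul_assoc, one_mul, smul_smul (sg F _), sg_self, one_smul] at h1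

/-- An element mapping each generator to a product, up to scalars of the group, normalises. -/
theorem Spans.mem_normalizer [Finite F] (h : Spans f R) (hneg : (-1 : Matrix ι ι F) ∈ matrixSet R) {y : GL ι F}
    (hy : ∀ X, X = f.a ∨ X = f.b ∨ X = f.c ∨ X = f.d →
      ∃ (v : V) (s : F), s • (1 : Matrix ι ι F) ∈ matrixSet R ∧ (y : Matrix ι ι F) * X = s • (f.M v * y)) :
    y ∈ Cfsg.Geo.subgroupNormalizer R := by
  haveI : Finite (GL ι F) := Finite.of_injective _ Units.val_injective
  let P : Matrix ι ι F → Prop := fun X => ∃ Y ∈ matrixSet R, (y : Matrix ι ι F) * X = Y * y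
  have hmul : ∀ {X X'}, P X → P X' → P (X * X') := by
    rintro X X' ⟨Y, hY, e⟩ ⟨Y', hY', e'⟩
    exact ⟨Y * Y', mem_mul hY hY', by rw [← mul_assoc, e, mul_assoc, e', mul_assoc]⟩
  have hpow : ∀ {X} (k : ℕ), P X → P (X ^ k) := fun {X} k hX => by
    induction k with
    | zero => exact ⟨1, mem_one, by rw [pow_zero, mul_one, one_mul]⟩
    | succ k ih => rw [pow_succ]; exact hmul ih hX
  have hgen : ∀ X, X = f.a ∨ X = f.b ∨ X = f.c ∨ X = f.d → P X := fun X hX => by
    obtain ⟨v, s, hs, e⟩ := hy X hX
    exact ⟨_, mem_mul hs (h.mem_M v), by rw [e, smul_mul_assoc, smul_mul_assoc, one_mul]⟩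
  have hM : ∀ v, P (f.M v) := fun v => hmul
    (hmul (hpow _ (hgen _ (Or.inl rfl))) (hpow _ (hgen _ (Or.inr (Or.inl rfl)))))
    (hmul (hpow _ (hgen _ (Or.inr (Or.inr (Or.inl rfl))))) (hpow _ (hgen _ (Or.inr (Or.inr (Or.inr rfl))))))
  have hconj : ∀ g ∈ R, y * g * y⁻¹ ∈ R := by
    intro g hg
    obtain ⟨v, u, hu⟩ := h.dec g hg
    have hus := h.scalar_mem hneg (v := v) (u := u) (hu ▸ ⟨g, hg, rfl⟩)
    obtain ⟨Y, hY, e⟩ := hM v
    obtain ⟨k, hk, hk'⟩ := mem_mul hus hY
    suffices y * g * y⁻¹ = k by rwa [this]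
    rw [mul_inv_eq_iff_eq_mul]
    refine Units.ext ?_
    dsimp only at hk'
    rw [Units.val_mul, Units.val_mul, hu, mul_smul_comm, e, hk', smul_mul_assoc, smul_mul_assoc, one_mul]
  have hle : R.map (MulAut.conj y).toMonoidHom ≤ R := by
    rintro _ ⟨g, hg, rfl⟩; exact hconj g hg
  have heq := Subgroup.eq_of_le_of_card_ge hle
    (by rw [Nat.card_congr (R.equivMapOfInjective (MulAut.conj y).toMonoidHom (MulAut.conj y).injective).toEquiv])
  show y ∈ Subgroup.normalizer (R : Set (GL ι F))
  rw [Subgroup.mem_normalizer_iff]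
  intro g
  refine ⟨hconj g, fun hg => ?_⟩
  obtain ⟨k, hk, hk'⟩ := (heq.symm ▸ hg : y * g * y⁻¹ ∈ R.map (MulAut.conj y).toMonoidHom)
  rwa [← (MulAut.conj y).injective (hk'.trans rfl : (MulAut.conj y) k = (MulAut.conj y) g)]

/-- The data of a normalising element. -/
structure Act (f : Frame F ι) (R : Subgroup (GL ι F)) (g : GL ι F) (r : ℕ) where
  π : V → V
  s : V → F
  eq : ∀ v, (g : Matrix ι ι F) * f.M v = s v • (f.M (π v) * g)
  scal : ∀ v, s v • (1 : Matrix ι ι F) ∈ matrixSet R
  add : ∀ v w, π (v + w) = π v + π w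
  pres : ∀ v w, om (π v) (π w) = om v w
  period : ∀ v, π^[r] v = v
  one : ∀ v, π v = v → s v = 1

variable [Nonempty ι] (h2 : (2 : F) ≠ 0) (h4 : Fintype.card ι = 4)
include h2 h4

theorem Frame.coord_unique {v w : V} {s t : F} (ht : t ≠ 0) (e : t • f.M v = s • f.M w) :
    v = w ∧ t = s := by
  have h0 := congrArg (fun X => (f.basis h2 h4).repr X) e
  simp only [map_smul, ← f.basis_apply h2 h4, Module.Basis.repr_self, Finsupp.smul_single, smul_eq_mul, mul_one,
    Finsupp.single_eq_single_iff] at h0
  rcases h0 with h0 | ⟨h0, -⟩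
  · exact h0
  · exact absurd h0 ht

theorem exists_act (h : Spans f R) (hneg : (-1 : Matrix ι ι F) ∈ matrixSet R) {g : GL ι F}
    (hg : g ∈ Cfsg.Geo.subgroupNormalizer R) {r : ℕ} (hr : Odd r)
    (hgr : ∃ z : F, ((g ^ r : GL ι F) : Matrix ι ι F) = z • 1) : Nonempty (Act f R g r) := by
  have hn : ∀ x, x ∈ R ↔ g * x * g⁻¹ ∈ R := Subgroup.mem_normalizer_iff.1 hg
  have hex : ∀ v, ∃ (w : V) (s : F), (g : Matrix ι ι F) * f.M v = s • (f.M w * g) ∧
      s • (1 : Matrix ι ι F) ∈ matrixSet R := by
    intro v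
    obtain ⟨x, hx, hx'⟩ := h.mem_M v
    obtain ⟨w, u, hu⟩ := h.dec _ ((hn x).1 hx)
    have hmem : u • f.M w ∈ matrixSet R := by rw [← hu]; exact ⟨_, (hn x).1 hx, rfl⟩
    refine ⟨w, u, ?_, h.scalar_mem hneg hmem⟩
    dsimp only at hx'
    rw [← smul_mul_assoc, ← hu, ← hx', Units.val_mul, Units.val_mul, Matrix.mul_assoc _ _ (g : Matrix ι ι F),
      Units.inv_mul, Matrix.mul_one]
  choose π s heq hscal using hex
  have cancel : ∀ {X Y : Matrix ι ι F}, X * g = Y * g → X = Y := fun e => g.isUnit.mul_right_cancel e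
  have hgu := g.isUnit
  have s0 : ∀ v, s v ≠ 0 := fun v e => by
    have := heq v
    rw [e, zero_smul] at this
    exact (f.M_isUnit v).ne_zero (hgu.mul_left_cancel (this.trans (mul_zero _).symm))
  have hprod : ∀ v w, (sg F (cyc v w) * s (v + w)) • f.M (π (v + w)) =
      (s v * s w * sg F (cyc (π v) (π w))) • f.M (π v + π w) := fun v w => cancel (by
    rw [smul_mul_assoc, ← smul_smul, ← heq, ← mul_smul_comm, ← f.M_mul, ← mul_assoc, heq, smul_mul_assoc,
      mul_assoc, heq, mul_smul_comm, smul_smul, ← mul_assoc, f.M_mul, smul_mul_assoc, smul_smul, smul_mul_assoc])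
  have sgne : ∀ x, sg F x ≠ 0 := fun x e => by simpa [e] using sg_self F x
  have hadd : ∀ v w, π (v + w) = π v + π w ∧
      sg F (cyc v w) * s (v + w) = s v * s w * sg F (cyc (π v) (π w)) := fun v w =>
    f.coord_unique h2 h4 (mul_ne_zero (sgne _) (s0 _)) (hprod v w)
  have sginj : ∀ x y : ZMod 2, sg F x = sg F y → x = y := by
    have h11 : (1 : F) ≠ -1 := fun e => h2 (by linear_combination e)
    have hc : ∀ z : ZMod 2, z = 0 ∨ z = 1 := by decide
    intro x y e
    rcases hc x with rfl | rfl <;> rcases hc y with rfl | rfl <;> simp only [sg_zero, sg_one] at e <;>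
      first | rfl | exact absurd e h11 | exact absurd e.symm h11
  have hom : ∀ v w, sg F (cyc v w) * sg F (cyc w v) = sg F (om v w) := fun v w => by
    rw [← sg_add]; congr 1; revert v w; decide +kernel
  have hpres : ∀ v w, om (π v) (π w) = om v w := fun v w => by
    obtain ⟨-, e1⟩ := hadd v w
    obtain ⟨-, e2⟩ := hadd w v
    rw [add_comm w v] at e2
    refine sginj _ _ ?_
    rw [← hom, ← hom]
    refine mul_left_cancel₀ (mul_ne_zero (mul_ne_zero (s0 v) (s0 w)) (mul_ne_zero (s0 w) (s0 v))) ?_
    calc _ = (s v * s w * sg F (cyc (π v) (π w))) * (s w * s v * sg F (cyc (π w) (π v))) := by ring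
      _ = (sg F (cyc v w) * s (v + w)) * (sg F (cyc w v) * s (v + w)) := by rw [← e1, ← e2]
      _ = (sg F (cyc v w) * sg F (cyc w v)) * (s (v + w) * s (v + w)) := by ring
      _ = _ := by
        have hsq : s (v + w) * s (v + w) = (s v * s w) * (s w * s v) := by
          have k := congrArg₂ (· * ·) e1 e1
          have k1 := sg_self F (cyc v w)
          have k2 := sg_self F (cyc (π v) (π w))
          linear_combination k + (-(s (v + w) * s (v + w))) * k1 + (s v * s w * (s v * s w)) * k2
        rw [hsq]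
        ring
  have hit : ∀ k v, ∃ c : F, c ≠ 0 ∧ (g : Matrix ι ι F) ^ k * f.M v = c • (f.M (π^[k] v) * (g : Matrix ι ι F) ^ k) ∧
      (π v = v → c = s v ^ k) := by
    intro k
    induction k with
    | zero => intro v; exact ⟨1, one_ne_zero, by simp, fun _ => (pow_zero _).symm⟩
    | succ k ih =>
      intro v
      obtain ⟨c, hc, e, e'⟩ := ih (π v)
      refine ⟨s v * c, mul_ne_zero (s0 v) hc, ?_, fun hv => ?_⟩
      · rw [pow_succ, mul_assoc, heq, mul_smul_comm, ← mul_assoc, e, smul_mul_assoc, smul_smul,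
          Function.iterate_succ_apply, mul_assoc]
      · have := e' (by rw [hv]; exact hv)
        rw [hv] at this
        rw [this, pow_succ, mul_comm]
  obtain ⟨z, hz⟩ := hgr
  rw [Units.val_pow_eq_pow_val] at hz
  have hz0 : z ≠ 0 := fun e => by
    rw [e, zero_smul] at hz
    exact (g.isUnit.pow r).ne_zero hz
  have hper : ∀ v, π^[r] v = v ∧ (π v = v → s v ^ r = 1) := by
    intro v
    obtain ⟨c, hc, e, e'⟩ := hit r v
    rw [hz, smul_mul_assoc, one_mul, mul_smul_comm, mul_one, smul_smul] at e
    obtain ⟨h1, h1'⟩ := f.coord_unique h2 h4 hz0 e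
    exact ⟨h1.symm, fun hv => (e' hv) ▸ (mul_left_eq_self₀.1 h1'.symm).resolve_right hz0⟩
  refine ⟨⟨π, s, heq, hscal, fun v w => (hadd v w).1, hpres, fun v => (hper v).1, fun v hv => ?_⟩⟩
  have h1 := (hper v).2 hv
  have hz' : π 0 = 0 := by
    have := (hadd 0 0).1
    rwa [add_zero, left_eq_add] at this
  have hs0 : s 0 = 1 := by
    obtain ⟨-, e⟩ := hadd 0 0
    rw [add_zero, hz', show cyc (0 : V) 0 = 0 from rfl, sg_zero, one_mul, mul_one] at e
    exact (mul_left_eq_self₀.1 e.symm).resolve_right (s0 0)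
  obtain ⟨-, e⟩ := hadd v v
  rw [Frame.add_self, hs0, mul_one, hv] at e
  have h3 : s v ^ 2 = 1 := by
    rw [pow_two]
    have := sgne (cyc v v)
    exact (mul_left_eq_self₀.1 e.symm).resolve_right this
  obtain ⟨m, rfl⟩ := hr
  rw [pow_add, pow_mul, h3, one_pow, one_mul, pow_one] at h1
  exact h1

omit h2 h4
variable {g : GL ι F} {r : ℕ} (A : Act f R g r)

theorem Act.map_zero : A.π 0 = 0 := by
  have := A.add 0 0
  rwa [add_zero, left_eq_add] at this

theorem Act.iterate_fixed {v : V} (hv : A.π v = v) (k : ℕ) : A.π^[k] v = v :=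
  Function.iterate_fixed hv k

theorem pos_injective : Function.Injective pos := by
  unfold Function.Injective
  decide +kernel

/-- The number of fixed products. -/
def Act.fix : ℕ := (Finset.univ.filter fun v => A.π v = v).card

theorem Act.fix_dvd : A.fix ∣ 16 := by
  let S : AddSubgroup V :=
    { carrier := {v | A.π v = v}
      zero_mem' := A.map_zero
      add_mem' := fun {a b} ha hb => by
        show A.π (a + b) = a + b
        rw [A.add, ha, hb]
      neg_mem' := fun {a} ha => by
        have hn : ∀ w : V, -w = w := by decide +kernel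
        simpa only [hn] using ha }
  have := S.card_addSubgroup_dvd_card
  rw [Nat.card_eq_fintype_card (α := V), Fintype.card_congr (Equiv.refl V)] at this
  have e : Nat.card S = A.fix := by
    rw [Act.fix, ← Nat.card_eq_finsetCard]
    exact Nat.card_congr (Equiv.subtypeEquivRight fun v => by simp [S])
  rw [e] at this
  exact this

/-- The chosen representatives of the orbits. -/
noncomputable def Act.reps : Finset V :=
  Finset.univ.filter fun v => ∀ k < r, pos v ≤ pos (A.π^[k] v)

variable (hr : r.Prime)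
include hr

theorem Act.exists_rep (v : V) : ∃ w ∈ A.reps, ∃ k, v = A.π^[k] w := by
  obtain ⟨k, hk, hmin⟩ := Finset.exists_min_image (Finset.range r) (fun k => pos (A.π^[k] v))
    ⟨0, Finset.mem_range.2 hr.pos⟩
  rw [Finset.mem_range] at hk
  refine ⟨A.π^[k] v, Finset.mem_filter.2 ⟨Finset.mem_univ _, fun l hl => ?_⟩, r - k, ?_⟩
  · rw [← Function.iterate_add_apply]
    have hmod : A.π^[l + k] v = A.π^[(l + k) % r] v :=
      (Function.IsPeriodicPt.iterate_mod_apply (A.period v) (l + k)).symm
    rw [hmod]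
    exact hmin _ (Finset.mem_range.2 (Nat.mod_lt _ hr.pos))
  · rw [← Function.iterate_add_apply, Nat.sub_add_cancel hk.le, A.period]

theorem Act.fixed_of_iterate {w : V} {k : ℕ} (hk : ¬ r ∣ k) (h : A.π^[k] w = w) : A.π w = w := by
  have := Function.IsPeriodicPt.gcd (show Function.IsPeriodicPt A.π k w from h)
    (show Function.IsPeriodicPt A.π r w from A.period w)
  rw [Nat.Coprime.gcd_eq_one ((Nat.coprime_comm).1 (hr.coprime_iff_not_dvd.2 hk))] at this
  exact this

/-- An invariant set of moved products consists of full orbits. -/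
theorem Act.card_moved (Q : V → Prop) [DecidablePred Q] (hQ : ∀ v, Q (A.π v) ↔ Q v) :
    (Finset.univ.filter fun v => Q v ∧ A.π v ≠ v).card =
      r * (A.reps.filter fun v => Q v ∧ A.π v ≠ v).card := by
  classical
  have hQi : ∀ k v, Q (A.π^[k] v) ↔ Q v := fun k => by
    induction k with
    | zero => exact fun v => Iff.rfl
    | succ k ih => intro v; rw [Function.iterate_succ_apply', hQ, ih]
  have hmv : ∀ k v, A.π v ≠ v → A.π (A.π^[k] v) ≠ A.π^[k] v := by
    intro k v hv e
    refine hv ?_
    have h1 : A.π^[r * k] v = v := (show Function.IsPeriodicPt A.π r v from A.period v).mul_const k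
    have h3 := A.iterate_fixed e (r * k - k)
    rw [← Function.iterate_add_apply, Nat.sub_add_cancel (Nat.le_mul_of_pos_left k hr.pos), h1] at h3
    rw [← h3] at e
    exact e
  rw [show r * (A.reps.filter fun v => Q v ∧ A.π v ≠ v).card =
    ((Finset.range r) ×ˢ (A.reps.filter fun v => Q v ∧ A.π v ≠ v)).card by rw [Finset.card_product, Finset.card_range]]
  symm
  refine Finset.card_bij (fun p _ => A.π^[p.1] p.2) ?_ ?_ ?_
  · intro p hp
    simp only [Finset.mem_product, Finset.mem_filter, Finset.mem_range] at hp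
    simp only [Finset.mem_filter, Finset.mem_univ, true_and]
    exact ⟨(hQi _ _).2 hp.2.2.1, hmv _ _ hp.2.2.2⟩
  · rintro ⟨k, w⟩ hp ⟨l, w'⟩ hp' e
    simp only [Finset.mem_product, Finset.mem_filter, Finset.mem_range, Act.reps, Finset.mem_univ, true_and] at hp hp'
    simp only at e
    obtain ⟨hk, hw, -, hm⟩ := hp
    obtain ⟨hl, hw', -, -⟩ := hp'
    have e1 : A.π^[(r - l + k) % r] w = w' := by
      rw [Function.IsPeriodicPt.iterate_mod_apply (A.period w), Function.iterate_add_apply, e,
        ← Function.iterate_add_apply, Nat.sub_add_cancel hl.le, A.period]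
    have e2 : A.π^[(r - k + l) % r] w' = w := by
      rw [Function.IsPeriodicPt.iterate_mod_apply (A.period w'), Function.iterate_add_apply, ← e,
        ← Function.iterate_add_apply, Nat.sub_add_cancel hk.le, A.period]
    have hww : w = w' := pos_injective (le_antisymm (e1 ▸ hw _ (Nat.mod_lt _ hr.pos))
      (e2 ▸ hw' _ (Nat.mod_lt _ hr.pos)))
    subst hww
    refine Prod.ext ?_ rfl
    show k = l
    by_contra hne
    refine hm (A.fixed_of_iterate hr (k := (r - l + k) % r) (fun hd => ?_) e1)
    have hlt := Nat.mod_lt (r - l + k) hr.pos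
    have h0 := Nat.eq_zero_of_dvd_of_lt hd hlt
    rcases Nat.lt_or_ge (r - l + k) r with h5 | h5
    · rw [Nat.mod_eq_of_lt h5] at h0; omega
    · rw [Nat.mod_eq_sub_mod h5, Nat.mod_eq_of_lt (by omega)] at h0; omega
  · intro v hv
    simp only [Finset.mem_filter, Finset.mem_univ, true_and] at hv
    obtain ⟨w, hw, k, rfl⟩ := A.exists_rep hr v
    refine ⟨(k % r, w), ?_, Function.IsPeriodicPt.iterate_mod_apply (A.period w) k⟩
    simp only [Finset.mem_product, Finset.mem_filter, Finset.mem_range]
    refine ⟨Nat.mod_lt _ hr.pos, hw, (hQi _ _).1 hv.1, fun e => hv.2 ?_⟩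
    rw [A.iterate_fixed e, e]

theorem Act.fix_add : A.fix + r * (A.reps.filter fun v => A.π v ≠ v).card = 16 := by
  have := A.card_moved hr (fun _ => True) (fun _ => Iff.rfl)
  simp only [true_and] at this
  rw [← this, Act.fix, Finset.card_filter_add_card_filter_not]
  rfl

omit hr
include h2 h4

/-- If every product is fixed the element is a scalar. -/
theorem Act.scalar_of_fix (h : A.fix = 16) : ∃ z : F, (g : Matrix ι ι F) = z • 1 := by
  have hall : ∀ v, A.π v = v := fun v => by
    have : (Finset.univ.filter fun v => A.π v = v) = Finset.univ := Finset.eq_univ_of_card _ h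
    exact (Finset.filter_eq_self.1 this) v (Finset.mem_univ v)
  have hc : ∀ v, (g : Matrix ι ι F) * f.M v = f.M v * g := fun v => by
    rw [A.eq, A.one v (hall v), one_smul, hall]
  exact f.scalar_of_comm h2 h4 (by rw [f.a_eq]; exact hc _) (by rw [f.b_eq]; exact hc _)
    (by rw [f.c_eq]; exact hc _) (by rw [f.d_eq]; exact hc _)

/-- The traces. -/
theorem Act.trace_mul : ((A.fix : ℕ) : F) = (g : Matrix ι ι F).trace * ((g⁻¹ : GL ι F) : Matrix ι ι F).trace := by
  classical
  obtain ⟨L, hL⟩ : ∃ L : Matrix ι ι F →ₗ[F] Matrix ι ι F, L =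
      (LinearMap.mulLeft F (g : Matrix ι ι F)).comp (LinearMap.mulRight F ((g⁻¹ : GL ι F) : Matrix ι ι F)) := ⟨_, rfl⟩
  have t1 : LinearMap.trace F _ L = ((A.fix : ℕ) : F) := by
    rw [LinearMap.trace_eq_matrix_trace F (f.basis h2 h4), Matrix.trace]
    have e : ∀ v, (f.basis h2 h4).repr (L (f.basis h2 h4 v)) v = if A.π v = v then 1 else 0 := fun v => by
      rw [hL, LinearMap.comp_apply, LinearMap.mulLeft_apply, LinearMap.mulRight_apply, f.basis_apply, ← mul_assoc,
        A.eq, smul_mul_assoc, mul_assoc, Units.mul_inv, mul_one, map_smul, ← f.basis_apply h2 h4,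
        Module.Basis.repr_self, Finsupp.smul_single, smul_eq_mul, mul_one, Finsupp.single_apply]
      split_ifs with hh
      · exact A.one v hh
      · rfl
    simp only [Matrix.diag_apply, LinearMap.toMatrix_apply, e, Finset.sum_boole, Act.fix]
  rw [← t1, LinearMap.trace_eq_matrix_trace F (Matrix.stdBasis F ι ι), Matrix.trace, Fintype.sum_prod_type,
    Matrix.trace, Matrix.trace, Finset.sum_mul_sum]
  refine Finset.sum_congr rfl fun i _ => Finset.sum_congr rfl fun j _ => ?_
  rw [Matrix.diag_apply, LinearMap.toMatrix_apply, Matrix.stdBasis_eq_single, hL, LinearMap.comp_apply,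
    LinearMap.mulLeft_apply, LinearMap.mulRight_apply]
  simp [Matrix.stdBasis, Pi.basis, Matrix.mul_apply, Matrix.single_apply, ite_and]

include hr in
/-- The commutant is no larger than the number of orbits. -/
theorem Act.card_le {κ : Type*} [Fintype κ] {X : κ → Matrix ι ι F} (hX : LinearIndependent F X)
    (hc : ∀ k, (g : Matrix ι ι F) * X k = X k * g) :
    Fintype.card κ ≤ A.fix + (A.reps.filter fun v => A.π v ≠ v).card := by
  classical
  let b := f.basis h2 h4
  let C : Submodule F (Matrix ι ι F) :=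
    { carrier := {Y | (g : Matrix ι ι F) * Y = Y * g}
      zero_mem' := by simp
      add_mem' := fun {a c} ha hc => by
        show _ * (a + c) = _
        rw [mul_add, add_mul, ha, hc]
      smul_mem' := fun t a ha => by
        show _ * (t • a) = _
        rw [mul_smul_comm, smul_mul_assoc, ha] }
  have hcoef : ∀ Y ∈ C, ∀ v, b.repr Y (A.π v) = A.s v * b.repr Y v := by
    intro Y hY v
    have e : ∑ w, (b.repr Y w * A.s w) • f.M (A.π w) = Y := g.isUnit.mul_right_cancel (by
      rw [Finset.sum_mul, ← hY]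
      conv_rhs => rw [← b.sum_repr Y, Finset.mul_sum]
      refine Finset.sum_congr rfl fun w _ => ?_
      rw [show b w = f.M w from f.basis_apply h2 h4 w, mul_smul_comm, A.eq, smul_smul, smul_mul_assoc])
    have hinj : Function.Injective A.π := by
      intro a c h
      rw [← A.period a, ← A.period c]
      rcases r with _ | r
      · exact (hr.ne_zero rfl).elim
      · rw [Function.iterate_succ_apply, Function.iterate_succ_apply, h]
    conv_lhs => rw [← e]
    simp only [map_sum, map_smul, ← f.basis_apply h2 h4, b, Module.Basis.repr_self, Finset.sum_apply',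
      Finsupp.smul_apply, Finsupp.single_apply, smul_eq_mul, mul_ite, mul_one, mul_zero, hinj.eq_iff,
      Finset.sum_ite_eq', Finset.mem_univ, if_true, ite_mul, one_mul, zero_mul]
    ring
  let Φ : C →ₗ[F] (A.reps → F) :=
    { toFun := fun Y w => b.repr Y.1 w.1
      map_add' := fun a c => by ext w; simp
      map_smul' := fun t a => by ext w; simp }
  have hΦ : Function.Injective Φ := by
    rw [injective_iff_map_eq_zero]
    intro Y hY
    refine Subtype.ext (b.repr.injective ?_)
    rw [Submodule.coe_zero, _root_.map_zero]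
    refine Finsupp.ext fun v => ?_
    obtain ⟨w, hw, k, rfl⟩ := A.exists_rep hr v
    clear_value b
    induction k with
    | zero => exact congrFun hY ⟨w, hw⟩
    | succ k ih => rw [Function.iterate_succ_apply', hcoef _ Y.2, ih, Finsupp.zero_apply, mul_zero]; rfl
  have h1 := LinearMap.finrank_le_finrank_of_injective hΦ
  rw [Module.finrank_pi, Fintype.card_coe] at h1
  have h3 : LinearIndependent F (fun k => (⟨X k, hc k⟩ : C)) := LinearIndependent.of_comp C.subtype hX
  refine (h3.fintype_card_le_finrank.trans h1).trans ?_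
  rw [← Finset.card_filter_add_card_filter_not (s := A.reps) (fun v => A.π v = v), Act.fix]
  exact Nat.add_le_add_right (Finset.card_le_card fun v hv =>
    Finset.mem_filter.2 ⟨Finset.mem_univ v, (Finset.mem_filter.1 hv).2⟩) _

end CfsgLib.Pauli
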