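import Mathlib

set_option autoImplicit false
set_option linter.unusedSectionVars false

/-!
Normal forms for involutions and for elements of order three and five in dimension four, and conjugating elements of
determinant one.
-/

namespace CfsgLib.Pauli

open Matrix
open scoped MatrixGroups

variable {F : Type*} [Field F] {ι : Type} [Fintype ι] [DecidableEq ι]

/-- The matrices commuting with `C` have every non-zero determinant. -/
def DetOnto {κ : Type} [Fintype κ] [DecidableEq κ] (C : Matrix κ κ F) : Prop :=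
  ∀ d : F, d ≠ 0 → ∃ S : Matrix κ κ F, S * C = C * S ∧ S.det = d

/-- Two matrices with the same matrix in two bases are conjugate by an element of determinant one. -/
theorem conj_sl {κ : Type} [Fintype κ] [DecidableEq κ] {X Y : Matrix ι ι F} (b c : Module.Basis κ F (ι → F))
    (C : Matrix κ κ F) (hb : ∀ k, X *ᵥ b k = ∑ l, C l k • b l) (hc : ∀ k, Y *ᵥ c k = ∑ l, C l k • c l)
    (hC : DetOnto C) : ∃ g : GL ι F, g.1.det = 1 ∧ X * g.1 = g.1 * Y := by
  have ε : κ ≃ ι := b.indexEquiv (Pi.basisFun F ι)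
  let B : Module.Basis κ F (ι → F) → Matrix ι ι F := fun b => Matrix.of fun i j => b (ε.symm j) i
  have hB : ∀ (b : Module.Basis κ F (ι → F)) (Z : Matrix ι ι F), (∀ k, Z *ᵥ b k = ∑ l, C l k • b l) →
      Z * B b = B b * C.submatrix ε.symm ε.symm := by
    intro b Z h
    ext i j
    have e := congrFun (h (ε.symm j)) i
    simp only [Matrix.mulVec, dotProduct, Finset.sum_apply, Pi.smul_apply, smul_eq_mul] at e
    simp only [Matrix.mul_apply, B, Matrix.of_apply, Matrix.submatrix_apply]
    rw [e]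
    exact Fintype.sum_equiv ε _ _ fun l => by rw [ε.symm_apply_apply, mul_comm]
  have hdet : ∀ b : Module.Basis κ F (ι → F), (B b).det ≠ 0 := by
    intro b
    have hli : LinearIndependent F (fun j => b (ε.symm j)) := b.linearIndependent.comp _ ε.symm.injective
    have h := (Matrix.linearIndependent_cols_iff_isUnit (A := B b)).1 hli
    exact ((Matrix.isUnit_iff_isUnit_det _).1 h).ne_zero
  obtain ⟨S, hS, hSd⟩ := hC ((B b).det⁻¹ * (B c).det) (mul_ne_zero (inv_ne_zero (hdet b)) (hdet c))
  obtain ⟨g, hg⟩ : ∃ g, g = B b * S.submatrix ε.symm ε.symm * (B c)⁻¹ := ⟨_, rfl⟩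
  have hgd : g.det = 1 := by
    rw [hg, Matrix.det_mul, Matrix.det_mul, Matrix.det_submatrix_equiv_self, hSd, Matrix.det_nonsing_inv,
      Ring.inverse_eq_inv]
    have h1 := hdet b
    have h2 := hdet c
    field_simp
  refine ⟨GeneralLinearGroup.mkOfDetNeZero g (hgd ▸ one_ne_zero), hgd, ?_⟩
  show X * g = g * Y
  have hS' : S.submatrix ε.symm ε.symm * C.submatrix ε.symm ε.symm =
      C.submatrix ε.symm ε.symm * S.submatrix ε.symm ε.symm := by
    rw [Matrix.submatrix_mul_equiv, Matrix.submatrix_mul_equiv, hS]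
  have hu : IsUnit (B c).det := (hdet c).isUnit
  have e : (B c)⁻¹ * Y = C.submatrix ε.symm ε.symm * (B c)⁻¹ := by
    have e1 := congrArg (fun Z => (B c)⁻¹ * (Z * (B c)⁻¹)) (hB c Y hc)
    simpa only [Matrix.mul_assoc, Matrix.mul_nonsing_inv _ hu, Matrix.mul_one, ← Matrix.mul_assoc (B c)⁻¹ (B c),
      Matrix.nonsing_inv_mul _ hu, Matrix.one_mul] using e1
  rw [hg, ← Matrix.mul_assoc, ← Matrix.mul_assoc, hB b X hb, Matrix.mul_assoc (B b * _) _ Y, e,
    Matrix.mul_assoc (B b) (C.submatrix _ _), ← hS', ← Matrix.mul_assoc, ← Matrix.mul_assoc]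

/-- A basis from four independent vectors. -/
theorem exists_basis4 (h4 : Fintype.card ι = 4) {v : Fin 4 → ι → F} (h : LinearIndependent F v) :
    ∃ b : Module.Basis (Fin 4) F (ι → F), ∀ k, b k = v k :=
  ⟨basisOfLinearIndependentOfCardEqFinrank h (by rw [Fintype.card_fin, Module.finrank_pi, h4]), fun k => by simp⟩

/-- The diagonal of signs with `k` ones. -/
def signs (F : Type*) [Field F] (k : ℕ) : Matrix (Fin 4) (Fin 4) F :=
  Matrix.diagonal fun j => if j.1 < k then 1 else -1

theorem detOnto_diag {κ : Type} [Fintype κ] [DecidableEq κ] [Nonempty κ] (d : κ → F) :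
    DetOnto (Matrix.diagonal d) := by
  intro t _
  obtain ⟨k⟩ := ‹Nonempty κ›
  refine ⟨Matrix.diagonal (Function.update 1 k t), ?_, ?_⟩
  · rw [Matrix.diagonal_mul_diagonal, Matrix.diagonal_mul_diagonal]
    exact congrArg _ (funext fun i => mul_comm _ _)
  · rw [Matrix.det_diagonal, Finset.prod_update_of_mem (Finset.mem_univ k)]
    simp

/-- The normal form of an involution. -/
theorem exists_signs (h2 : (2 : F) ≠ 0) (h4 : Fintype.card ι = 4) {X : Matrix ι ι F} (hX : X * X = 1) :
    ∃ (b : Module.Basis (Fin 4) F (ι → F)) (k : ℕ), k ≤ 4 ∧ (∀ j, X *ᵥ b j = ∑ l, signs F k l j • b l) ∧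
      X.trace = 2 * (k : F) - 4 := by
  classical
  let f := Matrix.toLin' X
  let P := LinearMap.ker (f - LinearMap.id)
  let M := LinearMap.ker (f + LinearMap.id)
  have hff : ∀ v, f (f v) = v := fun v => by
    simp only [f, Matrix.toLin'_apply, Matrix.mulVec_mulVec, hX, Matrix.one_mulVec]
  have hPM : IsCompl P M := by
    refine IsCompl.of_eq ?_ ?_
    · rw [Submodule.eq_bot_iff]
      rintro v ⟨h1, h3⟩
      simp only [P, M, SetLike.mem_coe, LinearMap.mem_ker, LinearMap.sub_apply, LinearMap.add_apply,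
        LinearMap.id_apply, sub_eq_zero] at h1 h3
      rw [h1, ← two_smul F] at h3
      exact (smul_eq_zero.1 h3).resolve_left h2
    · rw [eq_top_iff]
      intro v _
      have e : v = (2 : F)⁻¹ • (f v + v) + (2 : F)⁻¹ • (v - f v) := by
        rw [← smul_add, show f v + v + (v - f v) = (2 : F) • v by rw [two_smul]; abel, smul_smul, inv_mul_cancel₀ h2,
          one_smul]
      rw [e]
      refine Submodule.add_mem_sup (Submodule.smul_mem _ _ ?_) (Submodule.smul_mem _ _ ?_)
      · simp only [P, LinearMap.mem_ker, LinearMap.sub_apply, LinearMap.id_apply, map_add, hff]; abel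
      · simp only [M, LinearMap.mem_ker, LinearMap.add_apply, LinearMap.id_apply, map_sub, hff]; abel
  obtain ⟨k, hk⟩ : ∃ k, k = Module.finrank F P := ⟨_, rfl⟩
  obtain ⟨l, hl⟩ : ∃ l, l = Module.finrank F M := ⟨_, rfl⟩
  have hkl : k + l = 4 := by rw [hk, hl, Submodule.finrank_add_eq_of_isCompl hPM, Module.finrank_pi, h4]
  let bP := (Module.finBasis F P).reindex (finCongr hk.symm)
  let bM := (Module.finBasis F M).reindex (finCongr hl.symm)
  let b := (((bP.prod bM).map (Submodule.prodEquivOfIsCompl P M hPM)).reindex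
    (finSumFinEquiv.trans (finCongr hkl)))
  have hb : ∀ j, f (b j) = (if j.1 < k then (1 : F) else -1) • b j := by
    intro j
    obtain ⟨s, rfl⟩ := (finSumFinEquiv.trans (finCongr hkl)).surjective j
    rcases s with i | i
    · have hv : b ((finSumFinEquiv.trans (finCongr hkl)) (Sum.inl i)) = (bP i : ι → F) := by simp [b]
      have hmem := (bP i).2
      simp only [P, LinearMap.mem_ker, LinearMap.sub_apply, LinearMap.id_apply, sub_eq_zero] at hmem
      rw [hv, hmem, if_pos (by simp), one_smul]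
    · have hv : b ((finSumFinEquiv.trans (finCongr hkl)) (Sum.inr i)) = (bM i : ι → F) := by simp [b]
      have hmem := (bM i).2
      simp only [M, LinearMap.mem_ker, LinearMap.add_apply, LinearMap.id_apply] at hmem
      rw [hv, eq_neg_of_add_eq_zero_left hmem, if_neg (by simp), neg_one_smul]
  refine ⟨b, k, by omega, fun j => ?_, ?_⟩
  · rw [Finset.sum_eq_single j (fun l _ hl => by simp [signs, Matrix.diagonal_apply, hl]) (by simp)]
    simp only [signs, Matrix.diagonal_apply_eq]
    exact hb j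
  · rw [← Matrix.trace_toLin'_eq, LinearMap.trace_eq_matrix_trace F b, Matrix.trace]
    simp only [Matrix.diag_apply, LinearMap.toMatrix_apply]
    rw [Finset.sum_congr rfl fun j _ => show b.repr (f (b j)) j = if j.1 < k then (1 : F) else -1 by
      rw [hb, map_smul, Module.Basis.repr_self, Finsupp.smul_single, smul_eq_mul, mul_one, Finsupp.single_eq_same]]
    have key : ∀ k : ℕ, k ≤ 4 → ∑ j : Fin 4, (if j.1 < k then (1 : F) else -1) = 2 * (k : F) - 4 := by
      intro k hk
      interval_cases k <;> simp [Fin.sum_univ_four] <;> ring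
    exact key k (by omega)

/-- The block matrix of a quadratic element. -/
def pairsC (s t : F) : Matrix (Fin 4) (Fin 4) F := !![0, t, 0, 0; 1, s, 0, 0; 0, 0, 0, t; 0, 0, 1, s]

/-- The block matrix with a fixed plane. -/
def planeC (s t : F) : Matrix (Fin 4) (Fin 4) F := !![1, 0, 0, 0; 0, 1, 0, 0; 0, 0, 0, t; 0, 0, 1, s]

theorem detOnto_planeC (s t : F) : DetOnto (planeC s t) := by
  intro d _
  refine ⟨Matrix.diagonal ![d, 1, 1, 1], ?_, ?_⟩
  · ext i j
    fin_cases i <;> fin_cases j <;> simp [planeC, Matrix.mul_apply, Fin.sum_univ_four]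
  · simp [Matrix.det_diagonal, Fin.prod_univ_four]

/-- The combination `c₀ + c₁ X` on the first pair. -/
theorem detOnto_pairsC [Finite F] (h2 : (2 : F) ≠ 0) (s t : F) (hdisc : s * s + 4 * t ≠ 0) :
    DetOnto (pairsC s t) := by
  classical
  haveI := Fintype.ofFinite F
  intro d _
  obtain ⟨u, w, huw⟩ : ∃ u w : F, u * u + s * u * w - t * (w * w) = d := by
    obtain ⟨a, c, hac⟩ := FiniteField.exists_root_sum_quadratic (f := Polynomial.X ^ 2)
      (g := Polynomial.C (-(s * s + 4 * t) / 4) * Polynomial.X ^ 2 - Polynomial.C d)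
      (by rw [Polynomial.degree_X_pow]; rfl)
      (by
        have h40 : (4 : F) ≠ 0 := by rw [show (4 : F) = 2 * 2 by norm_num]; exact mul_ne_zero h2 h2
        rw [Polynomial.degree_sub_eq_left_of_degree_lt] <;>
          rw [Polynomial.degree_C_mul_X_pow 2 (div_ne_zero (neg_ne_zero.2 hdisc) h40)]
        · rfl
        · exact lt_of_le_of_lt Polynomial.degree_C_le (by norm_num))
      (FiniteField.odd_card_of_char_ne_two fun hc => h2 (by
        haveI := ringChar.charP F
        rw [hc] at this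
        exact CharP.cast_eq_zero F 2))
    refine ⟨a - s * c / 2, c, ?_⟩
    simp only [Polynomial.eval_pow, Polynomial.eval_X, Polynomial.eval_sub, Polynomial.eval_mul,
      Polynomial.eval_C] at hac
    have h40 : (4 : F) ≠ 0 := by rw [show (4 : F) = 2 * 2 by norm_num]; exact mul_ne_zero h2 h2
    field_simp at hac ⊢
    linear_combination hac
  refine ⟨!![u, t * w, 0, 0; w, u + s * w, 0, 0; 0, 0, 1, 0; 0, 0, 0, 1], ?_, ?_⟩
  · ext i j
    fin_cases i <;> fin_cases j <;> simp [pairsC, Matrix.mul_apply, Fin.sum_univ_four] <;> ring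
  · rw [Matrix.det_succ_row_zero]
    simp [Fin.sum_univ_succ, Matrix.det_succ_row_zero, Fin.succAbove, Matrix.submatrix]
    linear_combination huw

/-- A pair `u, Xu` outside an invariant subspace, for a quadratic element without eigenvalues. -/
theorem pair_indep {X : Matrix ι ι F} {s t : F} (hns : ∀ c : F, c * c ≠ s * c + t) (S : Submodule F (ι → F))
    (hS : ∀ v ∈ S, X *ᵥ v ∈ S) {w : ι → F} (hq : X *ᵥ (X *ᵥ w) = s • (X *ᵥ w) + t • w) (hw : w ∉ S) {a b : F}
    (hab : a • w + b • (X *ᵥ w) ∈ S) : a = 0 ∧ b = 0 := by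
  by_cases hb : b = 0
  · subst hb
    rw [zero_smul, add_zero] at hab
    exact ⟨by_contra fun ha => hw ((Submodule.smul_mem_iff _ ha).1 hab), rfl⟩
  exfalso
  -- `X w ≡ c w`
  obtain ⟨c, hc⟩ : ∃ c, c = -(a / b) := ⟨_, rfl⟩
  have h1 : X *ᵥ w - c • w ∈ S := by
    have := S.smul_mem b⁻¹ hab
    rw [smul_add, smul_smul, smul_smul, inv_mul_cancel₀ hb, one_smul, add_comm] at this
    rwa [hc, neg_smul, sub_neg_eq_add, div_eq_inv_mul]
  have h3 := hS _ h1
  rw [Matrix.mulVec_sub, Matrix.mulVec_smul, hq] at h3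
  have h5 : (c * c - (s * c + t)) • w ∈ S := by
    have := S.sub_mem (S.smul_mem (s - c) h1) h3
    convert this using 1
    module
  exact hw ((Submodule.smul_mem_iff _ (sub_ne_zero.2 (hns c))).1 h5)

/-- An element killed by an irreducible quadratic. -/
theorem exists_pairs (h4 : Fintype.card ι = 4) {X : Matrix ι ι F} {s t : F} (hns : ∀ c : F, c * c ≠ s * c + t)
    (hq : ∀ v, X *ᵥ (X *ᵥ v) = s • (X *ᵥ v) + t • v) :
    ∃ b : Module.Basis (Fin 4) F (ι → F), ∀ j, X *ᵥ b j = ∑ l, pairsC s t l j • b l := by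
  classical
  haveI : Nonempty ι := Fintype.card_pos_iff.1 (by omega)
  obtain ⟨u, hu⟩ := exists_ne (0 : ι → F)
  obtain ⟨S, hS⟩ : ∃ S, S = Submodule.span F ({u, X *ᵥ u} : Set (ι → F)) := ⟨_, rfl⟩
  have hSi : ∀ v ∈ S, X *ᵥ v ∈ S := by
    intro v hv
    rw [hS, Submodule.mem_span_pair] at hv ⊢
    obtain ⟨a, b, rfl⟩ := hv
    exact ⟨b * t, a + b * s, by rw [Matrix.mulVec_add, Matrix.mulVec_smul, Matrix.mulVec_smul, hq]; module⟩
  obtain ⟨w, hw⟩ : ∃ w, w ∉ S := by
    by_contra hall
    push Not at hall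
    have h1 : S = ⊤ := Submodule.eq_top_iff'.2 hall
    have h3 := congrArg (fun T : Submodule F (ι → F) => Module.finrank F T) h1
    simp only [finrank_top, Module.finrank_pi, h4] at h3
    have := finrank_span_le_card (R := F) ({u, X *ᵥ u} : Set (ι → F))
    rw [← hS, h3] at this
    have hle := Finset.card_le_two (a := u) (b := X *ᵥ u)
    simp only [Set.toFinset_insert, Set.toFinset_singleton] at this
    omega
  have hli : LinearIndependent F ![u, X *ᵥ u, w, X *ᵥ w] := by
    rw [Fintype.linearIndependent_iff]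
    intro g hg
    simp only [Fin.sum_univ_four, Matrix.cons_val] at hg
    have h23 : g 2 • w + g 3 • (X *ᵥ w) ∈ S := by
      have e : g 2 • w + g 3 • (X *ᵥ w) = (-g 0) • u + (-g 1) • (X *ᵥ u) := by
        rw [← sub_eq_zero, ← hg]; module
      rw [e, hS]
      exact Submodule.mem_span_pair.2 ⟨_, _, rfl⟩
    obtain ⟨e2, e3⟩ := pair_indep hns S hSi (hq w) hw h23
    rw [e2, e3, zero_smul, add_zero, zero_smul, add_zero] at hg
    obtain ⟨e0, e1⟩ := pair_indep hns ⊥ (by simp) (hq u) (by simpa using hu) (a := g 0) (b := g 1) (by simpa using hg)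
    intro i
    fin_cases i <;> assumption
  obtain ⟨b, hb⟩ := exists_basis4 h4 hli
  refine ⟨b, fun j => ?_⟩
  simp only [hb, Fin.sum_univ_four]
  fin_cases j <;> simp [pairsC, hq, add_comm]

/-- An element of order three without primitive roots of unity in the field. -/
theorem exists_order_three (h3 : (3 : F) ≠ 0) (h4 : Fintype.card ι = 4) {X : Matrix ι ι F} (hX : X ^ 3 = 1)
    (hX1 : X ≠ 1) (hns : ∀ c : F, c * c ≠ (-1) * c + (-1)) :
    (∃ b : Module.Basis (Fin 4) F (ι → F), ∀ j, X *ᵥ b j = ∑ l, pairsC (-1 : F) (-1) l j • b l) ∨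
    (∃ b : Module.Basis (Fin 4) F (ι → F), ∀ j, X *ᵥ b j = ∑ l, planeC (-1 : F) (-1) l j • b l) := by
  classical
  let f := Matrix.toLin' X
  let Q : (ι → F) →ₗ[F] (ι → F) := f ∘ₗ f + f + LinearMap.id
  let U := LinearMap.ker Q
  have h3X : ∀ v, f (f (f v)) = v := fun v => by
    simp only [f, Matrix.toLin'_apply, Matrix.mulVec_mulVec]
    rw [show X * (X * X) = X ^ 3 by rw [pow_succ, pow_two, Matrix.mul_assoc], hX, Matrix.one_mulVec]
  have hU : ∀ {v}, v ∈ U ↔ f (f v) = (-1 : F) • f v + (-1 : F) • v := fun {v} => by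
    show f (f v) + f v + v = 0 ↔ _
    constructor <;> intro h <;> linear_combination (norm := module) h
  have hfix : ∀ v, f (Q v) = Q v := fun v => by
    show f (f (f v) + f v + v) = f (f v) + f v + v
    rw [map_add, map_add, h3X]; abel
  have hUi : ∀ v ∈ U, f v ∈ U := fun v hv => by
    show f (f (f v)) + f (f v) + f v = 0
    rw [h3X, ← hv]
    show v + f (f v) + f v = f (f v) + f v + v
    abel
  obtain ⟨u, hu, hu0⟩ : ∃ u ∈ U, u ≠ 0 := by
    by_contra hall
    push Not at hall
    refine hX1 (Matrix.toLin'.injective ?_)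
    rw [Matrix.toLin'_one]
    refine LinearMap.ext fun v => sub_eq_zero.1 (hall _ ?_)
    show f (f (f v - v)) + f (f v - v) + (f v - v) = 0
    rw [map_sub, map_sub, h3X]; abel
  by_cases hall : ∀ v, v ∈ U
  · exact Or.inl (exists_pairs h4 hns fun v => by
      have := hU.1 (hall v)
      simpa [f, Matrix.toLin'_apply] using this)
  push Not at hall
  right
  obtain ⟨v, hv⟩ := hall
  -- a fixed vector
  obtain ⟨p, hp⟩ : ∃ p, p = Q v := ⟨_, rfl⟩
  have hp0 : p ≠ 0 := hp ▸ hv
  have hpf : f p = p := hp ▸ hfix v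
  have hPU : ∀ z, f z = z → z ∈ U → z = 0 := fun z h1 h5 => by
    have : (3 : F) • z = 0 := by
      have h6 : f (f z) + f z + z = 0 := h5
      rw [h1, h1] at h6
      rw [← h6]; module
    exact (smul_eq_zero.1 this).resolve_left h3
  by_cases hall2 : ∀ z, f z = z → ∃ c : F, z = c • p
  · exfalso
    -- then the kernel has dimension three
    have hcodim : 3 ≤ Module.finrank F U := by
      have h1 := LinearMap.finrank_range_add_finrank_ker Q
      rw [Module.finrank_pi, h4] at h1
      have h5 : Module.finrank F (LinearMap.range Q) ≤ 1 := by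
        refine le_trans (Submodule.finrank_mono (t := Submodule.span F ({p} : Set (ι → F))) ?_) ?_
        · rintro _ ⟨z, rfl⟩
          obtain ⟨c, hc⟩ := hall2 _ (hfix z)
          exact Submodule.mem_span_singleton.2 ⟨c, hc.symm⟩
        · rw [finrank_span_singleton hp0]
      show 3 ≤ Module.finrank F (LinearMap.ker Q)
      omega
    obtain ⟨S, hS⟩ : ∃ S, S = Submodule.span F ({u, X *ᵥ u} : Set (ι → F)) := ⟨_, rfl⟩
    have hSU : S ≤ U := by
      rw [hS, Submodule.span_le]
      rintro z (rfl | rfl)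
      · exact hu
      · exact hUi _ hu
    have hSi : ∀ z ∈ S, X *ᵥ z ∈ S := by
      intro z hz
      have hz' := hz
      rw [hS, Submodule.mem_span_pair] at hz' ⊢
      obtain ⟨a, b, rfl⟩ := hz'
      refine ⟨b * (-1), a + b * (-1), ?_⟩
      have := hU.1 hu
      simp only [f, Matrix.toLin'_apply] at this
      rw [Matrix.mulVec_add, Matrix.mulVec_smul, Matrix.mulVec_smul, this]
      module
    obtain ⟨w, hw, hwS⟩ : ∃ w ∈ U, w ∉ S := by
      by_contra h
      push Not at h
      have h1 := Submodule.finrank_mono (show U ≤ S from h)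
      have := finrank_span_le_card (R := F) ({u, X *ᵥ u} : Set (ι → F))
      rw [← hS] at this
      have hle := Finset.card_le_two (a := u) (b := X *ᵥ u)
      simp only [Set.toFinset_insert, Set.toFinset_singleton] at this
      omega
    have hqu := hU.1 hu
    have hqw := hU.1 hw
    simp only [f, Matrix.toLin'_apply] at hqu hqw
    have hli : LinearIndependent F ![u, X *ᵥ u, w, X *ᵥ w] := by
      rw [Fintype.linearIndependent_iff]
      intro g hg
      simp only [Fin.sum_univ_four, Matrix.cons_val] at hg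
      have h23 : g 2 • w + g 3 • (X *ᵥ w) ∈ S := by
        have e : g 2 • w + g 3 • (X *ᵥ w) = (-g 0) • u + (-g 1) • (X *ᵥ u) := by
          rw [← sub_eq_zero, ← hg]; module
        rw [e, hS]
        exact Submodule.mem_span_pair.2 ⟨_, _, rfl⟩
      obtain ⟨e2, e3⟩ := pair_indep hns S hSi hqw hwS h23
      rw [e2, e3, zero_smul, add_zero, zero_smul, add_zero] at hg
      obtain ⟨e0, e1⟩ := pair_indep hns ⊥ (by simp) hqu (by simpa using hu0) (a := g 0) (b := g 1)
        (by simpa using hg)
      intro i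
      fin_cases i <;> assumption
    have hle : Submodule.span F (Set.range ![u, X *ᵥ u, w, X *ᵥ w]) ≤ U := by
      rw [Submodule.span_le]
      rintro _ ⟨i, rfl⟩
      fin_cases i
      · exact hu
      · exact hUi _ hu
      · exact hw
      · exact hUi _ hw
    rw [hli.span_eq_top_of_card_eq_finrank (by rw [Fintype.card_fin, Module.finrank_pi, h4])] at hle
    exact hv (hle Submodule.mem_top)
  push Not at hall2
  obtain ⟨p', hpf', hp'⟩ := hall2
  have hqu := hU.1 hu
  simp only [f, Matrix.toLin'_apply] at hqu hpf hpf'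
  have hli : LinearIndependent F ![p, p', u, X *ᵥ u] := by
    rw [Fintype.linearIndependent_iff]
    intro g hg
    simp only [Fin.sum_univ_four, Matrix.cons_val] at hg
    have hz : g 0 • p + g 1 • p' = 0 := by
      refine hPU _ ?_ ?_
      · simp only [f, Matrix.toLin'_apply, Matrix.mulVec_add, Matrix.mulVec_smul, hpf, hpf']
      · rw [show g 0 • p + g 1 • p' = -(g 2 • u + g 3 • (X *ᵥ u)) by rw [← sub_eq_zero, ← hg]; module]
        exact U.neg_mem (U.add_mem (U.smul_mem _ hu) (U.smul_mem _ (hUi _ hu)))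
    rw [hz, zero_add] at hg
    obtain ⟨e2, e3⟩ := pair_indep hns ⊥ (by simp) hqu (by simpa using hu0) (a := g 2) (b := g 3) (by simpa using hg)
    have e1 : g 1 = 0 := by
      by_contra h1
      refine hp' (-(g 0 / g 1)) ?_
      have := congrArg ((g 1)⁻¹ • ·) hz
      simp only [smul_add, smul_smul, inv_mul_cancel₀ h1, one_smul, smul_zero] at this
      rw [eq_neg_of_add_eq_zero_right this, neg_smul, div_eq_inv_mul]
    rw [e1, zero_smul, add_zero, smul_eq_zero, or_iff_left hp0] at hz
    intro i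
    fin_cases i <;> assumption
  obtain ⟨b, hb⟩ := exists_basis4 h4 hli
  refine ⟨b, fun j => ?_⟩
  simp only [hb, Fin.sum_univ_four]
  fin_cases j <;> simp [planeC, hpf, hpf', hqu, add_comm]

/-- The companion matrix of the fifth cyclotomic polynomial. -/
def fiveC (F : Type*) [Field F] : Matrix (Fin 4) (Fin 4) F := !![0, 0, 0, -1; 1, 0, 0, -1; 0, 1, 0, -1; 0, 0, 1, -1]

theorem det_fiveC_sub_one : (fiveC F - 1).det = 5 := by
  rw [Matrix.det_succ_row_zero]
  simp [fiveC, Fin.sum_univ_succ, Matrix.det_succ_row_zero, Fin.succAbove, Matrix.submatrix, Matrix.one_apply]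
  ring

theorem fixed_of_small [Fintype F] {p : ℕ} (hp : Fintype.card F = p)
    (hord : ∀ k, 0 < k → k ≤ 3 → ¬ (p ^ k ≡ 1 [MOD 5])) (hp5 : ¬ 5 ∣ p) {W : Submodule F (ι → F)}
    (hW : Module.finrank F W ≤ 3) {f : (ι → F) →ₗ[F] (ι → F)} (hi : ∀ v ∈ W, f v ∈ W)
    (h5 : ∀ v ∈ W, f (f (f (f (f v)))) = v) : ∀ v ∈ W, f v = v := by
  classical
  intro v hv
  let g : W →ₗ[F] W := f.restrict hi
  let b := Module.finBasis F W
  let A := LinearMap.toMatrixAlgEquiv b g
  have hA : A ^ 5 = 1 := by
    rw [← map_pow, show g ^ 5 = 1 from LinearMap.ext fun w => Subtype.ext (by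
      simpa [g, pow_succ, Module.End.mul_apply] using h5 w w.2), map_one]
  let u : GL (Fin (Module.finrank F W)) F := ⟨A, A ^ 4, by rw [← pow_succ', hA], by rw [← pow_succ, hA]⟩
  suffices hu : u = 1 by
    have e := Units.ext_iff.1 hu
    simp only [u, Units.val_one, A, ← map_one (LinearMap.toMatrixAlgEquiv b)] at e
    have := congrArg (fun h : W →ₗ[F] W => ((h ⟨v, hv⟩ : W) : ι → F)) ((LinearMap.toMatrixAlgEquiv b).injective e)
    simpa [g] using this
  by_contra hu
  have ho : orderOf u = 5 := by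
    haveI : Fact (Nat.Prime 5) := ⟨by norm_num⟩
    exact orderOf_eq_prime (Units.ext (by simpa [u] using hA)) hu
  have hdvd := orderOf_dvd_natCard u
  rw [ho, Matrix.card_GL_field, hp, (by norm_num : Nat.Prime 5).prime.dvd_finsetProd_iff] at hdvd
  obtain ⟨i, -, hdi⟩ := hdvd
  have hlt := i.isLt
  obtain ⟨n, hn⟩ : ∃ n, n = Module.finrank F W := ⟨_, rfl⟩
  have hp0 : 0 < p := hp ▸ Fintype.card_pos
  have hle : p ^ (i : ℕ) ≤ p ^ Module.finrank F W := Nat.pow_le_pow_right hp0 hlt.le
  have hmod : p ^ (i : ℕ) ≡ p ^ Module.finrank F W [MOD 5] := (Nat.modEq_iff_dvd' hle).2 hdi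
  obtain ⟨k, hk⟩ := Nat.exists_eq_add_of_le hlt.le
  have hmod' : p ^ (i : ℕ) * 1 ≡ p ^ (i : ℕ) * p ^ k [MOD 5] := by rw [mul_one, ← pow_add, ← hk]; exact hmod
  refine hord k (by omega) (by omega) ?_
  refine (Nat.ModEq.cancel_left_of_coprime (c := p ^ (i : ℕ)) ?_ hmod').symm
  exact Nat.Coprime.pow_right _ (((by norm_num : Nat.Prime 5).coprime_iff_not_dvd).2 hp5)

/-- An element of order five when `5` has order four modulo the prime field. -/
theorem exists_order_five [Fintype F] {p : ℕ} (hp : Fintype.card F = p) (h50 : (5 : F) ≠ 0)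
    (hord : ∀ k, 0 < k → k ≤ 3 → ¬ (p ^ k ≡ 1 [MOD 5])) (hp5 : ¬ 5 ∣ p) (h4 : Fintype.card ι = 4)
    {X : Matrix ι ι F} (hX : X ^ 5 = 1) (hX1 : X ≠ 1) :
    ∃ b : Module.Basis (Fin 4) F (ι → F), ∀ j, X *ᵥ b j = ∑ l, fiveC F l j • b l := by
  classical
  haveI : Nonempty ι := Fintype.card_pos_iff.1 (by omega)
  let f := Matrix.toLin' X
  have h5X : ∀ v, f (f (f (f (f v)))) = v := fun v => by
    simp only [f, Matrix.toLin'_apply, Matrix.mulVec_mulVec]
    rw [show X * (X * (X * (X * X))) = X ^ 5 by simp [pow_succ, Matrix.mul_assoc], hX, Matrix.one_mulVec]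
  have hsmall : ∀ W : Submodule F (ι → F), (∀ v ∈ W, f v ∈ W) → Module.finrank F W ≤ 3 → ∀ v ∈ W, f v = v :=
    fun W hi hW => fixed_of_small hp hord hp5 hW hi fun v _ => h5X v
  have hnofix : ∀ v, f v = v → v = 0 := by
    intro v hv
    by_contra hv0
    refine hX1 ?_
    let R := LinearMap.range (f - LinearMap.id)
    have hR : Module.finrank F R ≤ 3 := by
      have h1 := LinearMap.finrank_range_add_finrank_ker (f - LinearMap.id)
      have h3 : 0 < Module.finrank F (LinearMap.ker (f - LinearMap.id)) :=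
        Module.finrank_pos_iff_exists_ne_zero.2 ⟨⟨v, by simp [hv]⟩, fun e => hv0 (congrArg Subtype.val e)⟩
      rw [Module.finrank_pi, h4] at h1
      show Module.finrank F (LinearMap.range (f - LinearMap.id)) ≤ 3
      omega
    have hRf := hsmall R (by rintro _ ⟨w, rfl⟩; exact ⟨f w, by simp⟩) hR
    refine Matrix.toLin'.injective ?_
    rw [Matrix.toLin'_one]
    refine LinearMap.ext fun w => ?_
    obtain ⟨d, hd⟩ : ∃ d, d = f w - w := ⟨_, rfl⟩
    have hdf : f d = d := hRf d ⟨w, by simp [hd]⟩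
    have hw : f w = w + d := by rw [hd]; abel
    have e := h5X w
    simp only [hw, map_add, hdf] at e
    have h0 : (5 : F) • d = 0 := by
      have := sub_eq_zero.2 e
      rw [← this]; module
    show f w = w
    rw [hw, (smul_eq_zero.1 h0).resolve_left h50, add_zero]
  obtain ⟨v, hv⟩ := exists_ne (0 : ι → F)
  have hsum : f (f (f (f v))) + f (f (f v)) + f (f v) + f v + v = 0 := hnofix _ (by
    simp only [map_add, h5X]; abel)
  obtain ⟨W, hW⟩ : ∃ W, W = Submodule.span F (Set.range ![v, f v, f (f v), f (f (f v))]) := ⟨_, rfl⟩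
  have hgen : ∀ i : Fin 4, (![v, f v, f (f v), f (f (f v))] : Fin 4 → ι → F) i ∈ W := fun i =>
    hW ▸ Submodule.subset_span ⟨i, rfl⟩
  have hWi : ∀ w ∈ W, f w ∈ W := by
    intro w hw
    rw [hW] at hw
    induction hw using Submodule.span_induction with
    | mem z hz =>
      obtain ⟨i, rfl⟩ := hz
      fin_cases i
      · exact hgen 1
      · exact hgen 2
      · exact hgen 3
      · show f (f (f (f v))) ∈ W
        rw [show f (f (f (f v))) = -(f (f (f v)) + f (f v) + f v + v) by rw [← sub_eq_zero, ← hsum]; abel]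
        exact W.neg_mem (W.add_mem (W.add_mem (W.add_mem (hgen 3) (hgen 2)) (hgen 1)) (hgen 0))
    | zero => rw [map_zero]; exact W.zero_mem
    | add a b _ _ ha hb => rw [map_add]; exact W.add_mem ha hb
    | smul c a _ ha => rw [map_smul]; exact W.smul_mem c ha
  have hli : LinearIndependent F ![v, f v, f (f v), f (f (f v))] := by
    rw [linearIndependent_iff_card_le_finrank_span, Fintype.card_fin]
    by_contra hlt
    refine hv (hnofix v (hsmall W hWi ?_ v (hgen 0)))
    show Module.finrank F W ≤ 3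
    rw [hW]
    unfold Set.finrank at hlt
    omega
  obtain ⟨b, hb⟩ := exists_basis4 h4 hli
  refine ⟨b, fun j => ?_⟩
  have h3 : f (f (f (f v))) = -v + (-f v + (-f (f v) + -f (f (f v)))) := by
    rw [← sub_eq_zero, ← hsum]; abel
  simp only [f, Matrix.toLin'_apply, Matrix.mulVec_mulVec] at h3
  simp only [hb, Fin.sum_univ_four, f, Matrix.toLin'_apply]
  fin_cases j <;> simp [fiveC, h3, add_assoc]

end CfsgLib.Pauli
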