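import Cfsg.Agent.Lib.Classical.Pauli.Witness
import Cfsg.Agent.Lib.Classical.Pauli.Similar

set_option autoImplicit false
set_option linter.unusedSectionVars false

/-!
Field facts and test elements used for the normalisers of symplectic-type groups in dimension four.
-/

namespace CfsgLib.Pauli

open Matrix
open scoped MatrixGroups

variable {F : Type*} [Field F]

theorem detMat {ι : Type} [Fintype ι] [DecidableEq ι] {κ : Type} [Fintype κ] [DecidableEq κ] {X : Matrix ι ι F}
    {b : Module.Basis κ F (ι → F)} {C : Matrix κ κ F} (hb : ∀ k, X *ᵥ b k = ∑ l, C l k • b l) :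
    X.det = C.det := by
  have e : LinearMap.toMatrix b b (Matrix.toLin' X) = C := by
    ext i j
    rw [LinearMap.toMatrix_apply, Matrix.toLin'_apply, hb, map_sum, Finset.sum_apply']
    simp only [map_smul, Module.Basis.repr_self, Finsupp.smul_single, smul_eq_mul, mul_one, Finsupp.single_apply,
      Finset.sum_ite_eq', Finset.mem_univ, if_true]
  rw [← LinearMap.det_toLin', ← LinearMap.det_toMatrix b, e]

theorem det_pairsC (s t : F) : (pairsC s t).det = t * t := by
  rw [Matrix.det_succ_row_zero]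
  simp [pairsC, Fin.sum_univ_succ, Matrix.det_succ_row_zero, Fin.succAbove, Matrix.submatrix]

variable [Fintype F]

/-- A root of a prime degree coprime to the order of the group of units. -/
theorem exists_root {r : ℕ} (hr : Nat.Coprime (Fintype.card F - 1) r) {z : F} (hz : z ≠ 0) :
    ∃ μ : F, μ ≠ 0 ∧ μ ^ r = z := by
  classical
  have hc : (Nat.card Fˣ).Coprime r := by rwa [Nat.card_eq_fintype_card, Fintype.card_units]
  obtain ⟨μ, hμ⟩ := (powCoprime hc).surjective (Units.mk0 z hz)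
  exact ⟨μ, μ.ne_zero, by
    have e : (μ : Fˣ) ^ r = Units.mk0 z hz := hμ
    simpa using congrArg Units.val e⟩

theorem eq_one_of_pow {r : ℕ} (hr0 : r ≠ 0) (hr : Nat.Coprime (Fintype.card F - 1) r) {c : F} (hc : c ^ r = 1) :
    c = 1 := by
  have hc0 : c ≠ 0 := fun e => by
    rw [e, zero_pow hr0] at hc
    exact zero_ne_one hc
  have hg := pow_gcd_eq_one.2 ⟨FiniteField.pow_card_sub_one_eq_one c hc0, hc⟩
  rwa [Nat.Coprime.gcd_eq_one hr, pow_one] at hg

section pair

variable {ι : Type} [Fintype ι] [DecidableEq ι] (ε : Fin 2 × Fin 2 ≃ ι)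

/-- The element acting as `A` on both planes. -/
def dbl (A : Matrix (Fin 2) (Fin 2) F) : Matrix ι ι F :=
  (Matrix.of fun a b : Fin 2 × Fin 2 => if a.1 = b.1 then A a.2 b.2 else 0).submatrix ε.symm ε.symm

/-- Matrices commuting with it. -/
def dblFam (A : Matrix (Fin 2) (Fin 2) F) (k : (Fin 2 × Fin 2) × Fin 2) : Matrix ι ι F :=
  (Matrix.of fun a b : Fin 2 × Fin 2 => if a.1 = k.1.1 ∧ b.1 = k.1.2 then (![1, A] k.2) a.2 b.2 else 0).submatrix ε.symm ε.symm

theorem dblFam_comm (A : Matrix (Fin 2) (Fin 2) F) (k : (Fin 2 × Fin 2) × Fin 2) :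
    dbl ε A * dblFam ε A k = dblFam ε A k * dbl ε A := by
  obtain ⟨⟨i, j⟩, l⟩ := k
  rw [dbl, dblFam, Matrix.submatrix_mul_equiv, Matrix.submatrix_mul_equiv]
  congr 1
  ext ⟨a, b⟩ ⟨c, d⟩
  simp only [Matrix.mul_apply, Matrix.of_apply, Fintype.sum_prod_type, Fin.sum_univ_two]
  fin_cases i <;> fin_cases j <;> fin_cases l <;> fin_cases a <;> fin_cases b <;> fin_cases c <;> fin_cases d <;>
    simp [Matrix.one_apply] <;> ring

theorem dblFam_indep {A : Matrix (Fin 2) (Fin 2) F} (hA : ∀ z : F, A ≠ z • 1) :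
    LinearIndependent F (dblFam ε A) := by
  rw [Fintype.linearIndependent_iff]
  intro c hc
  rintro ⟨⟨i, j⟩, l⟩
  have e : ∀ b d : Fin 2, c ((i, j), 0) * (1 : Matrix (Fin 2) (Fin 2) F) b d + c ((i, j), 1) * A b d = 0 := by
    intro b d
    have h := congrFun₂ hc (ε (i, b)) (ε (j, d))
    simp only [Matrix.sum_apply, Matrix.smul_apply, dblFam, Matrix.of_apply, Matrix.submatrix_apply,
      Equiv.symm_apply_apply, Matrix.zero_apply, Fintype.sum_prod_type, Fin.sum_univ_two, smul_eq_mul] at h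
    fin_cases i <;> fin_cases j <;> simpa using h
  have h1 : c ((i, j), 1) = 0 := by
    by_contra h
    refine hA (-(c ((i, j), 0) / c ((i, j), 1))) (Matrix.ext fun b d => ?_)
    have := e b d
    rw [Matrix.smul_apply, smul_eq_mul]
    field_simp
    linear_combination this
  have h0 : c ((i, j), 0) = 0 := by
    have := e 0 0
    rw [h1, Matrix.one_apply_eq] at this
    simpa using this
  fin_cases l <;> assumption

theorem dbl_ne_scalar {A : Matrix (Fin 2) (Fin 2) F} (hA : ∀ z : F, A ≠ z • 1) (z : F) : dbl ε A ≠ z • 1 := by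
  intro e
  refine hA z (Matrix.ext fun b d => ?_)
  have := congrFun₂ e (ε (0, b)) (ε (0, d))
  simpa [dbl, Matrix.one_apply] using this

theorem dbl_mul (A B : Matrix (Fin 2) (Fin 2) F) : dbl ε (A * B) = dbl ε A * dbl ε B := by
  rw [dbl, dbl, dbl, Matrix.submatrix_mul_equiv]
  congr 1
  ext ⟨a, b⟩ ⟨c, d⟩
  simp only [Matrix.mul_apply, Matrix.of_apply, Fintype.sum_prod_type, Fin.sum_univ_two]
  fin_cases a <;> fin_cases c <;> simp

theorem dbl_one : dbl ε (1 : Matrix (Fin 2) (Fin 2) F) = 1 := by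
  rw [dbl]
  ext u v
  obtain ⟨⟨a, b⟩, rfl⟩ := ε.surjective u
  obtain ⟨⟨c, d⟩, rfl⟩ := ε.surjective v
  simp only [Matrix.submatrix_apply, Matrix.of_apply, Equiv.symm_apply_apply, Matrix.one_apply, ε.injective.eq_iff, Prod.mk.injEq]
  split_ifs <;> simp_all

theorem dbl_pow (A : Matrix (Fin 2) (Fin 2) F) (n : ℕ) : dbl ε A ^ n = dbl ε (A ^ n) := by
  induction n with
  | zero => rw [pow_zero, pow_zero, dbl_one]
  | succ n ih => rw [pow_succ, pow_succ, ih, dbl_mul]

theorem dbl_det (A : Matrix (Fin 2) (Fin 2) F) : (dbl ε A).det = A.det * A.det := by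
  rw [dbl, Matrix.det_submatrix_equiv_self]
  rw [show (Matrix.of fun a b : Fin 2 × Fin 2 => if a.1 = b.1 then A a.2 b.2 else 0) =
    (Matrix.blockDiagonal fun _ : Fin 2 => A).submatrix Prod.swap Prod.swap from by
      ext ⟨a, b⟩ ⟨c, d⟩; simp [Matrix.blockDiagonal_apply]]
  rw [show (Prod.swap : Fin 2 × Fin 2 → Fin 2 × Fin 2) = ⇑(Equiv.prodComm (Fin 2) (Fin 2)) from rfl,
    Matrix.det_submatrix_equiv_self, Matrix.det_blockDiagonal, Fin.prod_univ_two]

end pair

/-- An element of order five of determinant one in dimension two. -/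
theorem exists_sl_two_five {p : ℕ} [Fact p.Prime] (hp : Fintype.card F = p) (hp2 : p ≠ 2) (h5 : p % 5 = 0 ∨ p % 5 = 1 ∨ p % 5 = 4) :
    ∃ A : Matrix (Fin 2) (Fin 2) F, A.det = 1 ∧ A ^ 5 = 1 ∧ ∀ z : F, A ≠ z • 1 := by
  classical
  haveI : Fact (Nat.Prime 5) := ⟨by norm_num⟩
  have hpp : p.Prime := Fact.out
  rcases h5 with h | h | h
  · have hp5 : p = 5 := ((Nat.prime_dvd_prime_iff_eq (by norm_num) hpp).1 (Nat.dvd_of_mod_eq_zero h)).symm
    have h50 : (5 : F) = 0 := by
      have := FiniteField.cast_card_eq_zero F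
      rw [hp, hp5] at this
      exact_mod_cast this
    refine ⟨!![1, 1; 0, 1], by simp [Matrix.det_fin_two], ?_, fun z e => ?_⟩
    · ext i j
      fin_cases i <;> fin_cases j <;> simp [pow_succ, Matrix.mul_apply, Fin.sum_univ_two]
      linear_combination h50
    · have := congrFun₂ e 0 1
      simp at this
  · have hd : 5 ∣ Nat.card Fˣ := by
      rw [Nat.card_eq_fintype_card, Fintype.card_units, hp]
      exact (Nat.modEq_iff_dvd' hpp.one_le).1 h.symm
    obtain ⟨u, hu⟩ := exists_prime_orderOf_dvd_card' 5 hd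
    have hu5 : (u : F) ^ 5 = 1 := by
      have := pow_orderOf_eq_one u
      rw [hu] at this
      simpa using congrArg Units.val this
    refine ⟨!![(u : F), 0; 0, (u : F) ^ 4], ?_, ?_, fun z e => ?_⟩
    · simp [Matrix.det_fin_two]
      linear_combination hu5
    · ext i j
      fin_cases i <;> fin_cases j <;> simp [pow_succ, Matrix.mul_apply, Fin.sum_univ_two]
      · linear_combination hu5
      · linear_combination ((u : F) ^ 15 + (u : F) ^ 10 + (u : F) ^ 5 + 1) * hu5
    · have h0 := congrFun₂ e 0 0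
      have h1 := congrFun₂ e 1 1
      simp at h0 h1
      have h3 : u ^ 3 = 1 := Units.ext (by
        have hu0 : (u : F) ≠ 0 := u.ne_zero
        simp only [Units.val_pow_eq_pow_val, Units.val_one]
        apply mul_left_cancel₀ hu0
        linear_combination h1 - h0)
      have := orderOf_dvd_of_pow_eq_one h3
      rw [hu] at this
      omega
  · have hd : 5 ∣ Nat.card (GL (Fin 2) F) := by
      rw [Matrix.card_GL_field, Fin.prod_univ_two, hp]
      refine Dvd.dvd.mul_right ?_ _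
      simp only [Fin.val_zero, pow_zero]
      refine (Nat.modEq_iff_dvd' (Nat.one_le_pow _ _ hpp.pos)).1 ?_
      have : p ^ 2 ≡ 4 ^ 2 [MOD 5] := (show p ≡ 4 [MOD 5] from h).pow 2
      exact this.symm
    obtain ⟨g, hg⟩ := exists_prime_orderOf_dvd_card' 5 hd
    have hg5 : (g : Matrix (Fin 2) (Fin 2) F) ^ 5 = 1 := by
      have := pow_orderOf_eq_one g
      rw [hg] at this
      simpa using congrArg Units.val this
    have hco : Nat.Coprime (Fintype.card F - 1) 5 := by
      rw [hp, Nat.coprime_comm, (by norm_num : Nat.Prime 5).coprime_iff_not_dvd]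
      omega
    refine ⟨g, eq_one_of_pow (by norm_num) hco ?_, hg5, fun z e => ?_⟩
    · rw [← Matrix.det_pow, hg5, Matrix.det_one]
    · rw [e, smul_pow, one_pow] at hg5
      have hz := congrFun₂ hg5 0 0
      simp at hz
      rw [eq_one_of_pow (by norm_num) hco hz, one_smul] at e
      rw [show g = 1 from Units.ext e, orderOf_one] at hg
      omega

theorem five_mod_cases {p : ℕ} (hord : orderOf (p : ZMod 5) ≠ 4) : p % 5 = 0 ∨ p % 5 = 1 ∨ p % 5 = 4 := by
  by_contra h
  have h' : p % 5 = 2 ∨ p % 5 = 3 := by omega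
  refine hord ?_
  rw [← ZMod.natCast_mod p 5]
  rcases h' with e | e <;> rw [e] <;> rw [orderOf_eq_iff (by norm_num)] <;> refine ⟨by decide, ?_⟩ <;>
    intro m hm hm0 <;> interval_cases m <;> decide

theorem five_order {p : ℕ} (hord : orderOf (p : ZMod 5) = 4) :
    (∀ k, 0 < k → k ≤ 3 → ¬ (p ^ k ≡ 1 [MOD 5])) ∧ ¬ 5 ∣ p ∧ ¬ 5 ∣ p - 1 := by
  have h1 : ∀ k, 0 < k → k ≤ 3 → ¬ (p ^ k ≡ 1 [MOD 5]) := fun k h0 h3 h => by
    rw [← ZMod.natCast_eq_natCast_iff] at h
    push_cast at h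
    have := Nat.le_of_dvd h0 (orderOf_dvd_of_pow_eq_one h)
    omega
  haveI : Fact (Nat.Prime 5) := ⟨by norm_num⟩
  have h5 : ¬ 5 ∣ p := fun h => by
    rw [(ZMod.natCast_eq_zero_iff p 5).2 h, orderOf_zero] at hord
    omega
  refine ⟨h1, h5, fun h => h1 1 one_pos (by norm_num) ?_⟩
  rw [pow_one]
  by_cases hp : p = 0
  · subst hp; exact absurd (dvd_zero 5) h5
  exact ((Nat.modEq_iff_dvd' (by omega)).2 h).symm

/-- `5` is not a square when five has order four. -/
theorem detOnto_fiveC {p : ℕ} (hp : Fintype.card F = p) (h50 : (5 : F) ≠ 0) (h2 : (2 : F) ≠ 0)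
    (hord : ∀ k, 0 < k → k ≤ 3 → ¬ (p ^ k ≡ 1 [MOD 5])) (hp5 : ¬ 5 ∣ p) (hp4 : p % 4 = 1) : DetOnto (fiveC F) := by
  classical
  intro d hd
  have hns : ∀ c : F, c * c ≠ 5 := by
    intro c hc
    obtain ⟨η, hη⟩ : ∃ η : F, η * η + η - 1 = 0 := ⟨(c - 1) / 2, by field_simp; linear_combination hc⟩
    obtain ⟨M, hM⟩ : ∃ M : Matrix (Fin 2) (Fin 2) F, M = !![0, -1; 1, η] := ⟨_, rfl⟩
    have hM5 : M ^ 5 = 1 := by
      subst hM
      ext i j
      fin_cases i <;> fin_cases j <;> simp [pow_succ, Matrix.mul_apply, Fin.sum_univ_two] <;>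
        first
        | linear_combination (η ^ 3 - η ^ 2 - 2 * η + 1) * hη
        | linear_combination (η ^ 3 - η ^ 2 - η) * hη
        | linear_combination (-(η ^ 3) + η ^ 2 + η) * hη
        | linear_combination (-(η ^ 2) + η + 1) * hη
        | linear_combination (η ^ 2 - η - 1) * hη
        | linear_combination (η - 1) * hη
        | linear_combination (1 - η) * hη
    have hfix := fixed_of_small (ι := Fin 2) hp hord hp5 (W := ⊤) (by simp) (f := Matrix.toLin' M) (by simp)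
      (fun v _ => by
        simp only [Matrix.toLin'_apply, Matrix.mulVec_mulVec]
        rw [show M * (M * (M * (M * M))) = M ^ 5 by simp [pow_succ, Matrix.mul_assoc], hM5, Matrix.one_mulVec])
    have e := congrFun (hfix (Pi.single 0 1) trivial) 1
    rw [hM] at e
    simp at e
  obtain ⟨γ, hγ⟩ := IsCyclic.exists_generator (α := Fˣ)
  obtain ⟨j, hj⟩ := hγ (Units.mk0 5 h50)
  obtain ⟨m, hm⟩ := hγ (Units.mk0 d hd)
  have hj' : ¬ (2 : ℤ) ∣ j := by
    rintro ⟨l, rfl⟩
    refine hns ((γ ^ l : Fˣ) : F) ?_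
    rw [← Units.val_mul, ← _root_.zpow_add, ← two_mul]
    exact congrArg Units.val hj
  obtain ⟨q, hq⟩ : (8 : ℤ) ∣ 1 - j * j := by
    obtain ⟨u, rfl⟩ : ∃ u, j = 2 * u + 1 := ⟨j / 2, by omega⟩
    rcases Int.even_or_odd u with ⟨t, rfl⟩ | ⟨t, rfl⟩
    · exact ⟨-(2 * t * t + t), by ring⟩
    · exact ⟨-(2 * t * t + 3 * t + 1), by ring⟩
  have hdec : Units.mk0 d hd = (Units.mk0 5 h50) ^ (m * j) * (γ ^ (2 * m * q)) ^ (4 : ℕ) := by
    rw [← hm, ← hj]
    show γ ^ m = (γ ^ j) ^ (m * j) * (γ ^ (2 * m * q)) ^ (4 : ℕ)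
    rw [← zpow_natCast, ← _root_.zpow_mul, ← _root_.zpow_mul, ← _root_.zpow_add]
    congr 1
    linear_combination m * hq
  obtain ⟨U, hU⟩ : ∃ U : GL (Fin 4) F, (U : Matrix (Fin 4) (Fin 4) F) = fiveC F - 1 :=
    ⟨Matrix.GeneralLinearGroup.mkOfDetNeZero _ (by rw [det_fiveC_sub_one]; exact h50), rfl⟩
  obtain ⟨c, hc⟩ : ∃ c : Fˣ, c = γ ^ (2 * m * q) := ⟨_, rfl⟩
  refine ⟨(c : F) • ((U ^ (m * j) : GL (Fin 4) F) : Matrix (Fin 4) (Fin 4) F), ?_, ?_⟩
  · have hcm : Commute (U : Matrix (Fin 4) (Fin 4) F) (fiveC F) := by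
      rw [hU]; exact (Commute.refl _).sub_left (Commute.one_left _)
    rw [Matrix.smul_mul, Matrix.mul_smul]
    congr 1
    exact (Commute.units_zpow_left hcm (m * j)).eq
  · rw [Matrix.det_smul, Fintype.card_fin]
    have h1 : ((U ^ (m * j) : GL (Fin 4) F) : Matrix (Fin 4) (Fin 4) F).det =
        ((Units.mk0 5 h50 ^ (m * j) : Fˣ) : F) := by
      have e : Matrix.GeneralLinearGroup.det U = Units.mk0 5 h50 := Units.ext (by
        rw [Matrix.GeneralLinearGroup.val_det_apply, hU, det_fiveC_sub_one]; rfl)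
      rw [← e, ← map_zpow, Matrix.GeneralLinearGroup.val_det_apply]
    rw [h1]
    have := congrArg Units.val hdec
    rw [← hc, Units.val_mul, Units.val_pow_eq_pow_val, Units.val_mk0] at this
    rw [this, mul_comm]

end CfsgLib.Pauli
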