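import Mathlib

set_option autoImplicit false
set_option linter.unusedSectionVars false

/-!
Four 4 × 4 matrices forming two commuting pairs of anticommuting square roots of `1` and `-1`: the sixteen products
form a basis of the matrix algebra.
-/

namespace CfsgLib.Pauli

open Matrix

/-- Exponent vectors. -/
abbrev V := ZMod 2 × ZMod 2 × ZMod 2 × ZMod 2

/-- The commutation pairing. -/
def om (v w : V) : ZMod 2 := v.1 * w.2.1 + v.2.1 * w.1 + (v.2.2.1 * w.2.2.2 + v.2.2.2 * w.2.2.1)

/-- The sign of a product. -/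
def cyc (v w : V) : ZMod 2 := v.2.1 * w.1 + (v.2.2.1 * w.2.2.1 + v.2.2.2 * w.2.2.1 + v.2.2.2 * w.2.2.2)

/-- A sign. -/
def sg (F : Type*) [Ring F] (x : ZMod 2) : F := if x = 0 then 1 else -1

theorem sg_zero (F : Type*) [Ring F] : sg F 0 = 1 := rfl

theorem sg_one (F : Type*) [Ring F] : sg F 1 = -1 := if_neg (by decide)

theorem sg_add (F : Type*) [Ring F] (x y : ZMod 2) : sg F (x + y) = sg F x * sg F y := by
  have h : ∀ z : ZMod 2, z = 0 ∨ z = 1 := by decide
  rcases h x with rfl | rfl <;> rcases h y with rfl | rfl <;>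
    simp [sg_zero, sg_one, show (1 : ZMod 2) + 1 = 0 from rfl]

theorem sg_self (F : Type*) [Ring F] (x : ZMod 2) : sg F x * sg F x = 1 := by
  have h : ∀ z : ZMod 2, z + z = 0 := by decide
  rw [← sg_add, h, sg_zero]

theorem sum_sg_om : ∀ u v : V, (∑ w : V, sg ℤ (om w v) * sg ℤ (om w u)) = if u = v then 16 else 0 := by
  decide +kernel

/-- The four generators. -/
structure Frame (F : Type*) [Field F] (ι : Type) [Fintype ι] [DecidableEq ι] where
  a : Matrix ι ι F
  b : Matrix ι ι F
  c : Matrix ι ι F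
  d : Matrix ι ι F
  aa : a * a = 1
  bb : b * b = 1
  cc : c * c = -1
  dd : d * d = -1
  ba : b * a = -(a * b)
  dc : d * c = -(c * d)
  ca : c * a = a * c
  cb : c * b = b * c
  da : d * a = a * d
  db : d * b = b * d

variable {F : Type*} [Field F] {ι : Type} [Fintype ι] [DecidableEq ι] (f : Frame F ι)

namespace Frame

/-- Left associative forms of the relations. -/
theorem aa' (X : Matrix ι ι F) : f.a * (f.a * X) = X := by rw [← mul_assoc, f.aa, one_mul]
theorem bb' (X : Matrix ι ι F) : f.b * (f.b * X) = X := by rw [← mul_assoc, f.bb, one_mul]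
theorem cc' (X : Matrix ι ι F) : f.c * (f.c * X) = -X := by rw [← mul_assoc, f.cc, neg_one_mul]
theorem dd' (X : Matrix ι ι F) : f.d * (f.d * X) = -X := by rw [← mul_assoc, f.dd, neg_one_mul]
theorem ba' (X : Matrix ι ι F) : f.b * (f.a * X) = -(f.a * (f.b * X)) := by
  rw [← mul_assoc, f.ba, neg_mul, mul_assoc]
theorem dc' (X : Matrix ι ι F) : f.d * (f.c * X) = -(f.c * (f.d * X)) := by
  rw [← mul_assoc, f.dc, neg_mul, mul_assoc]
theorem ca' (X : Matrix ι ι F) : f.c * (f.a * X) = f.a * (f.c * X) := by rw [← mul_assoc, f.ca, mul_assoc]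
theorem cb' (X : Matrix ι ι F) : f.c * (f.b * X) = f.b * (f.c * X) := by rw [← mul_assoc, f.cb, mul_assoc]
theorem da' (X : Matrix ι ι F) : f.d * (f.a * X) = f.a * (f.d * X) := by rw [← mul_assoc, f.da, mul_assoc]
theorem db' (X : Matrix ι ι F) : f.d * (f.b * X) = f.b * (f.d * X) := by rw [← mul_assoc, f.db, mul_assoc]

/-- The products. -/
def M (v : V) : Matrix ι ι F := f.a ^ v.1.val * f.b ^ v.2.1.val * (f.c ^ v.2.2.1.val * f.d ^ v.2.2.2.val)

theorem comm_pq (i j k l : ℕ) : Commute (f.c ^ k * f.d ^ l) (f.a ^ i * f.b ^ j) := by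
  have h1 : Commute f.c f.a := f.ca
  have h2 : Commute f.c f.b := f.cb
  have h3 : Commute f.d f.a := f.da
  have h4 : Commute f.d f.b := f.db
  exact ((h1.pow_pow k i).mul_right (h2.pow_pow k j)).mul_left ((h3.pow_pow l i).mul_right (h4.pow_pow l j))

theorem mul_ab : ∀ i j i' j' : ZMod 2, f.a ^ i.val * f.b ^ j.val * (f.a ^ i'.val * f.b ^ j'.val) =
    sg F (j * i') • (f.a ^ (i + i').val * f.b ^ (j + j').val) := by
  have h : ∀ z : ZMod 2, z = 0 ∨ z = 1 := by decide
  intro i j i' j'
  rcases h i with rfl | rfl <;> rcases h j with rfl | rfl <;> rcases h i' with rfl | rfl <;>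
    rcases h j' with rfl | rfl <;>
    simp [sg_zero, sg_one, show (1 : ZMod 2) + 1 = 0 from rfl, ZMod.val_one, mul_assoc, f.aa, f.bb, f.ba, f.aa',
      f.bb', f.ba']

theorem mul_cd : ∀ i j i' j' : ZMod 2, f.c ^ i.val * f.d ^ j.val * (f.c ^ i'.val * f.d ^ j'.val) =
    sg F (i * i' + j * i' + j * j') • (f.c ^ (i + i').val * f.d ^ (j + j').val) := by
  have h : ∀ z : ZMod 2, z = 0 ∨ z = 1 := by decide
  intro i j i' j'
  rcases h i with rfl | rfl <;> rcases h j with rfl | rfl <;> rcases h i' with rfl | rfl <;>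
    rcases h j' with rfl | rfl <;>
    simp [sg_zero, sg_one, show (1 : ZMod 2) + 1 = 0 from rfl, ZMod.val_one, mul_assoc, f.cc, f.dd, f.dc, f.cc',
      f.dd', f.dc']

theorem M_mul (v w : V) : f.M v * f.M w = sg F (cyc v w) • f.M (v + w) := by
  rw [M, M, mul_assoc, ← mul_assoc (f.c ^ _ * f.d ^ _), (f.comm_pq _ _ _ _).eq, mul_assoc (f.a ^ _ * f.b ^ _),
    ← mul_assoc, f.mul_ab, f.mul_cd, smul_mul_assoc, mul_smul_comm, smul_smul, ← sg_add]
  rfl

theorem M_zero : f.M 0 = 1 := by simp [M]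

theorem M_comm (v w : V) : f.M v * f.M w = sg F (om v w) • (f.M w * f.M v) := by
  rw [M_mul, M_mul, smul_smul, ← sg_add, add_comm w v]
  congr 2
  revert v w
  decide +kernel

theorem a_eq : f.a = f.M (1, 0, 0, 0) := by simp [M, ZMod.val_one]
theorem b_eq : f.b = f.M (0, 1, 0, 0) := by simp [M, ZMod.val_one]
theorem c_eq : f.c = f.M (0, 0, 1, 0) := by simp [M, ZMod.val_one]
theorem d_eq : f.d = f.M (0, 0, 0, 1) := by simp [M, ZMod.val_one]

theorem add_self (v : V) : v + v = 0 := by revert v; decide +kernel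

theorem M_sq (v : V) : f.M v * f.M v = sg F (cyc v v) • 1 := by rw [M_mul, add_self, M_zero]

theorem M_cancel {v : V} {X Y : Matrix ι ι F} (h : f.M v * X = f.M v * Y) : X = Y := by
  have := congrArg (fun Z => sg F (cyc v v) • (f.M v * Z)) h
  simp only [← mul_assoc, f.M_sq, smul_mul_assoc, one_mul, smul_smul, sg_self, one_smul] at this
  exact this

theorem M_isUnit (v : V) : IsUnit (f.M v) :=
  ⟨⟨f.M v, sg F (cyc v v) • f.M v, by rw [mul_smul_comm, f.M_sq, smul_smul, sg_self, one_smul],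
    by rw [smul_mul_assoc, f.M_sq, smul_smul, sg_self, one_smul]⟩, rfl⟩

variable (h2 : (2 : F) ≠ 0)
include h2

theorem trace_M {v : V} (hv : v ≠ 0) : (f.M v).trace = 0 := by
  have hex : ∀ v : V, v ≠ 0 → ∃ w, om w v = 1 := by decide +kernel
  obtain ⟨w, hw⟩ := hex v hv
  have e := congrArg (fun Z => sg F (cyc w w) • (f.M w * Z)) (f.M_comm w v)
  simp only [hw, sg_one, mul_smul_comm, ← mul_assoc, f.M_sq, smul_mul_assoc, one_mul, smul_smul, sg_self,
    one_smul] at e
  have e2 := congrArg Matrix.trace e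
  rw [Matrix.trace_smul, Matrix.trace_mul_comm, ← mul_assoc, f.M_sq, smul_mul_assoc, one_mul,
    Matrix.trace_smul] at e2
  simp only [smul_eq_mul] at e2
  by_contra hne
  refine mul_ne_zero h2 hne ?_
  linear_combination e2 - (f.M v).trace * sg_self F (cyc w w)

theorem indep [Nonempty ι] : LinearIndependent F f.M := by
  rw [Fintype.linearIndependent_iff]
  intro cf hcf u
  have key : ∀ w, ∑ v, (cf v * sg F (om w v)) • f.M v = 0 := fun w => by
    refine ((f.M_isUnit w).mul_left_eq_zero).1 ?_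
    have e := congrArg (f.M w * ·) hcf
    simp only [Finset.mul_sum, mul_smul_comm, mul_zero] at e
    rw [Finset.sum_mul, ← e]
    refine Finset.sum_congr rfl fun v _ => ?_
    rw [smul_mul_assoc, f.M_comm w v, smul_smul]
  have hsum : ∑ w : V, sg F (om w u) • ∑ v, (cf v * sg F (om w v)) • f.M v = 0 :=
    Finset.sum_eq_zero fun w _ => by rw [key, smul_zero]
  simp only [Finset.smul_sum, smul_smul] at hsum
  rw [Finset.sum_comm] at hsum
  have e : ∀ v : V, (∑ w : V, sg F (om w v) * sg F (om w u)) = if u = v then 16 else 0 := fun v => by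
    have hc : ∀ x, ((sg ℤ x : ℤ) : F) = sg F x := fun x => by unfold sg; split <;> simp
    have := congrArg (Int.cast : ℤ → F) (sum_sg_om u v)
    simpa [hc, apply_ite (Int.cast : ℤ → F)] using this
  rw [Finset.sum_eq_single u (fun v _ hv => ?_) (by simp), ← Finset.sum_smul] at hsum
  swap
  · rw [← Finset.sum_smul, show ∑ w : V, sg F (om w u) * (cf v * sg F (om w v)) =
      cf v * ∑ w : V, sg F (om w v) * sg F (om w u) by
        rw [Finset.mul_sum]; exact Finset.sum_congr rfl fun w _ => by ring, e v, if_neg (Ne.symm hv), mul_zero,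
      zero_smul]
  have h16 : ∑ w : V, sg F (om w u) * (cf u * sg F (om w u)) = cf u * 16 := by
    rw [show (16 : F) = if u = u then 16 else 0 by simp, ← e u, Finset.mul_sum]
    exact Finset.sum_congr rfl fun w _ => by ring
  rw [h16, smul_eq_zero, or_iff_left (f.M_isUnit u).ne_zero, mul_eq_zero] at hsum
  refine hsum.resolve_right ?_
  rw [show (16 : F) = 2 * 2 * 2 * 2 by norm_num]
  exact mul_ne_zero (mul_ne_zero (mul_ne_zero h2 h2) h2) h2

/-- The basis of products. -/
noncomputable def basis [Nonempty ι] (h4 : Fintype.card ι = 4) : Module.Basis V F (Matrix ι ι F) :=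
  basisOfLinearIndependentOfCardEqFinrank (f.indep h2) (by
    rw [Module.finrank_matrix, h4, Module.finrank_self]; rfl)

theorem basis_apply [Nonempty ι] (h4 : Fintype.card ι = 4) (v : V) : f.basis h2 h4 v = f.M v := by
  simp [basis]

/-- A matrix commuting with the four generators is scalar. -/
theorem scalar_of_comm [Nonempty ι] (h4 : Fintype.card ι = 4) {X : Matrix ι ι F} (ha : X * f.a = f.a * X)
    (hb : X * f.b = f.b * X) (hc : X * f.c = f.c * X) (hd : X * f.d = f.d * X) : ∃ s : F, X = s • 1 := by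
  obtain ⟨r, hr⟩ : ∃ r : V → F, r = fun v => (f.basis h2 h4).repr X v := ⟨_, rfl⟩
  have hX : X = ∑ v, r v • f.M v := by
    conv_lhs => rw [← (f.basis h2 h4).sum_repr X]
    simp only [hr, basis_apply]
  refine ⟨r 0, ?_⟩
  have key : ∀ w, X * f.M w = f.M w * X → ∀ v, om w v = 1 → r v = 0 := by
    intro w hw v hv
    have e : ∑ u, ((sg F (om w u) - 1) * r u) • f.M u = 0 := by
      refine ((f.M_isUnit w).mul_left_eq_zero).1 ?_
      have h0 : f.M w * X - X * f.M w = 0 := by rw [hw, sub_self]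
      rw [hX, Finset.mul_sum, Finset.sum_mul, ← Finset.sum_sub_distrib] at h0
      rw [Finset.sum_mul]
      refine Eq.trans (Finset.sum_congr rfl fun u _ => ?_) h0
      rw [mul_smul_comm, smul_mul_assoc, smul_mul_assoc, f.M_comm w u, smul_smul, ← sub_smul]
      congr 1
      ring
    have := Fintype.linearIndependent_iff.1 (f.indep h2) _ e v
    rw [hv, sg_one, mul_eq_zero, or_iff_right] at this
    · exact this
    · intro e; exact h2 (by linear_combination -e)
  rw [a_eq] at ha; rw [b_eq] at hb; rw [c_eq] at hc; rw [d_eq] at hd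
  conv_lhs => rw [hX]
  rw [Finset.sum_eq_single 0 (fun v _ hv => ?_) (by simp), M_zero]
  have hex : ∀ v : V, v ≠ 0 →
      om (1, 0, 0, 0) v = 1 ∨ om (0, 1, 0, 0) v = 1 ∨ om (0, 0, 1, 0) v = 1 ∨ om (0, 0, 0, 1) v = 1 := by
    decide +kernel
  rcases hex v hv with e | e | e | e
  · rw [key _ ha v e, zero_smul]
  · rw [key _ hb v e, zero_smul]
  · rw [key _ hc v e, zero_smul]
  · rw [key _ hd v e, zero_smul]

end Frame

end CfsgLib.Pauli
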