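import Cfsg.Agent.Lib.Classical.Pauli.Group
import Cfsg.Agent.Lib.Classical.Pauli.Frame
import Cfsg.Prelude.Def_GeometricClasses

set_option autoImplicit false
set_option linter.unusedSectionVars false

/-!
An absolutely irreducible symplectic-type two-group in dimension four, of order 64 with centre of order 4, or of
order 32, centre of order 2 and minus type, contains the generators of a frame and consists of scalar multiples of
the products.
-/

namespace CfsgLib.Pauli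

open Matrix
open scoped MatrixGroups commutatorElement
open Cfsg.Geo (matrixSet ActsAbsolutelyIrreducibly IsSymplecticTypeGroup IsOfMinusType)

variable {F : Type*} [Field F] {ι : Type} [Fintype ι] [DecidableEq ι]

/-- A frame inside a group, which consists of scalar multiples of the products. -/
structure Spans (f : Frame F ι) (R : Subgroup (GL ι F)) : Prop where
  ha : f.a ∈ matrixSet R
  hb : f.b ∈ matrixSet R
  hc : f.c ∈ matrixSet R
  hd : f.d ∈ matrixSet R
  dec : ∀ g ∈ R, ∃ (v : V) (u : F), (g : Matrix ι ι F) = u • f.M v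

variable {R : Subgroup (GL ι F)}

theorem mem_mul {X Y : Matrix ι ι F} (hX : X ∈ matrixSet R) (hY : Y ∈ matrixSet R) : X * Y ∈ matrixSet R := by
  obtain ⟨g, hg, rfl⟩ := hX
  obtain ⟨h, hh, rfl⟩ := hY
  exact ⟨g * h, R.mul_mem hg hh, rfl⟩

theorem mem_one : (1 : Matrix ι ι F) ∈ matrixSet R := ⟨1, R.one_mem, rfl⟩

theorem mem_pow {X : Matrix ι ι F} (hX : X ∈ matrixSet R) (k : ℕ) : X ^ k ∈ matrixSet R := by
  induction k with
  | zero => rw [pow_zero]; exact mem_one
  | succ k ih => rw [pow_succ]; exact mem_mul ih hX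

theorem Spans.mem_M {f : Frame F ι} (h : Spans f R) (v : V) : f.M v ∈ matrixSet R :=
  mem_mul (mem_mul (mem_pow h.ha _) (mem_pow h.hb _)) (mem_mul (mem_pow h.hc _) (mem_pow h.hd _))

theorem spans_of_mem [Nonempty ι] (h2 : (2 : F) ≠ 0) (h4 : Fintype.card ι = 4) (f : Frame F ι)
    (ha : f.a ∈ matrixSet R) (hb : f.b ∈ matrixSet R) (hc : f.c ∈ matrixSet R) (hd : f.d ∈ matrixSet R)
    (hcomm : ∀ g ∈ matrixSet R, ∀ h ∈ matrixSet R, h * g = g * h ∨ h * g = -(g * h)) : Spans f R := by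
  refine ⟨ha, hb, hc, hd, fun g hg => ?_⟩
  have hG : (g : Matrix ι ι F) ∈ matrixSet R := ⟨g, hg, rfl⟩
  generalize (g : Matrix ι ι F) = G at hG ⊢
  have hs : ∀ X ∈ matrixSet R, ∃ e : ZMod 2, G * X = sg F e • (X * G) := fun X hX => by
    rcases hcomm X hX G hG with e | e
    · exact ⟨0, by rw [sg_zero, one_smul, e]⟩
    · exact ⟨1, by rw [sg_one, neg_one_smul, e]⟩
  obtain ⟨ea, hea⟩ := hs _ ha
  obtain ⟨eb, heb⟩ := hs _ hb
  obtain ⟨ec, hec⟩ := hs _ hc
  obtain ⟨ed, hed⟩ := hs _ hd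
  obtain ⟨v, hv⟩ : ∃ v : V, v = (eb, ea, ed, ec) := ⟨_, rfl⟩
  obtain ⟨X, hX⟩ : ∃ X, X = f.M v * G := ⟨_, rfl⟩
  have step : ∀ (w : V) (e : ZMod 2), G * f.M w = sg F e • (f.M w * G) → om v w = e → X * f.M w = f.M w * X := by
    intro w e h1 h2'
    rw [hX, mul_assoc, h1, mul_smul_comm, ← mul_assoc, f.M_comm v w, h2', smul_mul_assoc, smul_smul, sg_self,
      one_smul, mul_assoc]
  obtain ⟨s, hsX⟩ := f.scalar_of_comm h2 h4
    (X := X) (by rw [f.a_eq] at hea ⊢; exact step _ _ hea (by subst hv; simp [om]))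
    (by rw [f.b_eq] at heb ⊢; exact step _ _ heb (by subst hv; simp [om]))
    (by rw [f.c_eq] at hec ⊢; exact step _ _ hec (by subst hv; simp [om]))
    (by rw [f.d_eq] at hed ⊢; exact step _ _ hed (by subst hv; simp [om]))
  refine ⟨v, sg F (cyc v v) * s, f.M_cancel (v := v) ?_⟩
  rw [← hX, hsX, mul_smul_comm, f.M_sq, smul_smul, mul_right_comm, sg_self, one_mul]

theorem norm_pair [Nonempty ι] {x y : Matrix ι ι F} (hx : x ∈ matrixSet R) (hy : y ∈ matrixSet R)
    (hanti : y * x = -(x * y)) (hxx : x * x = 1 ∨ x * x = -1) (hyy : y * y = 1 ∨ y * y = -1) :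
    ∃ p q, p ∈ matrixSet R ∧ q ∈ matrixSet R ∧ q * p = -(p * q) ∧
      ((p * p = 1 ∧ q * q = 1) ∨ (p * p = -1 ∧ q * q = -1)) ∧
      ∀ Z, Z * x = x * Z → Z * y = y * Z → Z * p = p * Z ∧ Z * q = q * Z := by
  rcases hxx with h1 | h1 <;> rcases hyy with h3 | h3
  · exact ⟨x, y, hx, hy, hanti, Or.inl ⟨h1, h3⟩, fun Z a b => ⟨a, b⟩⟩
  · refine ⟨x, x * y, hx, mem_mul hx hy, ?_, Or.inl ⟨h1, ?_⟩, fun Z a b => ⟨a, ?_⟩⟩
    · rw [mul_assoc, hanti, mul_neg]
    · rw [mul_assoc, ← mul_assoc y, hanti, neg_mul, mul_neg, mul_assoc, h3, mul_neg, mul_one, mul_neg, neg_neg, h1]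
    · rw [← mul_assoc, a, mul_assoc, b, mul_assoc]
  · refine ⟨y, x * y, hy, mem_mul hx hy, ?_, Or.inl ⟨h3, ?_⟩, fun Z a b => ⟨b, ?_⟩⟩
    · rw [← mul_assoc y, hanti, neg_mul, neg_neg]
    · rw [mul_assoc, ← mul_assoc y, hanti, neg_mul, mul_neg, mul_assoc, h3, mul_one, h1, neg_neg]
    · rw [← mul_assoc, a, mul_assoc, b, mul_assoc]
  · exact ⟨x, y, hx, hy, hanti, Or.inr ⟨h1, h3⟩, fun Z a b => ⟨a, b⟩⟩

theorem not_minus [Finite R] [Nonempty ι] (h2 : (2 : F) ≠ 0) (hm : IsOfMinusType 2 R)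
    (hneg : (-1 : Matrix ι ι F) ∈ matrixSet R) {P Q : Matrix ι ι F}
    (hP : P ∈ matrixSet R) (hQ : Q ∈ matrixSet R) (hP2 : P * P = 1) (hQ2 : Q * Q = 1) (hPQ : P * Q = Q * P)
    {u₁ u₂ u₃ : Matrix ι ι F} (hu₁ : IsUnit u₁) (hu₂ : IsUnit u₂) (hu₃ : IsUnit u₃)
    (a₁ : P * u₁ = -(u₁ * P)) (a₂ : Q * u₂ = -(u₂ * Q)) (a₃ : P * Q * u₃ = -(u₃ * (P * Q))) : False := by
  obtain ⟨gn, hgn, hgn'⟩ := hneg
  obtain ⟨gP, hgP, hgP'⟩ := hP
  obtain ⟨gQ, hgQ, hgQ'⟩ := hQ
  dsimp only at hgn' hgP' hgQ'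
  obtain ⟨A, hA⟩ : ∃ A : Subgroup R, A = Subgroup.closure {⟨gn, hgn⟩, ⟨gP, hgP⟩, ⟨gQ, hgQ⟩} := ⟨_, rfl⟩
  have heq : ∀ {g h : R}, ((g : GL ι F) : Matrix ι ι F) = ((h : GL ι F) : Matrix ι ι F) → g = h :=
    fun e => Subtype.ext (Units.ext e)
  have hcom : IsMulCommutative A := by
    rw [hA]
    refine Subgroup.isMulCommutative_closure fun x hx y hy => heq ?_
    simp only [Subgroup.coe_mul, Units.val_mul]
    rcases hx with rfl | rfl | rfl <;> rcases hy with rfl | rfl | rfl <;>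
      simp [hgn', hgP', hgQ', hPQ]
  have hsq : ∀ x ∈ A, x * x = 1 := by
    intro x hx
    have hcl : ∀ z ∈ A, ∀ w ∈ A, Commute z w := fun z hz w hw =>
      congrArg Subtype.val (hcom.is_comm.comm ⟨z, hz⟩ ⟨w, hw⟩)
    rw [hA] at hx hcl
    induction hx using Subgroup.closure_induction with
    | mem z hz =>
      refine heq ?_
      simp only [Subgroup.coe_mul, Units.val_mul, Subgroup.coe_one, Units.val_one]
      rcases hz with rfl | rfl | rfl <;> simp [hgn', hgP', hgQ', hP2, hQ2]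
    | one => exact one_mul 1
    | mul z w hz hw iz iw =>
      rw [mul_assoc, ← mul_assoc w, ← (hcl z hz w hw).eq, mul_assoc z w, iw, mul_one, iz]
    | inv z _ iz => rw [← _root_.mul_inv_rev, iz, inv_one]
  have hlt := hm A hcom hsq
  -- eight distinct elements
  have hns : ∀ {X u : Matrix ι ι F}, IsUnit u → X * u = -(u * X) → ∀ s : F, s ≠ 0 → X ≠ s • 1 := by
    intro X u hu ha s hs e
    rw [e, smul_mul_assoc, one_mul, mul_smul_comm, mul_one, eq_neg_iff_add_eq_zero, ← two_smul F, smul_smul] at ha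
    exact hu.ne_zero ((smul_eq_zero.1 ha).resolve_left (mul_ne_zero h2 hs))
  let φ : ZMod 2 × ZMod 2 × ZMod 2 → A := fun w =>
    ⟨⟨gn, hgn⟩ ^ w.1.val * (⟨gP, hgP⟩ ^ w.2.1.val * ⟨gQ, hgQ⟩ ^ w.2.2.val), by
      rw [hA]
      exact mul_mem (pow_mem (Subgroup.subset_closure (by simp)) _)
        (mul_mem (pow_mem (Subgroup.subset_closure (by simp)) _) (pow_mem (Subgroup.subset_closure (by simp)) _))⟩
  have hinj : Function.Injective φ := by
    have cases : ∀ z : ZMod 2, z = 0 ∨ z = 1 := by decide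
    have hone : ∀ w, φ w = 1 → w = 0 := by
      rintro ⟨i, j, k⟩ e
      have e' : (-1 : Matrix ι ι F) ^ i.val * (P ^ j.val * Q ^ k.val) = 1 := by
        have := congrArg (fun z : A => (((z : R) : GL ι F) : Matrix ι ι F)) e
        simpa [φ, hgn', hgP', hgQ'] using this
      have h11 : (-1 : Matrix ι ι F) ≠ 1 := fun h => h2 (by
        have := congrFun₂ h (Classical.arbitrary ι) (Classical.arbitrary ι)
        simp at this
        linear_combination -this)
      rcases cases i with rfl | rfl <;> rcases cases j with rfl | rfl <;> rcases cases k with rfl | rfl <;>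
        simp only [ZMod.val_zero, ZMod.val_one, pow_zero, pow_one, one_mul, mul_one, neg_mul] at e'
      · rfl
      · exact absurd e' (by simpa using hns hu₂ a₂ 1 one_ne_zero)
      · exact absurd e' (by simpa using hns hu₁ a₁ 1 one_ne_zero)
      · exact absurd e' (by simpa using hns hu₃ a₃ 1 one_ne_zero)
      · exact absurd e' h11
      · exact absurd (neg_eq_iff_eq_neg.1 e') (by simpa using hns hu₂ a₂ (-1) (neg_ne_zero.2 one_ne_zero))
      · exact absurd (neg_eq_iff_eq_neg.1 e') (by simpa using hns hu₁ a₁ (-1) (neg_ne_zero.2 one_ne_zero))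
      · exact absurd (neg_eq_iff_eq_neg.1 e') (by simpa using hns hu₃ a₃ (-1) (neg_ne_zero.2 one_ne_zero))
    intro w w' e
    have key : ∀ (z : R), z ∈ A → ∀ i i' : ZMod 2, z ^ (i + i').val = z ^ i.val * z ^ i'.val := fun z hz i i' => by
      rcases cases i with rfl | rfl <;> rcases cases i' with rfl | rfl <;>
        simp [show (1 : ZMod 2) + 1 = 0 from rfl, ZMod.val_one, hsq z hz]
    have hm : ∀ u v, φ (u + v) = φ u * φ v := by
      intro u v
      refine Subtype.ext ?_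
      have cl : ∀ {r s : R}, r ∈ A → s ∈ A → Commute r s := fun hr hs =>
        congrArg Subtype.val (hcom.is_comm.comm ⟨_, hr⟩ ⟨_, hs⟩)
      have mn : (⟨gn, hgn⟩ : R) ∈ A := hA ▸ Subgroup.subset_closure (by simp)
      have mP : (⟨gP, hgP⟩ : R) ∈ A := hA ▸ Subgroup.subset_closure (by simp)
      have mQ : (⟨gQ, hgQ⟩ : R) ∈ A := hA ▸ Subgroup.subset_closure (by simp)
      show (⟨gn, hgn⟩ : R) ^ (u.1 + v.1).val * ((⟨gP, hgP⟩ : R) ^ (u.2.1 + v.2.1).val *
        (⟨gQ, hgQ⟩ : R) ^ (u.2.2 + v.2.2).val) = _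
      rw [key _ mn, key _ mP, key _ mQ,
        (cl (pow_mem mP v.2.1.val) (pow_mem mQ u.2.2.val)).mul_mul_mul_comm,
        (cl (pow_mem mn v.1.val) (mul_mem (pow_mem mP u.2.1.val) (pow_mem mQ u.2.2.val))).mul_mul_mul_comm]
      rfl
    have hz : ∀ u : ZMod 2 × ZMod 2 × ZMod 2, u + u = 0 := by decide
    have := hone (w + w') (by rw [hm, e]; exact Subtype.ext (hsq _ (φ w').2))
    calc w = w + (w' + w') := by rw [hz, add_zero]
      _ = w' := by rw [← add_assoc, this, zero_add]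
  have := Nat.card_le_card_of_injective φ hinj
  simp only [Nat.card_prod, Nat.card_zmod] at this
  omega

variable [Finite F]

/-- The frame of a symplectic-type group. -/
theorem exists_spans [Nonempty ι] (h2 : (2 : F) ≠ 0) (h4 : Fintype.card ι = 4) (hs : IsSymplecticTypeGroup 2 R)
    (habs : ActsAbsolutelyIrreducibly (matrixSet R)) {z : ℕ} (hR : Nat.card R = 16 * z)
    (hZ : Nat.card (Subgroup.center R) = z) (hz : z = 4 ∨ (z = 2 ∧ IsOfMinusType 2 R)) :
    (∃ f : Frame F ι, Spans f R) ∧ (-1 : Matrix ι ι F) ∈ matrixSet R ∧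
      (z = 4 → ∃ i : F, i * i = -1 ∧ i • (1 : Matrix ι ι F) ∈ matrixSet R) := by
  classical
  haveI : Finite (GL ι F) := Finite.of_injective _ Units.val_injective
  have h4' : ∀ x : R, x ^ 4 = 1 := fun x => by
    have := Monoid.pow_exponent_eq_one x
    rwa [hs.exponent_eq, show 2 * Nat.gcd 2 2 = 4 from rfl] at this
  have hD := commutator_le_center hs.pGroup h4' hs.cyclic_of_characteristic
    (by rcases hz with h | ⟨h, -⟩ <;> subst h <;> omega)
  have hscal : ∀ u : R, u ∈ Subgroup.center R → ∃ c : F, ((u : GL ι F) : Matrix ι ι F) = c • 1 := by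
    intro u hu
    refine habs.2 _ ?_
    rintro _ ⟨g, hg, rfl⟩
    exact congrArg (fun x : R => ((x : GL ι F) : Matrix ι ι F)) (Subgroup.mem_center_iff.1 hu ⟨g, hg⟩).symm
  have hsmul : ∀ c : F, c • (1 : Matrix ι ι F) = 1 → c = 1 := fun c e => by
    have := congrFun₂ e (Classical.arbitrary ι) (Classical.arbitrary ι)
    simpa using this
  have hsign : ∀ u : R, u ∈ Subgroup.center R → u ^ 2 = 1 →
      ((u : GL ι F) : Matrix ι ι F) = 1 ∨ ((u : GL ι F) : Matrix ι ι F) = -1 := by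
    intro u hu hu2
    obtain ⟨c, hc⟩ := hscal u hu
    have e := congrArg (fun x : R => ((x : GL ι F) : Matrix ι ι F)) hu2
    simp only [SubgroupClass.coe_pow, Units.val_pow_eq_pow_val, hc, smul_pow, one_pow, Subgroup.coe_one,
      Units.val_one] at e
    rcases sq_eq_one_iff.1 (hsmul _ e) with rfl | rfl
    · left; rw [hc, one_smul]
    · right; rw [hc, neg_one_smul]
  have hcomm : ∀ g ∈ matrixSet R, ∀ h ∈ matrixSet R, h * g = g * h ∨ h * g = -(g * h) := by
    rintro _ ⟨g, hg, rfl⟩ _ ⟨h, hh, rfl⟩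
    obtain ⟨-, hc1, hc2⟩ := square_and_commutator h4' hD (⟨h, hh⟩ : R) ⟨g, hg⟩
    have e : (⟨h, hh⟩ : R) * ⟨g, hg⟩ = ⁅(⟨h, hh⟩ : R), (⟨g, hg⟩ : R)⁆ * (⟨g, hg⟩ * ⟨h, hh⟩) := by
      rw [commutatorElement_def]; group
    have e' := congrArg (fun x : R => ((x : GL ι F) : Matrix ι ι F)) e
    simp only [Subgroup.coe_mul, Units.val_mul] at e'
    rcases hsign _ hc1 hc2 with h1 | h1 <;> rw [h1] at e'
    · left; rw [e', one_mul]
    · right; rw [e', neg_one_mul]
  have hsq : ∀ X ∈ matrixSet R, X * X = 1 ∨ X * X = -1 := by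
    rintro _ ⟨g, hg, rfl⟩
    obtain ⟨hc1, -, -⟩ := square_and_commutator h4' hD (⟨g, hg⟩ : R) ⟨g, hg⟩
    have := hsign _ hc1 (by rw [← pow_mul]; exact h4' _)
    simpa [pow_two] using this
  have hunit : ∀ X ∈ matrixSet R, IsUnit X := by rintro _ ⟨g, -, rfl⟩; exact g.isUnit
  -- two anticommuting elements
  obtain ⟨x, hx, y, hy, hxy⟩ : ∃ x ∈ matrixSet R, ∃ y ∈ matrixSet R, y * x = -(x * y) := by
    by_contra hall
    push Not at hall
    have htop : Subgroup.center R = ⊤ := (Subgroup.eq_top_iff' _).2 fun g => Subgroup.mem_center_iff.2 fun k =>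
      Subtype.ext (Units.ext ((hcomm _ ⟨g, g.2, rfl⟩ _ ⟨k, k.2, rfl⟩).resolve_right
        (hall _ ⟨g, g.2, rfl⟩ _ ⟨k, k.2, rfl⟩)))
    rw [htop, Subgroup.card_top] at hZ
    rcases hz with h | ⟨h, -⟩ <;> subst h <;> omega
  have hneg : (-1 : Matrix ι ι F) ∈ matrixSet R := by
    rcases hsq x hx with h1 | h1
    · rcases hsq (x * y) (mem_mul hx hy) with h3 | h3
      · rcases hsq y hy with h5 | h5
        · exfalso
          rw [mul_assoc, ← mul_assoc y, hxy, neg_mul, mul_neg, mul_assoc, h5, mul_one, h1] at h3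
          exact h2 (by linear_combination -hsmul (-1) (by rw [neg_one_smul, h3]))
        · rw [← h5]; exact mem_mul hy hy
      · rw [← h3]; exact mem_mul (mem_mul hx hy) (mem_mul hx hy)
    · rw [← h1]; exact mem_mul hx hx
  -- elements commuting with both
  have hres : ∀ g ∈ matrixSet R, ∃ (i j : ZMod 2), g * (x ^ i.val * y ^ j.val) ∈ matrixSet R ∧
      x * (g * (x ^ i.val * y ^ j.val)) = g * (x ^ i.val * y ^ j.val) * x ∧
      y * (g * (x ^ i.val * y ^ j.val)) = g * (x ^ i.val * y ^ j.val) * y := by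
    intro g hg
    obtain ⟨i, hi⟩ : ∃ i : ZMod 2, y * (g * x ^ i.val) = g * x ^ i.val * y := by
      rcases hcomm g hg y hy with e | e
      · exact ⟨0, by simpa using e⟩
      · refine ⟨1, ?_⟩
        rw [ZMod.val_one, pow_one, ← mul_assoc, e, neg_mul, mul_assoc, hxy, mul_neg, neg_neg, mul_assoc]
    obtain ⟨g', hg'⟩ : ∃ g', g' = g * x ^ i.val := ⟨_, rfl⟩
    rw [← hg'] at hi
    have hmem : g' ∈ matrixSet R := hg' ▸ mem_mul hg (mem_pow hx _)
    rcases hcomm g' hmem x hx with e | e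
    · refine ⟨i, 0, ?_⟩
      simp only [ZMod.val_zero, pow_zero, mul_one, ← hg']
      exact ⟨hmem, e, hi⟩
    · refine ⟨i, 1, ?_⟩
      simp only [ZMod.val_one, pow_one, ← mul_assoc, ← hg']
      refine ⟨mem_mul hmem hy, ?_, by rw [hi]⟩
      rw [e, neg_mul, mul_assoc g', mul_assoc g', hxy, mul_neg]
  obtain ⟨x', hx', y', hy', c1, c2, c3, c4, hxy'⟩ : ∃ x' ∈ matrixSet R, ∃ y' ∈ matrixSet R,
      x' * x = x * x' ∧ x' * y = y * x' ∧ y' * x = x * y' ∧ y' * y = y * y' ∧ y' * x' = -(x' * y') := by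
    by_contra hall
    push Not at hall
    have hcen : ∀ g ∈ matrixSet R, x * g = g * x → y * g = g * y → ∀ k ∈ matrixSet R, g * k = k * g := by
      intro g hg hgx hgy k hk
      obtain ⟨i, j, hm, hkx, hky⟩ := hres k hk
      obtain ⟨w, hw⟩ : ∃ w, w = x ^ i.val * y ^ j.val := ⟨_, rfl⟩
      rw [← hw] at hm hkx hky
      have e := (hcomm _ hm _ hg).resolve_right (hall _ hm _ hg hkx.symm hky.symm hgx.symm hgy.symm)
      have hgw : Commute g w := hw ▸ ((show Commute g x from hgx.symm).pow_right _).mul_right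
        ((show Commute g y from hgy.symm).pow_right _)
      refine (hunit w (hw ▸ mem_mul (mem_pow hx _) (mem_pow hy _))).mul_right_cancel ?_
      rw [mul_assoc, e, mul_assoc k g w, hgw.eq, mul_assoc]
    have hdec : ∀ g : R, ∃ w : Subgroup.center R × ZMod 2 × ZMod 2,
        (((w.1 : R) : GL ι F) : Matrix ι ι F) = ((g : GL ι F) : Matrix ι ι F) * (x ^ w.2.1.val * y ^ w.2.2.val) := by
      intro g
      obtain ⟨i, j, hm, hkx, hky⟩ := hres _ ⟨g, g.2, rfl⟩
      have hc := hcen _ hm hkx hky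
      obtain ⟨u, hu, hu'⟩ := hm
      dsimp only at hu' hc
      rw [← hu'] at hc
      exact ⟨(⟨⟨u, hu⟩, Subgroup.mem_center_iff.2 fun k =>
        Subtype.ext (Units.ext (hc _ ⟨k, k.2, rfl⟩).symm)⟩, i, j), hu'⟩
    choose φ hφ' using hdec
    have hφ : Function.Injective φ := by
      intro g g' e
      have e1 := hφ' g
      rw [e, hφ' g'] at e1
      exact Subtype.ext (Units.ext ((hunit _ (mem_mul (mem_pow hx _) (mem_pow hy _))).mul_right_cancel e1.symm))
    have := Nat.card_le_card_of_injective φ hφ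
    rw [Nat.card_prod, Nat.card_prod, Nat.card_zmod, hZ, hR] at this
    rcases hz with h | ⟨h, -⟩ <;> subst h <;> omega
  obtain ⟨p, r, hp, hr, hpr, hs1, hC1⟩ := norm_pair hx hy hxy (hsq x hx) (hsq y hy)
  obtain ⟨p', r', hp', hr', hpr', hs2, hC2⟩ := norm_pair hx' hy' hxy' (hsq x' hx') (hsq y' hy')
  obtain ⟨d1, d2⟩ := hC1 x' c1 c2
  obtain ⟨d3, d4⟩ := hC1 y' c3 c4
  obtain ⟨k1, k2⟩ := hC2 p d1.symm d3.symm
  obtain ⟨k3, k4⟩ := hC2 r d2.symm d4.symm
  have mk : ∀ a b c d : Matrix ι ι F, a ∈ matrixSet R → b ∈ matrixSet R → c ∈ matrixSet R → d ∈ matrixSet R →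
      a * a = 1 → b * b = 1 → c * c = -1 → d * d = -1 → b * a = -(a * b) → d * c = -(c * d) →
      c * a = a * c → c * b = b * c → d * a = a * d → d * b = b * d → ∃ f : Frame F ι, Spans f R :=
    fun a b c d ma mb mc md e1 e2 e3 e4 e5 e6 e7 e8 e9 e10 =>
      ⟨⟨a, b, c, d, e1, e2, e3, e4, e5, e6, e7, e8, e9, e10⟩, spans_of_mem h2 h4 _ ma mb mc md hcomm⟩
  have hi : z = 4 → ∃ i : F, i * i = -1 ∧ i • (1 : Matrix ι ι F) ∈ matrixSet R := by
    rintro rfl
    obtain ⟨u, hu, hu2⟩ : ∃ u : R, u ∈ Subgroup.center R ∧ u ^ 2 ≠ 1 := by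
      by_contra hall
      push Not at hall
      have hle : ∀ u : Subgroup.center R, (((u : R) : GL ι F) : Matrix ι ι F) = 1 ∨
          (((u : R) : GL ι F) : Matrix ι ι F) = -1 := fun u => hsign _ u.2 (hall _ u.2)
      have hinj : Function.Injective (fun u : Subgroup.center R =>
          decide ((((u : R) : GL ι F) : Matrix ι ι F) = 1)) := by
        intro u v e
        simp only [decide_eq_decide] at e
        refine Subtype.ext (Subtype.ext (Units.ext ?_))
        rcases hle u with hu | hu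
        · rw [hu, e.1 hu]
        · rcases hle v with hv | hv
          · rw [e.2 hv, hv]
          · rw [hu, hv]
      have := Nat.card_le_card_of_injective _ hinj
      rw [hZ, Nat.card_eq_fintype_card, Fintype.card_bool] at this
      omega
    obtain ⟨c, hc⟩ := hscal u hu
    refine ⟨c, ?_, hc ▸ ⟨u, u.2, rfl⟩⟩
    have e4 : (c ^ 2) ^ 2 = 1 := hsmul _ (by
      have e := congrArg (fun x : R => ((x : GL ι F) : Matrix ι ι F)) (h4' u)
      simpa [hc, smul_pow, ← pow_mul] using e)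
    rcases sq_eq_one_iff.1 e4 with e | e
    · refine absurd (Subtype.ext (Units.ext ?_)) hu2
      simp [hc, smul_pow, e]
    · rw [← pow_two, e]
  refine ⟨?_, hneg, hi⟩
  rcases hz with h | ⟨h, hminus⟩
  · obtain ⟨i, hii, him⟩ := hi h
    have sm : ∀ X ∈ matrixSet R, i • X ∈ matrixSet R := fun X hX => by
      have := mem_mul him hX
      rwa [smul_mul_assoc, one_mul] at this
    have sq : ∀ X : Matrix ι ι F, (i • X) * (i • X) = -(X * X) := fun X => by
      rw [smul_mul_assoc, mul_smul_comm, smul_smul, hii, neg_one_smul]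
    rcases hs1 with ⟨a1, b1⟩ | ⟨a1, b1⟩ <;> rcases hs2 with ⟨a2, b2⟩ | ⟨a2, b2⟩
    · exact mk p r (i • p') (i • r') hp hr (sm _ hp') (sm _ hr') a1 b1 (by rw [sq, a2]) (by rw [sq, b2]) hpr
        (by simp only [smul_mul_assoc, mul_smul_comm, hpr', smul_neg, smul_smul])
        (by rw [smul_mul_assoc, mul_smul_comm, k1]) (by rw [smul_mul_assoc, mul_smul_comm, k3])
        (by rw [smul_mul_assoc, mul_smul_comm, k2]) (by rw [smul_mul_assoc, mul_smul_comm, k4])
    · exact mk p r p' r' hp hr hp' hr' a1 b1 a2 b2 hpr hpr' k1.symm k3.symm k2.symm k4.symm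
    · exact mk p' r' p r hp' hr' hp hr a2 b2 a1 b1 hpr' hpr k1 k2 k3 k4
    · exact mk (i • p) (i • r) p' r' (sm _ hp) (sm _ hr) hp' hr' (by rw [sq, a1, neg_neg]) (by rw [sq, b1, neg_neg])
        a2 b2 (by simp only [smul_mul_assoc, mul_smul_comm, hpr, smul_neg, smul_smul]) hpr'
        (by rw [smul_mul_assoc, mul_smul_comm, k1]) (by rw [smul_mul_assoc, mul_smul_comm, k3])
        (by rw [smul_mul_assoc, mul_smul_comm, k2]) (by rw [smul_mul_assoc, mul_smul_comm, k4])
  · rcases hs1 with ⟨a1, b1⟩ | ⟨a1, b1⟩ <;> rcases hs2 with ⟨a2, b2⟩ | ⟨a2, b2⟩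
    · refine (not_minus h2 hminus hneg hp hp' a1 a2 k1 (hunit r hr) (hunit r' hr') (hunit r hr) ?_ ?_ ?_).elim
      · rw [hpr, neg_neg]
      · rw [hpr', neg_neg]
      · rw [mul_assoc, ← k3, ← mul_assoc, show p * r = -(r * p) by rw [hpr, neg_neg], neg_mul, mul_assoc]
    · exact mk p r p' r' hp hr hp' hr' a1 b1 a2 b2 hpr hpr' k1.symm k3.symm k2.symm k4.symm
    · exact mk p' r' p r hp' hr' hp hr a2 b2 a1 b1 hpr' hpr k1 k2 k3 k4
    · have e1 : p * p' * (p * p') = 1 := by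
        rw [mul_assoc, ← mul_assoc p' p p', ← k1, mul_assoc p p' p', a2, mul_neg, mul_one, mul_neg, a1, neg_neg]
      have e2 : r * r' * (r * r') = 1 := by
        rw [mul_assoc, ← mul_assoc r' r r', ← k4, mul_assoc r r' r', b2, mul_neg, mul_one, mul_neg, b1, neg_neg]
      have hpr2 : p * r = -(r * p) := by rw [hpr, neg_neg]
      have hpr2' : p' * r' = -(r' * p') := by rw [hpr', neg_neg]
      refine (not_minus h2 hminus hneg (mem_mul hp hp') (mem_mul hr hr') e1 e2 ?_ (hunit r hr) (hunit p hp)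
        (hunit p hp) ?_ ?_ ?_).elim
      · rw [mul_assoc, ← mul_assoc p' r r', ← k3, mul_assoc r p' r', hpr2', ← mul_assoc p r, hpr2, mul_neg, neg_mul,
          neg_neg, mul_assoc r p, ← mul_assoc p r' p', k2, mul_assoc r' p p', ← mul_assoc r r']
      · rw [mul_assoc, ← k3, ← mul_assoc, hpr2, neg_mul, mul_assoc]
      · rw [mul_assoc, ← k2, ← mul_assoc, hpr, neg_mul, mul_assoc]
      · rw [mul_assoc (p * p'), mul_assoc r r' p, ← k2, ← mul_assoc r p r', hpr, neg_mul, mul_neg, mul_assoc p r r',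
          mul_assoc p p', ← mul_assoc p' p, ← k1, mul_assoc p p']

end CfsgLib.Pauli
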