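import Mathlib

set_option autoImplicit false

/-!
A finite group of exponent dividing four whose characteristic abelian subgroups are cyclic, with centre of order four,
or of order thirty-two with centre of order two, has central commutators and central squares.
-/

namespace CfsgLib.Pauli

open scoped commutatorElement

variable {R : Type*} [Group R]

theorem card_le_four_of_cyclic [Finite R] (h4 : ∀ x : R, x ^ 4 = 1) (A : Subgroup R) [IsCyclic A] :
    Nat.card A ≤ 4 := by
  obtain ⟨g, hg⟩ := IsCyclic.exists_generator (α := A)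
  rw [← orderOf_eq_card_of_forall_mem_zpowers hg]
  exact Nat.le_of_dvd (by norm_num) (orderOf_dvd_of_pow_eq_one (Subtype.ext (by simpa using h4 g)))

theorem commute_of_second_center {a d : R} (ha : a ∈ Subgroup.upperCentralSeries R 2) (hd : d ∈ commutator R) :
    Commute a d := by
  have hc : ∀ g, a * g * a⁻¹ * g⁻¹ ∈ Subgroup.center R := fun g => by
    have := (Subgroup.mem_upperCentralSeries_succ_iff).1 ha g
    rwa [Subgroup.upperCentralSeries_one] at this
  let f : R →* Subgroup.center R := MonoidHom.mk' (fun g => ⟨_, hc g⟩) fun g h => Subtype.ext (by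
    show a * (g * h) * a⁻¹ * (g * h)⁻¹ = a * g * a⁻¹ * g⁻¹ * (a * h * a⁻¹ * h⁻¹)
    have hh := Subgroup.mem_center_iff.1 (hc h) g⁻¹
    rw [mul_assoc (a * g * a⁻¹) g⁻¹, hh]
    group)
  have : commutator R ≤ f.ker := by
    rw [commutator_def, Subgroup.commutator_le]
    intro g _ h _
    rw [MonoidHom.mem_ker, map_commutatorElement, commutatorElement_eq_one_iff_mul_comm]
    exact Subtype.ext ((Subgroup.mem_center_iff.1 (f h).2 (f g).1))
  have e : a * d * a⁻¹ * d⁻¹ = 1 := congrArg Subtype.val (MonoidHom.mem_ker.1 (this hd))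
  rwa [mul_inv_eq_one, mul_inv_eq_iff_eq_mul] at e

theorem exists_second_center [Group.IsNilpotent R] (h : ¬ commutator R ≤ Subgroup.center R) :
    ∃ a ∈ commutator R, a ∈ Subgroup.upperCentralSeries R 2 ∧ a ∉ Subgroup.center R := by
  classical
  obtain ⟨n, hn⟩ := Group.IsNilpotent.nilpotent R
  have hex : ∃ k, ∃ a ∈ commutator R, a ∈ Subgroup.upperCentralSeries R k ∧ a ∉ Subgroup.center R := by
    obtain ⟨a, ha, ha'⟩ := SetLike.not_le_iff_exists.1 h
    exact ⟨n, a, ha, hn ▸ Subgroup.mem_top a, ha'⟩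
  obtain ⟨a, ha, hak, haz⟩ := Nat.find_spec hex
  refine ⟨a, ha, ?_, haz⟩
  refine Subgroup.mem_upperCentralSeries_succ_iff.2 fun g => ?_
  rw [Subgroup.upperCentralSeries_one]
  by_contra hg
  match hk : Nat.find hex with
  | 0 =>
    rw [hk, Subgroup.upperCentralSeries_zero, Subgroup.mem_bot] at hak
    exact haz (hak ▸ one_mem _)
  | k + 1 =>
    rw [hk] at hak
    refine Nat.find_min hex (m := k) (by omega) ⟨_, ?_, Subgroup.mem_upperCentralSeries_succ_iff.1 hak g, hg⟩
    have : (commutator R).Normal := inferInstance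
    have h2 := mul_mem ha (this.conj_mem _ (inv_mem ha) g)
    simpa only [commutatorElement_def, mul_assoc] using h2

variable [Finite R]

theorem zpowers_char {a : R} {A : Subgroup R} (hA : A.Characteristic) (e : Subgroup.zpowers a = A) :
    (Subgroup.centralizer ({a} : Set R)).Characteristic := by
  have hs : Subgroup.centralizer ({a} : Set R) = Subgroup.centralizer (A : Set R) := by
    rw [← e, Subgroup.zpowers_eq_closure, Subgroup.centralizer_closure]
  rw [hs]
  infer_instance

theorem commutator_le_center (hp : IsPGroup 2 R) (h4 : ∀ x : R, x ^ 4 = 1)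
    (hchar : ∀ A : Subgroup R, A.Characteristic → IsMulCommutative A → IsCyclic A)
    (hz : Nat.card (Subgroup.center R) = 4 ∨ (Nat.card (Subgroup.center R) = 2 ∧ Nat.card R = 32)) :
    commutator R ≤ Subgroup.center R := by
  classical
  haveI : Fact (Nat.Prime 2) := ⟨Nat.prime_two⟩
  haveI := hp.isNilpotent
  by_contra hnc
  obtain ⟨a, haD, haZ2, haz⟩ := exists_second_center hnc
  obtain ⟨A, hA⟩ : ∃ A, A = (commutator R ⊓ Subgroup.upperCentralSeries R 2) ⊔ Subgroup.center R := ⟨_, rfl⟩
  haveI hAc : A.Characteristic := by rw [hA]; infer_instance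
  have hcomm : ∀ x ∈ A, ∀ y ∈ A, Commute x y := by
    have : A ≤ Subgroup.centralizer
        (((commutator R ⊓ Subgroup.upperCentralSeries R 2) ⊔ Subgroup.center R : Subgroup R) : Set R) := by
      rw [hA, sup_le_iff]
      refine ⟨?_, Subgroup.center_le_centralizer _⟩
      rw [Subgroup.le_centralizer_iff, sup_le_iff]
      refine ⟨fun x hx => Subgroup.mem_centralizer_iff.2 fun y hy => ?_, Subgroup.center_le_centralizer _⟩
      exact commute_of_second_center hy.2 hx.1
    intro x hx y hy
    exact (Subgroup.mem_centralizer_iff.1 (this hy) x (hA ▸ hx))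
  haveI : IsMulCommutative A := ⟨⟨fun x y => Subtype.ext (hcomm _ x.2 _ y.2)⟩⟩
  haveI := hchar A hAc this
  have hA4 := card_le_four_of_cyclic h4 A
  have haA : a ∈ A := hA ▸ Subgroup.mem_sup_left ⟨haD, haZ2⟩
  have hZA : Subgroup.center R ≤ A := hA ▸ le_sup_right
  have hlt : Nat.card (Subgroup.center R) < Nat.card A := by
    refine lt_of_le_of_ne (Subgroup.card_le_of_le hZA) fun e => haz ?_
    rw [Subgroup.eq_of_le_of_card_ge hZA e.ge]
    exact haA
  rcases hz with hz | ⟨hz, hR⟩
  · omega
  have hA4' : Nat.card A = 4 := by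
    have := Subgroup.card_dvd_of_le hZA
    rw [hz] at this
    omega
  have hord : orderOf a = 4 := by
    obtain ⟨g, hg⟩ := IsCyclic.exists_generator (α := A)
    have hog : orderOf g = 4 := (orderOf_eq_card_of_forall_mem_zpowers hg).trans hA4'
    obtain ⟨k, hk⟩ := hg ⟨a, haA⟩
    by_contra hne
    have h2 : a ^ 2 = 1 := by
      have hd : orderOf a ∣ 2 ^ 2 := orderOf_dvd_of_pow_eq_one (h4 a)
      obtain ⟨j, hj, e⟩ := (Nat.dvd_prime_pow Nat.prime_two).1 hd
      interval_cases j
      · rw [orderOf_eq_one_iff.1 e, one_pow]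
      · rw [← pow_one 2, ← e, pow_orderOf_eq_one]
      · exact absurd e hne
    -- an involution of a cyclic group of order four is the square of the generator
    obtain ⟨z, hzc, hz1⟩ : ∃ z ∈ Subgroup.center R, z ≠ 1 := by
      by_contra hall
      push Not at hall
      have : Subgroup.center R = ⊥ := (Subgroup.eq_bot_iff_forall _).2 hall
      rw [this, Subgroup.card_bot] at hz
      omega
    have hz2 : z ^ 2 = 1 := by
      have := pow_card_eq_one' (x := (⟨z, hzc⟩ : Subgroup.center R))
      rw [hz] at this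
      simpa using congrArg Subtype.val this
    have hcy : ∀ w : A, w ^ 2 = 1 → w = 1 ∨ w = g ^ 2 := fun w hw => by
      obtain ⟨m, hm⟩ := hg w
      subst hm
      have hdvd : (4 : ℤ) ∣ m * 2 := by
        rw [show (4 : ℤ) = ((4 : ℕ) : ℤ) by norm_num, ← hog, orderOf_dvd_iff_zpow_eq_one, zpow_mul, zpow_ofNat]
        exact hw
      have h2m : (2 : ℤ) ∣ m := by omega
      obtain ⟨l, rfl⟩ := h2m
      rcases Int.even_or_odd l with ⟨t, rfl⟩ | ⟨t, rfl⟩
      · left
        show g ^ (2 * (t + t)) = 1
        rw [← orderOf_dvd_iff_zpow_eq_one, hog]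
        omega
      · right
        show g ^ (2 * (2 * t + 1)) = g ^ 2
        rw [mul_add, mul_one, zpow_add, ← mul_assoc, show g ^ (2 * 2 * t) = 1 by
          rw [← orderOf_dvd_iff_zpow_eq_one, hog]; omega, one_mul, zpow_ofNat]
    have e1 := (hcy ⟨a, haA⟩ (Subtype.ext h2)).resolve_left fun e => haz (by
      rw [show a = 1 from congrArg Subtype.val e]; exact one_mem _)
    have e2 := (hcy ⟨z, hZA hzc⟩ (Subtype.ext hz2)).resolve_left fun e => hz1 (congrArg Subtype.val e)
    exact haz ((show a = z from congrArg Subtype.val (e1.trans e2.symm)).symm ▸ hzc)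
  have hza : Subgroup.zpowers a = A :=
    Subgroup.eq_of_le_of_card_ge (Subgroup.zpowers_le.2 haA) (by rw [Nat.card_zpowers, hord, hA4'])
  obtain ⟨C, hC⟩ : ∃ C, C = Subgroup.centralizer ({a} : Set R) := ⟨_, rfl⟩
  haveI hCc : C.Characteristic := hC ▸ zpowers_char hAc hza
  have haC : a ∈ C := hC ▸ Subgroup.mem_centralizer_singleton_iff.2 rfl
  -- the centre of the centraliser
  obtain ⟨T, hT⟩ : ∃ T, T = C ⊓ Subgroup.centralizer (C : Set R) := ⟨_, rfl⟩
  haveI hTc : T.Characteristic := by rw [hT]; infer_instance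
  haveI : IsMulCommutative T := ⟨⟨fun x y => Subtype.ext (by
    have hx : (x : R) ∈ C ⊓ Subgroup.centralizer (C : Set R) := hT ▸ x.2
    have hy : (y : R) ∈ C ⊓ Subgroup.centralizer (C : Set R) := hT ▸ y.2
    exact Subgroup.mem_centralizer_iff.1 hy.2 _ hx.1)⟩⟩
  haveI := hchar T hTc this
  have hAT : A ≤ T := by
    rw [hT, ← hza, Subgroup.zpowers_le]
    exact ⟨haC, Subgroup.mem_centralizer_iff.2 fun y hy => Subgroup.mem_centralizer_singleton_iff.1 (hC ▸ hy)⟩
  have hTA : A = T := Subgroup.eq_of_le_of_card_ge hAT (by rw [hA4']; exact card_le_four_of_cyclic h4 T)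
  have hcent : ∀ g, a * g * a⁻¹ * g⁻¹ ∈ Subgroup.center R := fun g => by
    have := Subgroup.mem_upperCentralSeries_succ_iff.1 haZ2 g
    rwa [Subgroup.upperCentralSeries_one] at this
  let f : R →* Subgroup.center R := MonoidHom.mk' (fun g => ⟨_, hcent g⟩) fun g h => Subtype.ext (by
    show a * (g * h) * a⁻¹ * (g * h)⁻¹ = a * g * a⁻¹ * g⁻¹ * (a * h * a⁻¹ * h⁻¹)
    have hh := Subgroup.mem_center_iff.1 (hcent h) g⁻¹
    rw [mul_assoc (a * g * a⁻¹) g⁻¹, hh]
    group)
  have hker : f.ker = C := by
    ext g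
    rw [MonoidHom.mem_ker, hC, Subgroup.mem_centralizer_singleton_iff, ← Subtype.coe_inj]
    show a * g * a⁻¹ * g⁻¹ = 1 ↔ _
    rw [mul_inv_eq_one, mul_inv_eq_iff_eq_mul, eq_comm]
  have hC16 : Nat.card C = 16 := by
    have h1 : C.index ∣ 2 := by
      rw [← hker, Subgroup.index_ker, ← hz]
      exact Subgroup.card_subgroup_dvd_card _
    have h2 : C.index ≠ 1 := fun e => haz (Subgroup.mem_center_iff.2 fun g => by
      have : g ∈ C := Subgroup.index_eq_one.1 e ▸ Subgroup.mem_top g
      exact Subgroup.mem_centralizer_singleton_iff.1 (hC ▸ this))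
    have h3 := C.card_mul_index
    rw [((Nat.dvd_prime Nat.prime_two).1 h1).resolve_left h2, hR] at h3
    omega
  -- squares of the centraliser are central
  have hsq : ∀ x ∈ C, x ^ 2 ∈ Subgroup.center R := by
    intro x hx
    have hxx : x ^ 2 ∈ A := by
      have hcT : Nat.card (Subgroup.center C) = 4 := by
        refine (Nat.card_congr ((Equiv.subtypeSubtypeEquivSubtypeExists _ _).trans
          (Equiv.subtypeEquivRight fun y => ?_))).trans ((hTA ▸ hA4' : Nat.card T = 4))
        rw [hT, Subgroup.mem_inf, Subgroup.mem_centralizer_iff]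
        constructor
        · rintro ⟨hy, hy'⟩
          exact ⟨hy, fun w hw => congrArg Subtype.val (Subgroup.mem_center_iff.1 hy' ⟨w, hw⟩)⟩
        · rintro ⟨hy, hy'⟩
          exact ⟨hy, Subgroup.mem_center_iff.2 fun w => Subtype.ext (hy' w w.2)⟩
      have hq : Nat.card (C ⧸ Subgroup.center C) = 4 := by
        have h := Subgroup.card_eq_card_quotient_mul_card_subgroup (Subgroup.center C)
        rw [hC16, hcT] at h
        omega
      have h2 : ∀ u : C ⧸ Subgroup.center C, u ^ 2 = 1 := by
        intro u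
        by_contra hu
        have ho : orderOf u = 4 := by
          have hd : orderOf u ∣ 2 ^ 2 := (orderOf_dvd_natCard u).trans (by rw [hq]; norm_num)
          obtain ⟨j, hj, e⟩ := (Nat.dvd_prime_pow Nat.prime_two).1 hd
          interval_cases j
          · exact absurd (by rw [orderOf_eq_one_iff.1 e, one_pow]) hu
          · exact absurd (by rw [← pow_one 2, ← e, pow_orderOf_eq_one]) hu
          · exact e
        haveI := isCyclic_of_orderOf_eq_card u (ho.trans hq.symm)
        have hcomm := commutative_of_cyclic_center_quotient (QuotientGroup.mk' (Subgroup.center C))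
          (by simp)
        have htop : Subgroup.center C = ⊤ := Subgroup.eq_top_iff' _ |>.2 fun y =>
          Subgroup.mem_center_iff.2 fun w => hcomm w y
        rw [htop, Subgroup.card_top, hC16] at hcT
        omega
      have := h2 (QuotientGroup.mk (⟨x, hx⟩ : C))
      rw [← QuotientGroup.mk_pow, QuotientGroup.eq_one_iff] at this
      rw [hTA, hT]
      exact ⟨pow_mem hx 2, Subgroup.mem_centralizer_iff.2 fun w hw =>
        congrArg Subtype.val (Subgroup.mem_center_iff.1 this ⟨w, hw⟩)⟩
    obtain ⟨k, hk⟩ := (hza ▸ hxx : x ^ 2 ∈ Subgroup.zpowers a)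
    have hk2 : (2 : ℤ) ∣ k := by
      have : (4 : ℤ) ∣ k * 2 := by
        rw [show (4 : ℤ) = ((4 : ℕ) : ℤ) by norm_num, ← hord, orderOf_dvd_iff_zpow_eq_one, zpow_mul,
          show a ^ k = x ^ 2 from hk, zpow_ofNat, ← pow_mul]
        exact h4 x
      omega
    obtain ⟨l, rfl⟩ := hk2
    rw [← hk]
    show a ^ (2 * l) ∈ _
    rw [zpow_mul, zpow_ofNat]
    refine zpow_mem ?_ l
    -- the square of `a` is central
    refine Subgroup.mem_center_iff.2 fun g => ?_
    have hh : a * g * a⁻¹ * g⁻¹ * (a * g * a⁻¹ * g⁻¹) = 1 := by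
      have := pow_card_eq_one' (x := f g)
      rw [hz, pow_two] at this
      exact congrArg Subtype.val this
    have hc' := Subgroup.mem_center_iff.1 (hcent g) a
    obtain ⟨c, hc⟩ : ∃ c, c = a * g * a⁻¹ * g⁻¹ := ⟨_, rfl⟩
    rw [← hc] at hh hc'
    have e : a * g = c * g * a := by rw [hc]; group
    rw [pow_two]
    symm
    calc a * a * g = a * (a * g) := mul_assoc _ _ _
      _ = a * c * g * a := by rw [e]; group
      _ = c * (a * g) * a := by rw [hc']; group
      _ = c * c * g * a * a := by rw [e]; group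
      _ = g * (a * a) := by rw [hh, one_mul, mul_assoc]
  -- the map to the quotient by the centre
  let q := QuotientGroup.mk' (Subgroup.center R)
  have hq1 : ∀ {x}, q x = 1 ↔ x ∈ Subgroup.center R := fun {x} => QuotientGroup.eq_one_iff x
  obtain ⟨g, hg⟩ : ∃ g, g ∉ C := by
    by_contra hall
    push Not at hall
    have : C = ⊤ := (Subgroup.eq_top_iff' C).2 hall
    rw [this, Subgroup.card_top] at hC16
    omega
  have hidx : C.index = 2 := by
    have := C.card_mul_index
    rw [hC16, hR] at this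
    omega
  have hgC : g * g ∈ C := (Subgroup.mul_mem_iff_of_index_two hidx).2 Iff.rfl
  have hinv : ∀ x ∈ C, q x * q x = 1 := fun x hx => by rw [← map_mul, ← pow_two]; exact hq1.2 (hsq x hx)
  have hCcomm : ∀ x ∈ C, ∀ y ∈ C, q x * q y = q y * q x := fun x hx y hy => by
    have h1 := hinv _ (mul_mem hx hy)
    have hx' := hinv _ hx
    have hy' := hinv _ hy
    rw [map_mul] at h1
    calc q x * q y = (q x * q y)⁻¹ := eq_inv_of_mul_eq_one_left h1
      _ = q y * q x := by rw [mul_inv_rev, ← eq_inv_of_mul_eq_one_left hx', ← eq_inv_of_mul_eq_one_left hy']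
  have hconj : ∀ x ∈ C, g * x * g⁻¹ ∈ C := fun x hx => (inferInstance : C.Normal).conj_mem x hx g
  let φ : C →* R ⧸ Subgroup.center R := MonoidHom.mk' (fun x => q x * q (g * x * g⁻¹)) fun x y => by
    show q ((x : R) * y) * q (g * (x * y) * g⁻¹) = q x * q (g * x * g⁻¹) * (q y * q (g * y * g⁻¹))
    have h := hCcomm _ y.2 _ (hconj _ x.2)
    rw [show g * ((x : R) * y) * g⁻¹ = g * x * g⁻¹ * (g * y * g⁻¹) by group, map_mul q (x : R),
      map_mul q (g * x * g⁻¹), mul_assoc (q x) (q y), ← mul_assoc (q y), h, mul_assoc, ← mul_assoc (q x)]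
  -- the image lies in the kernel
  have hfix : ∀ x : C, ∀ w : R, w ∈ C → q w = φ x → q (g * w * g⁻¹) = q w := by
    intro x w hw e
    have hgg : q (g * (g * x * g⁻¹) * g⁻¹) = q x := by
      have h1 := hCcomm _ hgC _ x.2
      rw [show g * (g * (x : R) * g⁻¹) * g⁻¹ = g * g * x * (g * g)⁻¹ by group, map_mul, map_mul, h1, map_inv,
        mul_inv_cancel_right]
    rw [map_mul, map_mul, e]
    show q g * (q x * q (g * x * g⁻¹)) * q g⁻¹ = q x * q (g * x * g⁻¹)
    conv_rhs => rw [← hgg, hCcomm _ (hconj _ (hconj _ x.2)) _ (hconj _ x.2)]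
    simp only [map_mul, map_inv]
    group
  obtain ⟨W, hW⟩ : ∃ W, W = Subgroup.upperCentralSeries R 2 := ⟨_, rfl⟩
  have hWmem : ∀ {x}, x ∈ W ↔ ∀ y, q x * q y = q y * q x := fun {x} => by
    rw [hW, Subgroup.mem_upperCentralSeries_succ_iff, Subgroup.upperCentralSeries_one]
    refine forall_congr' fun y => ?_
    rw [← hq1, commutatorElement_def, map_mul, map_mul, map_mul, map_inv, map_inv, mul_inv_eq_one,
      mul_inv_eq_iff_eq_mul]
  have hWC : W ≤ C := fun x hx => by
    rw [hC, Subgroup.mem_centralizer_singleton_iff]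
    exact (commute_of_second_center (hW ▸ hx) haD).eq
  have hphi : ∀ x : C, φ x = 1 ↔ (x : R) ∈ W := by
    intro x
    show q x * q (g * x * g⁻¹) = 1 ↔ _
    rw [mul_eq_one_iff_eq_inv, ← eq_inv_of_mul_eq_one_left (hinv _ (hconj _ x.2)), map_mul, map_mul, map_inv]
    constructor
    · intro h
      refine hWmem.2 fun y => ?_
      have hg' : q x * q g = q g * q x := by rw [eq_mul_inv_iff_mul_eq] at h; exact h
      by_cases hy : y ∈ C
      · exact hCcomm _ x.2 _ hy
      have hy' : g⁻¹ * y ∈ C := (Subgroup.mul_mem_iff_of_index_two hidx).2 (by simp [hg, hy])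
      rw [show y = g * (g⁻¹ * y) by group, map_mul, ← mul_assoc, hg', mul_assoc, hCcomm _ x.2 _ hy', mul_assoc]
    · intro h
      rw [eq_mul_inv_iff_mul_eq]
      exact hWmem.1 h g
  have himg : φ.range ≤ W.map q := by
    rintro _ ⟨x, rfl⟩
    refine ⟨(x : R) * (g * x * g⁻¹), ?_, map_mul _ _ _⟩
    have hw : (x : R) * (g * x * g⁻¹) ∈ C := mul_mem x.2 (hconj _ x.2)
    refine (hphi ⟨_, hw⟩).1 ?_
    show q _ * q (g * _ * g⁻¹) = 1
    rw [hfix x _ hw (map_mul _ _ _), hinv _ hw]
  have hker' : φ.ker = W.subgroupOf C := by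
    ext x
    rw [MonoidHom.mem_ker, hphi, Subgroup.mem_subgroupOf]
  have hWcard : Nat.card φ.ker = Nat.card W := by
    rw [hker']
    exact Nat.card_congr (Subgroup.subgroupOfEquivOfLe hWC).toEquiv
  have hprod : Nat.card φ.range * Nat.card W = 16 := by
    rw [← hWcard, ← Subgroup.index_ker, mul_comm, Subgroup.card_mul_index, hC16]
  have hhalf : 2 * Nat.card φ.range ≤ Nat.card W := by
    have h2 := Subgroup.card_le_of_le himg
    have hZW : Subgroup.center R ≤ W := by
      intro x hx
      refine hWmem.2 fun y => ?_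
      rw [hq1.2 hx, one_mul, mul_one]
    have h3 : Nat.card (W.map q) * 2 = Nat.card W := by
      have e1 := (q.comp W.subtype).ker.card_mul_index
      have e2 : (q.comp W.subtype).ker = (Subgroup.center R).subgroupOf W := by
        ext x
        exact hq1
      rw [e2, Nat.card_congr (Subgroup.subgroupOfEquivOfLe hZW).toEquiv, hz] at e1
      rw [← e1, ← e2, Subgroup.index_ker, MonoidHom.range_comp, Subgroup.range_subtype, mul_comm]
    omega
  have hW16 : Nat.card W ≠ 16 := fun e => hnc (by
    have hWC' : W = C := Subgroup.eq_of_le_of_card_ge hWC (by omega)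
    rw [commutator_def, Subgroup.commutator_le]
    intro x _ y _
    rw [← hq1, map_commutatorElement, commutatorElement_eq_one_iff_mul_comm]
    by_cases hx : x ∈ C
    · exact hWmem.1 (hWC' ▸ hx) y
    by_cases hy : y ∈ C
    · exact (hWmem.1 (hWC' ▸ hy) x).symm
    have hxy : x⁻¹ * y ∈ C := (Subgroup.mul_mem_iff_of_index_two hidx).2 (by simp [hx, hy])
    rw [show y = x * (x⁻¹ * y) by group, map_mul, mul_assoc, hWmem.1 (hWC' ▸ hxy) x])
  have hW8 : Nat.card W = 8 := by
    have hd : Nat.card W ∣ 2 ^ 4 := Dvd.intro_left _ hprod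
    obtain ⟨j, hj, e⟩ := (Nat.dvd_prime_pow Nat.prime_two).1 hd
    interval_cases j <;> (rw [e] at hprod hhalf hW16 ⊢) <;> omega
  have hAW : A ≤ W := by
    rw [← hza, Subgroup.zpowers_le, hW]
    exact haZ2
  obtain ⟨d, hd, hdA⟩ : ∃ d ∈ W, d ∉ A := by
    by_contra hall
    push Not at hall
    have := Subgroup.card_le_of_le (show W ≤ A from hall)
    omega
  have hWcl : W = Subgroup.closure {a, d} := by
    refine (Subgroup.eq_of_le_of_card_ge ((Subgroup.closure_le _).2 ?_) ?_).symm
    · rintro u (rfl | rfl)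
      · exact hW ▸ haZ2
      · exact hd
    have hle : A ≤ Subgroup.closure {a, d} := by
      rw [← hza, Subgroup.zpowers_le]
      exact Subgroup.subset_closure (Set.mem_insert _ _)
    have hgt : Nat.card A < Nat.card (Subgroup.closure ({a, d} : Set R)) := by
      refine lt_of_le_of_ne (Subgroup.card_le_of_le hle) fun e => hdA ?_
      rw [Subgroup.eq_of_le_of_card_ge hle e.ge]
      exact Subgroup.subset_closure (Set.mem_insert_of_mem _ rfl)
    have hdiv := Subgroup.card_dvd_of_le hle
    rw [hA4'] at hdiv hgt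
    omega
  haveI : IsMulCommutative W := by
    rw [hWcl]
    refine Subgroup.isMulCommutative_closure fun x hx y hy => ?_
    have had : a * d = d * a := (Subgroup.mem_centralizer_singleton_iff.1 (hC ▸ hWC hd)).symm
    rcases hx with rfl | rfl <;> rcases hy with rfl | rfl
    · rfl
    · exact had
    · exact had.symm
    · rfl
  haveI hWch : W.Characteristic := by rw [hW]; infer_instance
  haveI := hchar W hWch this
  have := card_le_four_of_cyclic h4 W
  omega

/-- Squares are central as well, and commutators are involutions. -/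
theorem square_and_commutator (h4 : ∀ x : R, x ^ 4 = 1) (hD : commutator R ≤ Subgroup.center R) (x y : R) :
    x ^ 2 ∈ Subgroup.center R ∧ ⁅x, y⁆ ∈ Subgroup.center R ∧ ⁅x, y⁆ ^ 2 = 1 := by
  have hc : ∀ u v : R, ⁅u, v⁆ ∈ Subgroup.center R := fun u v =>
    hD (Subgroup.commutator_mem_commutator (Subgroup.mem_top u) (Subgroup.mem_top v))
  have hsq : ∀ u v : R, ⁅u, v⁆ ^ 2 = 1 := by
    intro u v
    obtain ⟨c, hcd⟩ : ∃ c, c = ⁅u, v⁆ := ⟨_, rfl⟩
    have e : u * v = c * (v * u) := by rw [hcd, commutatorElement_def]; group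
    have cc : ∀ w, w * c = c * w := Subgroup.mem_center_iff.1 (hcd ▸ hc u v)
    have uv : ∀ w, u * (v * w) = c * (v * (u * w)) := fun w => by
      rw [← mul_assoc, e]; simp only [mul_assoc]
    have cl : ∀ w z : R, w * (c * z) = c * (w * z) := fun w z => by rw [← mul_assoc, cc, mul_assoc]
    have hu : u * (u * (u * u)) = 1 := by have := h4 u; simpa [pow_succ, mul_assoc] using this
    have hv : v * (v * (v * v)) = 1 := by have := h4 v; simpa [pow_succ, mul_assoc] using this
    have hc4 : c * (c * (c * c)) = 1 := by have := h4 c; simpa [pow_succ, mul_assoc] using this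
    have hc4' : ∀ z, c * (c * (c * (c * z))) = z := fun z => by
      have := congrArg (· * z) hc4
      simpa only [mul_assoc, one_mul] using this
    have h := h4 (v * u)
    simp only [pow_succ, pow_zero, one_mul, mul_assoc, uv, cl, e, cc, hc4', hc4] at h
    have hv' : ∀ z, v * (v * (v * (v * z))) = z := fun z => by
      have := congrArg (· * z) hv
      simpa only [mul_assoc, one_mul] using this
    simp only [hv', hu, hv, mul_one] at h
    rw [← hcd, pow_two]
    exact h
  refine ⟨Subgroup.mem_center_iff.2 fun g => ?_, hc x y, hsq x y⟩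
  obtain ⟨c, hcd⟩ : ∃ c, c = ⁅g, x⁆ := ⟨_, rfl⟩
  have e : g * x = c * (x * g) := by rw [hcd, commutatorElement_def]; group
  have cc : ∀ w, w * c = c * w := Subgroup.mem_center_iff.1 (hcd ▸ hc g x)
  rw [pow_two, ← mul_assoc, e, mul_assoc, mul_assoc, e, ← mul_assoc x c, cc, mul_assoc c x, ← mul_assoc c c,
    ← pow_two c, hcd, hsq, one_mul, mul_assoc]

end CfsgLib.Pauli
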