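import Cfsg.Agent.Lib.Classical.Pauli.Common

set_option autoImplicit false
set_option linter.unusedSectionVars false

/-!
Which prime order elements of `SL₄(p)` normalise a conjugate of `4 ∘ 2^(1+4)`.
-/

namespace CfsgLib.Pauli

open Matrix
open scoped MatrixGroups
open Cfsg.Geo (matrixSet subgroupNormalizer specialLinear IsLinearSymplecticTypeData)

variable {F : Type*} [Field F] {ι : Type} [Fintype ι] [DecidableEq ι] {R : Subgroup (GL ι F)}

theorem smul_mem_normalizer {y : GL ι F} (hy : y ∈ subgroupNormalizer R) {μ : F} {Z : GL ι F}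
    (hZ : (Z : Matrix ι ι F) = μ • (y : Matrix ι ι F)) : Z ∈ subgroupNormalizer R := by
  have hc : ∀ k : GL ι F, Commute (Z * y⁻¹) k := fun k => Units.ext (by
    simp only [Units.val_mul, hZ, Matrix.smul_mul, Units.mul_inv, Matrix.one_mul, Matrix.mul_smul, Matrix.mul_one])
  have h1 : Z * y⁻¹ ∈ subgroupNormalizer R := Subgroup.mem_normalizer_iff.2 fun k => by
    rw [(hc k).eq, mul_inv_cancel_right]
  have := mul_mem h1 hy
  rwa [inv_mul_cancel_right] at this

theorem exists_conj_mem {μ : F} {X Y : Matrix ι ι F} {x y : GL ι F} (hX : (x : Matrix ι ι F) = μ • X)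
    (hy : (y : Matrix ι ι F) = Y) (hmem : y ∈ subgroupNormalizer R) {g : GL ι F}
    (hg : X * (g : Matrix ι ι F) = (g : Matrix ι ι F) * Y) : g⁻¹ * x * g ∈ subgroupNormalizer R := by
  refine smul_mem_normalizer hmem (μ := μ) ?_
  rw [Units.val_mul, Units.val_mul, hX, hy, Matrix.mul_assoc, Matrix.smul_mul, hg, Matrix.mul_smul,
    ← Matrix.mul_assoc, g.inv_mul, Matrix.one_mul]

theorem mem_sl {x : GL ι F} : x ∈ specialLinear ι F ↔ (x : Matrix ι ι F).det = 1 := by
  show Matrix.GeneralLinearGroup.det x = 1 ↔ _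
  rw [← Units.val_inj, Matrix.GeneralLinearGroup.val_det_apply, Units.val_one]

variable [Fintype F] {p : ℕ} [Fact p.Prime] [CharP F p]

theorem p_ge (hp4 : p % 4 = 1) : 5 ≤ p := by
  have := (Fact.out : p.Prime).two_le
  omega

theorem small_ne_zero {k : ℕ} (hk0 : 0 < k) (hk : k < p) : ((k : ℕ) : F) ≠ 0 := fun e => by
  have := Nat.le_of_dvd hk0 ((CharP.cast_eq_zero_iff F p k).1 e)
  omega

/-- The statement. -/
theorem linear_iff (hF : Fintype.card F = p) (hp4 : p % 4 = 1) (R : Subgroup (GL (Fin 4) F))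
    (hR : IsLinearSymplecticTypeData 2 R) (hR6 : Nat.card R = 2 ^ 6) (r : ℕ) [Fact r.Prime]
    (hΩ : r ∣ (subgroupNormalizer R).relIndex (specialLinear (Fin 4) F)) :
    (∀ x ∈ specialLinear (Fin 4) F, (∃ z : F, ((x ^ r : GL (Fin 4) F) : Matrix (Fin 4) (Fin 4) F) = z • 1) →
      (∀ z : F, (x : Matrix (Fin 4) (Fin 4) F) ≠ z • 1) →
      ∃ g ∈ specialLinear (Fin 4) F, g⁻¹ * x * g ∈ subgroupNormalizer R) ↔
    (r = 2 ∨ (r = 3 ∧ p % 3 = 2) ∨ (r = 5 ∧ orderOf (p : ZMod 5) = 4)) := by
  classical
  have hrp : r.Prime := Fact.out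
  have hpp : p.Prime := Fact.out
  have hp5 := p_ge hp4
  have h2 : (2 : F) ≠ 0 := by exact_mod_cast small_ne_zero (F := F) (k := 2) (p := p) (by norm_num) (by omega)
  have h3 : (3 : F) ≠ 0 := by exact_mod_cast small_ne_zero (F := F) (k := 3) (p := p) (by norm_num) (by omega)
  have h4F : (4 : F) ≠ 0 := by exact_mod_cast small_ne_zero (F := F) (k := 4) (p := p) (by norm_num) (by omega)
  have h4 : Fintype.card (Fin 4) = 4 := Fintype.card_fin 4
  obtain ⟨hs, habs, p', e, -, -, hcases⟩ := hR
  have hZ : Nat.card (Subgroup.center R) = 4 := by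
    rcases hcases with ⟨h, -⟩ | ⟨-, -, h, -⟩ | ⟨-, -, h, -⟩
    · exact absurd h (by decide)
    · exact h
    · simp at h
  obtain ⟨⟨f, hf⟩, hneg, hi⟩ := exists_spans h2 h4 hs habs (z := 4) (by rw [hR6]; norm_num) hZ (Or.inl rfl)
  obtain ⟨i, hii, him⟩ := hi rfl
  have hone : (1 : F) • (1 : Matrix (Fin 4) (Fin 4) F) ∈ matrixSet R := by rw [one_smul]; exact mem_one
  have hm1 : (-1 : F) • (1 : Matrix (Fin 4) (Fin 4) F) ∈ matrixSet R := by rw [neg_one_smul]; exact hneg
  constructor
  · -- necessity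
    intro hall
    by_contra hc
    push Not at hc
    obtain ⟨hr2, hr3, hr5⟩ := hc
    have hodd : Odd r := hrp.odd_of_ne_two hr2
    have bad : ∀ {κ : Type} [Fintype κ] (X : Matrix (Fin 4) (Fin 4) F) (fam : κ → Matrix (Fin 4) (Fin 4) F),
        X.det = 1 → X ^ r = 1 → (∀ z : F, X ≠ z • 1) → LinearIndependent F fam → (∀ k, X * fam k = fam k * X) →
        (∀ n t : ℕ, n ∈ [1, 2, 4, 8] → n + r * t = 16 → n + t < Fintype.card κ) → False := by
      intro κ _ X fam hd hpow hns hli hcomm hb
      obtain ⟨x, hx⟩ : ∃ x : GL (Fin 4) F, (x : Matrix (Fin 4) (Fin 4) F) = X :=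
        ⟨Matrix.GeneralLinearGroup.mkOfDetNeZero X (hd ▸ one_ne_zero), rfl⟩
      obtain ⟨g, -, hg⟩ := hall x (mem_sl.2 (hx ▸ hd)) ⟨1, by rw [Units.val_pow_eq_pow_val, hx, hpow, one_smul]⟩
        (hx ▸ hns)
      exact not_conj_of_commutant h2 h4 hf hneg hrp hodd ⟨1, by rw [Units.val_pow_eq_pow_val, hx, hpow, one_smul]⟩
        (hx ▸ hns) hg hli (hx ▸ hcomm) hb
    rcases Nat.lt_or_ge r 7 with hlt | h7
    · have hcases : r = 3 ∨ r = 5 := by
        have := hrp.two_le
        interval_cases r <;> first | omega | exact absurd hrp (by norm_num)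
      rcases hcases with rfl | rfl
      · have hp3 : p % 3 = 1 := by
          have h30 : ¬ 3 ∣ p := fun h => by
            have := (Nat.prime_dvd_prime_iff_eq (by norm_num) hpp).1 h
            omega
          have := hr3 rfl
          omega
        have hd : 3 ∣ Nat.card Fˣ := by
          rw [Nat.card_eq_fintype_card, Fintype.card_units, hF]; omega
        haveI : Fact (Nat.Prime 3) := ⟨by norm_num⟩
        obtain ⟨w, hw⟩ := exists_prime_orderOf_dvd_card' 3 hd
        have hw3 : (w : F) ^ 3 = 1 := by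
          have := pow_orderOf_eq_one w
          rw [hw] at this
          simpa using congrArg Units.val this
        have hw1 : (w : F) ≠ 1 := fun e => by
          rw [show w = 1 from Units.ext e, orderOf_one] at hw
          omega
        refine bad (Matrix.diagonal ![1, (w : F), w, w])
          (fun k : Fin 3 × Fin 3 => Matrix.single k.1.succ k.2.succ (1 : F)) ?_ ?_ ?_ ?_ ?_ ?_
        · simp [Matrix.det_diagonal, Fin.prod_univ_four]
          linear_combination hw3
        · rw [Matrix.diagonal_pow, ← Matrix.diagonal_one]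
          congr 1
          ext j
          fin_cases j <;> simp [hw3]
        · intro z e
          have h0 := congrFun₂ e 0 0
          have h1 := congrFun₂ e 1 1
          simp at h0 h1
          exact hw1 (h1.trans h0.symm)
        · rw [Fintype.linearIndependent_iff]
          intro c hc k
          have := congrFun₂ hc k.1.succ k.2.succ
          rw [Matrix.sum_apply, Finset.sum_eq_single k (fun l _ hl => by
            rw [Matrix.smul_apply, Matrix.single_apply, if_neg, smul_zero]
            rintro ⟨a, b⟩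
            exact hl (Prod.ext (Fin.succ_injective _ a) (Fin.succ_injective _ b))) (by simp)] at this
          simpa using this
        · rintro ⟨a, b⟩
          ext j l
          fin_cases a <;> fin_cases b <;> fin_cases j <;> fin_cases l <;>
            simp [Matrix.diagonal_mul, Matrix.mul_diagonal, Matrix.single_apply]
        · intro n t hn ht
          simp only [List.mem_cons, List.not_mem_nil, or_false] at hn
          simp only [Fintype.card_prod, Fintype.card_fin]
          omega
      · obtain ⟨A, hA1, hA5, hAns⟩ := exists_sl_two_five (p := p) hF (by omega) (five_mod_cases (hr5 rfl))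
        refine bad (dbl finProdFinEquiv A) (dblFam finProdFinEquiv A) ?_ ?_ (dbl_ne_scalar _ hAns)
          (dblFam_indep _ hAns) (dblFam_comm _ A) ?_
        · rw [dbl_det, hA1, one_mul]
        · rw [dbl_pow, hA5, dbl_one]
        · intro n t hn ht
          simp only [List.mem_cons, List.not_mem_nil, or_false] at hn
          simp only [Fintype.card_prod, Fintype.card_fin]
          omega
    · haveI : Finite (GL (Fin 4) F) := Finite.of_injective _ Units.val_injective
      have hd : r ∣ Nat.card (specialLinear (Fin 4) F) := hΩ.trans (Subgroup.relIndex_dvd_card _ _)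
      obtain ⟨x, hx⟩ := exists_prime_orderOf_dvd_card' r hd
      have hxr : ((x : GL (Fin 4) F) : Matrix (Fin 4) (Fin 4) F) ^ r = 1 := by
        have := pow_orderOf_eq_one x
        rw [hx] at this
        simpa using congrArg (fun u : specialLinear (Fin 4) F => ((u : GL (Fin 4) F) : Matrix (Fin 4) (Fin 4) F)) this
      have hns : ∀ z : F, ((x : GL (Fin 4) F) : Matrix (Fin 4) (Fin 4) F) ≠ z • 1 := by
        intro z e
        have hd1 := mem_sl.1 x.2
        rw [e, Matrix.det_smul, Matrix.det_one, mul_one, Fintype.card_fin] at hd1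
        rw [e, smul_pow, one_pow] at hxr
        have hzr : z ^ r = 1 := by simpa using congrFun₂ hxr 0 0
        have hz1 := pow_gcd_eq_one.2 ⟨hd1, hzr⟩
        rw [Nat.Coprime.gcd_eq_one ((Nat.coprime_primes Nat.prime_two hrp).2 (by omega) |>.pow_left 2), pow_one] at hz1
        rw [hz1, one_smul] at e
        have : x = 1 := Subtype.ext (Units.ext e)
        rw [this, orderOf_one] at hx
        exact hrp.ne_one hx.symm
      obtain ⟨g, -, hg⟩ := hall x x.2 ⟨1, by rw [Units.val_pow_eq_pow_val, hxr, one_smul]⟩ hns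
      obtain ⟨z, hz⟩ := scalar_of_large h2 h4 hf hneg hrp h7
        ⟨1, conj_pow_scalar (by rw [Units.val_pow_eq_pow_val, hxr, one_smul])⟩ hg
      exact hns z (scalar_of_conj hz)
  · -- sufficiency
    intro hr x hx hxr hns
    obtain ⟨z, hz⟩ := hxr
    rw [Units.val_pow_eq_pow_val] at hz
    obtain ⟨X₀, hX₀⟩ : ∃ X₀, X₀ = (x : Matrix (Fin 4) (Fin 4) F) := ⟨_, rfl⟩
    rw [← hX₀] at hz
    have hdx : X₀.det = 1 := hX₀ ▸ mem_sl.1 hx
    have hz4 : z ^ 4 = 1 := by
      have := congrArg Matrix.det hz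
      rw [Matrix.det_pow, hdx, one_pow, Matrix.det_smul, Matrix.det_one, mul_one, Fintype.card_fin] at this
      exact this.symm
    have hz0 : z ≠ 0 := fun e => by simp [e] at hz4
    have fin : ∀ {μ : F} {Y : Matrix (Fin 4) (Fin 4) F} {n : ℕ}, n ≠ 0 → Y ^ n = 1 →
        (∀ W, W = f.a ∨ W = f.b ∨ W = f.c ∨ W = f.d →
          ∃ (v : V) (s : F), s • (1 : Matrix (Fin 4) (Fin 4) F) ∈ matrixSet R ∧ Y * W = s • (f.M v * Y)) →
        μ ≠ 0 → (∀ g : GL (Fin 4) F, g.1.det = 1 → (μ⁻¹ • X₀) * g.1 = g.1 * Y →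
          ∃ g ∈ specialLinear (Fin 4) F, g⁻¹ * x * g ∈ subgroupNormalizer R) := by
      intro μ Y n hn hY himg hμ g hgd hg
      let y : GL (Fin 4) F := Matrix.GeneralLinearGroup.mkOfDetNeZero Y (fun h0 => by
        have := congrArg Matrix.det hY
        rw [Matrix.det_pow, h0, zero_pow hn, Matrix.det_one] at this
        exact zero_ne_one this)
      refine ⟨g, mem_sl.2 hgd, exists_conj_mem (μ := μ) (X := μ⁻¹ • X₀) (Y := Y) (y := y) ?_ rfl ?_ hg⟩
      · rw [smul_smul, mul_inv_cancel₀ hμ, one_smul, hX₀]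
      · exact hf.mem_normalizer hneg himg
    have scale : ∀ {μ : F} {n : ℕ}, μ ≠ 0 → μ ^ n = z → X₀ ^ n = z • 1 → (μ⁻¹ • X₀) ^ n = 1 := by
      intro μ n hμ hμn h
      rw [smul_pow, h, smul_smul, ← hμn, inv_pow, inv_mul_cancel₀ (pow_ne_zero _ hμ), one_smul]
    have notone : ∀ {μ : F}, μ ≠ 0 → μ⁻¹ • X₀ ≠ 1 := by
      intro μ hμ e
      refine hns μ ?_
      rw [← hX₀, ← e, smul_smul, mul_inv_cancel₀ hμ, one_smul]
    rcases hr with rfl | ⟨rfl, hp3⟩ | ⟨rfl, hord⟩
    · -- involutions
      obtain ⟨μ, hμ⟩ : IsSquare z := by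
        by_contra hns2
        obtain ⟨b, hb⟩ := exists_pairs h4 (X := X₀) (s := (0 : F)) (t := z)
          (fun c e => hns2 ⟨c, by linear_combination -e⟩)
          (fun v => by rw [Matrix.mulVec_mulVec, ← pow_two, hz, Matrix.smul_mulVec, Matrix.one_mulVec, zero_smul,
            zero_add])
        have hd := detMat hb
        rw [hdx, det_pairsC] at hd
        rcases mul_self_eq_one_iff.1 hd.symm with e | e
        · exact hns2 ⟨1, by rw [e, one_mul]⟩
        · exact hns2 (e ▸ FiniteField.isSquare_neg_one_iff.2 (by rw [hF]; omega))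
      have hμ0 : μ ≠ 0 := fun e => hz0 (by rw [hμ, e, mul_zero])
      obtain ⟨X, hXdef⟩ : ∃ X, X = μ⁻¹ • X₀ := ⟨_, rfl⟩
      have hX2 : X * X = 1 := by rw [← pow_two, hXdef]; exact scale hμ0 (by rw [pow_two, hμ]) hz
      obtain ⟨b, k, hk4, hb, htr⟩ := exists_signs h2 h4 hX2
      have hk : k = 1 ∨ k = 2 ∨ k = 3 := by
        have hext : ∀ c : F, (∀ j : Fin 4, (if j.1 < k then (1 : F) else -1) = c) → False := by
          intro c hcc
          have e : X = c • 1 := Matrix.toLin'.injective (b.ext fun j => by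
            rw [Matrix.toLin'_apply, hb, Finset.sum_eq_single j (fun l _ hl => by
              simp [signs, Matrix.diagonal_apply, hl]) (by simp), map_smul, Matrix.toLin'_one]
            simp [signs, hcc j])
          refine hns (μ * c) ?_
          rw [← hX₀, mul_smul, ← e, hXdef, smul_smul, mul_inv_cancel₀ hμ0, one_smul]
        rcases Nat.eq_zero_or_pos k with rfl | hk0
        · exact (hext (-1) fun j => by simp).elim
        rcases eq_or_lt_of_le hk4 with rfl | hlt
        · exact (hext 1 fun j => by simp).elim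
        omega
      have cand : ∀ (Y : Matrix (Fin 4) (Fin 4) F), Y * Y = 1 → Y.trace = 2 * (k : F) - 4 →
          ∃ g : GL (Fin 4) F, g.1.det = 1 ∧ X * g.1 = g.1 * Y := by
        intro Y hY hYt
        obtain ⟨c, l, hl4, hc, hct⟩ := exists_signs h2 h4 hY
        have hkl : k = l := by
          have e : (k : F) = (l : F) := mul_left_cancel₀ h2 (by linear_combination hct - hYt)
          by_contra hne
          rcases Nat.lt_or_gt_of_ne hne with h | h
          · exact small_ne_zero (F := F) (p := p) (k := l - k) (by omega) (by omega)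
              (by rw [Nat.cast_sub h.le, e, sub_self])
          · exact small_ne_zero (F := F) (p := p) (k := k - l) (by omega) (by omega)
              (by rw [Nat.cast_sub h.le, e, sub_self])
        subst hkl
        exact conj_sl b c (signs F k) hb hc (detOnto_diag _)
      obtain ⟨ca, cb, cc', cd⟩ := f.cz_gens h2 hii
      rcases hk with rfl | rfl | rfl
      · obtain ⟨g, hgd, hg⟩ := cand (-f.cz i) (by rw [neg_mul_neg, f.cz_sq h2 hii])
          (by rw [Matrix.trace_neg, f.trace_cz h2 hii h4]; norm_num)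
        refine fin (n := 2) two_ne_zero (by rw [pow_two, neg_mul_neg, f.cz_sq h2 hii]) ?_ hμ0 g hgd (hXdef ▸ hg)
        rintro W (rfl | rfl | rfl | rfl)
        · exact ⟨(1, 0, 0, 0), 1, hone, by rw [neg_mul, ca, one_smul, ← f.a_eq, mul_neg]⟩
        · exact ⟨(0, 1, 1, 0), i, him, by rw [neg_mul, cb, mul_neg, smul_neg]⟩
        · exact ⟨(0, 0, 1, 0), 1, hone, by rw [neg_mul, cc', one_smul, ← f.c_eq, mul_neg]⟩
        · exact ⟨(1, 0, 0, 1), 1, hone, by rw [neg_mul, cd, one_smul, mul_neg]⟩
      · obtain ⟨g, hgd, hg⟩ := cand f.a f.aa (by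
          rw [f.a_eq, f.trace_M h2 (by decide +kernel)]; norm_num)
        refine fin (n := 2) two_ne_zero (by rw [pow_two, f.aa]) ?_ hμ0 g hgd (hXdef ▸ hg)
        have key : ∀ v, f.a * f.M v = sg F (om (1, 0, 0, 0) v) • (f.M v * f.a) := fun v => by
          rw [f.a_eq]; exact f.M_comm _ _
        rintro W (rfl | rfl | rfl | rfl)
        · exact ⟨_, _, sg_mem hneg _, by rw [← key, ← f.a_eq]⟩
        · exact ⟨_, _, sg_mem hneg _, by rw [← key, ← f.b_eq]⟩
        · exact ⟨_, _, sg_mem hneg _, by rw [← key, ← f.c_eq]⟩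
        · exact ⟨_, _, sg_mem hneg _, by rw [← key, ← f.d_eq]⟩
      · obtain ⟨g, hgd, hg⟩ := cand (f.cz i) (f.cz_sq h2 hii) (by rw [f.trace_cz h2 hii h4]; norm_num)
        refine fin (n := 2) two_ne_zero (by rw [pow_two, f.cz_sq h2 hii]) ?_ hμ0 g hgd (hXdef ▸ hg)
        rintro W (rfl | rfl | rfl | rfl)
        · exact ⟨(1, 0, 0, 0), 1, hone, by rw [ca, one_smul, ← f.a_eq]⟩
        · exact ⟨(0, 1, 1, 0), i, him, cb⟩
        · exact ⟨(0, 0, 1, 0), 1, hone, by rw [cc', one_smul, ← f.c_eq]⟩
        · exact ⟨(1, 0, 0, 1), 1, hone, by rw [cd, one_smul]⟩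
    · -- order three
      have hco : Nat.Coprime (Fintype.card F - 1) 3 := by
        rw [hF, Nat.coprime_comm, (by norm_num : Nat.Prime 3).coprime_iff_not_dvd]
        omega
      obtain ⟨μ, hμ0, hμ⟩ := exists_root hco hz0
      have hX3 := scale hμ0 hμ hz
      have hns3 : ∀ c : F, c * c ≠ (-1) * c + (-1) := by
        intro c hc
        have h31 : c ^ 3 = 1 := by linear_combination (c - 1) * hc
        have := eq_one_of_pow (by norm_num) hco h31
        subst this
        exact h3 (by linear_combination hc)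
      have pw : ∀ {Y : Matrix (Fin 4) (Fin 4) F}, Y ^ 3 = 1 → Y.trace ≠ 4 → Y ≠ 1 := fun {Y} _ ht e => by
        subst e; simp at ht
      have hpair_tr : ∀ {Y : Matrix (Fin 4) (Fin 4) F} {b : Module.Basis (Fin 4) F (Fin 4 → F)}
          {C : Matrix (Fin 4) (Fin 4) F}, (∀ j, Y *ᵥ b j = ∑ l, C l j • b l) → Y.trace = C.trace := by
        intro Y b C hb
        rw [← Matrix.trace_toLin'_eq, LinearMap.trace_eq_matrix_trace F b]
        congr 1
        ext u v
        rw [LinearMap.toMatrix_apply, Matrix.toLin'_apply, hb, map_sum, Finset.sum_apply']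
        simp [Finsupp.single_apply]
      have t1 : (pairsC (-1 : F) (-1)).trace = -2 := by simp [pairsC, Matrix.trace, Fin.sum_univ_four]; norm_num
      have t2 : (planeC (-1 : F) (-1)).trace = 1 := by simp [planeC, Matrix.trace, Fin.sum_univ_four]
      rcases exists_order_three h3 h4 hX3 (notone hμ0) hns3 with ⟨b, hb⟩ | ⟨b, hb⟩
      · obtain ⟨ga, gb, gc, gd⟩ := f.y3_gens h2
        rcases exists_order_three h3 h4 (f.y3_pow h2) (pw (f.y3_pow h2) (by
          rw [f.trace_y3 h2 h4]; intro e; exact h2 (mul_left_cancel₀ h3 (by linear_combination -e)))) hns3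
          with ⟨c, hc⟩ | ⟨c, hc⟩
        · obtain ⟨g, hgd, hg⟩ := conj_sl b c _ hb hc (detOnto_pairsC h2 _ _ (fun e => h3 (by linear_combination -e)))
          refine fin (n := 3) (by norm_num) (f.y3_pow h2) ?_ hμ0 g hgd hg
          rintro W (rfl | rfl | rfl | rfl)
          · exact ⟨(1, 0, 0, 0), 1, hone, by rw [ga, one_smul, ← f.a_eq]⟩
          · exact ⟨(0, 1, 0, 0), 1, hone, by rw [gb, one_smul, ← f.b_eq]⟩
          · exact ⟨(0, 0, 1, 1), -1, hm1, gc⟩
          · exact ⟨(0, 0, 1, 0), 1, hone, by rw [gd, one_smul, ← f.c_eq]⟩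
        · exfalso
          have := (f.trace_y3 h2 h4).symm.trans ((hpair_tr hc).trans t2)
          exact h3 (by linear_combination -this)
      · obtain ⟨ga, gb, gc, gd⟩ := f.y33_gens hii
        rcases exists_order_three h3 h4 (f.y33_pow hii h2) (pw (f.y33_pow hii h2) (by
          rw [f.trace_y33 hii h2 h4]; intro e; exact h3 (by linear_combination -e))) hns3
          with ⟨c, hc⟩ | ⟨c, hc⟩
        · exfalso
          have := (f.trace_y33 hii h2 h4).symm.trans ((hpair_tr hc).trans t1)
          exact h3 (by linear_combination this)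
        · obtain ⟨g, hgd, hg⟩ := conj_sl b c _ hb hc (detOnto_planeC _ _)
          refine fin (n := 3) (by norm_num) (f.y33_pow hii h2) ?_ hμ0 g hgd hg
          rintro W (rfl | rfl | rfl | rfl)
          · refine ⟨(1, 1, 0, 0), -i, ?_, ga⟩
            have := mem_mul hm1 him
            rwa [smul_mul_assoc, one_mul, smul_smul, neg_one_mul] at this
          · exact ⟨(1, 0, 0, 0), 1, hone, by rw [gb, one_smul, ← f.a_eq]⟩
          · exact ⟨(0, 0, 1, 1), -1, hm1, gc⟩
          · exact ⟨(0, 0, 1, 0), 1, hone, by rw [gd, one_smul, ← f.c_eq]⟩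
    · -- order five
      obtain ⟨hordk, h5p, h5p1⟩ := five_order hord
      have hco : Nat.Coprime (Fintype.card F - 1) 5 := by
        rw [hF, Nat.coprime_comm, (by norm_num : Nat.Prime 5).coprime_iff_not_dvd]
        exact h5p1
      have h50 : (5 : F) ≠ 0 := fun e => h5p (by
        have := (CharP.cast_eq_zero_iff F p 5).1 (by exact_mod_cast e)
        rw [(Nat.prime_dvd_prime_iff_eq hpp (by norm_num)).1 this])
      obtain ⟨μ, hμ0, hμ⟩ := exists_root hco hz0
      obtain ⟨b, hb⟩ := exists_order_five hF h50 hordk h5p h4 (scale hμ0 hμ hz) (notone hμ0)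
      obtain ⟨c, hc⟩ := exists_order_five hF h50 hordk h5p h4 (f.y5_pow h2) (fun e => h50 (by
        have := congrArg Matrix.trace e
        rw [f.trace_y5 h2 h4, Matrix.trace_one, h4] at this
        push_cast at this
        linear_combination -this))
      obtain ⟨g, hgd, hg⟩ := conj_sl b c _ hb hc (detOnto_fiveC hF h50 h2 hordk h5p hp4)
      obtain ⟨ga, gb, gc, gd⟩ := f.y5_gens h2
      refine fin (n := 5) (by norm_num) (f.y5_pow h2) ?_ hμ0 g hgd hg
      rintro W (rfl | rfl | rfl | rfl)
      · exact ⟨_, _, hm1, ga⟩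
      · exact ⟨_, _, hm1, gb⟩
      · exact ⟨_, _, hone, gc⟩
      · exact ⟨_, _, hm1, gd⟩

end CfsgLib.Pauli
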