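import Cfsg.Prelude.Def_ClassicalGeometry
import Cfsg.Agent.Lib.Classical.Pauli.Common

set_option autoImplicit false
set_option linter.unusedSectionVars false

/-!
Conjugacy in the symplectic group of dimension four: square roots of `1` and `-1` and elements of order five.
-/

namespace CfsgLib.Pauli

open Matrix Polynomial
open scoped MatrixGroups

variable {F : Type*} [Field F]

/-- The index type. -/
abbrev I4 := Fin 2 ⊕ Fin 2

/-- The form. -/
def bf (u v : I4 → F) : F := u ⬝ᵥ (Matrix.J (Fin 2) F *ᵥ v)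

/-- A matrix preserving the form. -/
def IsSp (g : Matrix I4 I4 F) : Prop := gᵀ * Matrix.J (Fin 2) F * g = Matrix.J (Fin 2) F

theorem bf_mul (g h : Matrix I4 I4 F) (u v : I4 → F) :
    bf (g *ᵥ u) (h *ᵥ v) = u ⬝ᵥ ((gᵀ * Matrix.J (Fin 2) F * h) *ᵥ v) := by
  rw [bf, Matrix.mulVec_mulVec, ← Matrix.vecMul_transpose, ← Matrix.dotProduct_mulVec, Matrix.mulVec_mulVec,
    ← Matrix.mul_assoc]

theorem IsSp.bf_eq {g : Matrix I4 I4 F} (hg : IsSp g) (u v : I4 → F) : bf (g *ᵥ u) (g *ᵥ v) = bf u v := by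
  rw [bf_mul, hg, bf]

theorem bf_single (A : Matrix I4 I4 F) (i j : I4) : Pi.single i (1 : F) ⬝ᵥ (A *ᵥ Pi.single j 1) = A i j := by
  simp [Matrix.mulVec_single]

theorem mem_spGL {g : GL I4 F} : g ∈ Cfsg.spGL 2 F ↔ IsSp (g : Matrix I4 I4 F) := by
  constructor
  · intro h
    ext i j
    have e := h (Pi.single i 1) (Pi.single j 1)
    change bf _ _ = bf _ _ at e
    rw [bf_mul, bf, bf_single, bf_single] at e
    exact e
  · intro h u v
    exact h.bf_eq u v

theorem det_J_ne : (Matrix.J (Fin 2) F).det ≠ 0 :=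
  (Matrix.isUnit_det_J (Fin 2) F).ne_zero

theorem IsSp.det_ne {g : Matrix I4 I4 F} (hg : IsSp g) : g.det ≠ 0 := fun e => det_J_ne (F := F) (by
  have := congrArg Matrix.det hg
  rw [Matrix.det_mul, e, mul_zero] at this
  exact this.symm)

theorem IsSp.exists_gl {g : Matrix I4 I4 F} (hg : IsSp g) :
    ∃ u ∈ Cfsg.spGL 2 F, (u : Matrix I4 I4 F) = g :=
  ⟨Matrix.GeneralLinearGroup.mkOfDetNeZero g hg.det_ne, mem_spGL.2 hg, rfl⟩

theorem bf_swap (u v : I4 → F) : bf u v = -bf v u := by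
  rw [bf, bf, Matrix.dotProduct_mulVec, ← Matrix.mulVec_transpose, Matrix.J_transpose, dotProduct_comm,
    Matrix.neg_mulVec, dotProduct_neg]

theorem bf_self (h2 : (2 : F) ≠ 0) (u : I4 → F) : bf u u = 0 := by
  refine (mul_eq_zero.1 (?_ : (2 : F) * bf u u = 0)).resolve_left h2
  linear_combination bf_swap u u

theorem bf_nondeg {u : I4 → F} (h : ∀ v, bf v u = 0) : u = 0 := by
  have e : Matrix.J (Fin 2) F *ᵥ u = 0 := funext fun i => by
    have := h (Pi.single i 1)
    simpa [bf] using this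
  have := congrArg (fun w => (Matrix.J (Fin 2) F)⁻¹ *ᵥ w) e
  simpa [Matrix.mulVec_mulVec, Matrix.nonsing_inv_mul _ (Matrix.isUnit_det_J (Fin 2) F)] using this

theorem bf_add_left (u v w : I4 → F) : bf (u + v) w = bf u w + bf v w := by simp [bf, add_dotProduct]
theorem bf_add_right (u v w : I4 → F) : bf u (v + w) = bf u v + bf u w := by
  simp [bf, Matrix.mulVec_add, dotProduct_add]
theorem bf_smul_left (c : F) (u w : I4 → F) : bf (c • u) w = c * bf u w := by simp [bf, smul_dotProduct]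
theorem bf_smul_right (c : F) (u w : I4 → F) : bf u (c • w) = c * bf u w := by
  simp [bf, Matrix.mulVec_smul, dotProduct_smul]
theorem bf_neg_left (u w : I4 → F) : bf (-u) w = -bf u w := by simp [bf]
theorem bf_neg_right (u w : I4 → F) : bf u (-w) = -bf u w := by simp [bf, Matrix.mulVec_neg]
theorem bf_zero_left (w : I4 → F) : bf 0 w = 0 := by simp [bf]

/-- The columns of a symplectic basis give an element of the group. -/
theorem isSp_of_gram {e : I4 → I4 → F} (h : ∀ i j, bf (e i) (e j) = Matrix.J (Fin 2) F i j) :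
    IsSp (Matrix.of fun k i => e i k) := by
  ext i j
  rw [← h i j, ← bf_single (_ * _ * _) i j, ← bf_mul]
  congr 1 <;> ext k <;> simp [Matrix.mulVec_single]

/-- Conjugate in the group to a common normal form. -/
theorem conj_sp {X Y D g h : Matrix I4 I4 F} (hg : IsSp g) (hh : IsSp h) (hX : X * g = g * D) (hY : Y * h = h * D) :
    ∃ u ∈ Cfsg.spGL 2 F, X * (u : Matrix I4 I4 F) = u * Y := by
  obtain ⟨u, hu, hu'⟩ := hg.exists_gl
  obtain ⟨w, hw, hw'⟩ := hh.exists_gl
  refine ⟨u * w⁻¹, mul_mem hu (inv_mem hw), ?_⟩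
  rw [Units.val_mul, ← Matrix.mul_assoc, hu', hX, Matrix.mul_assoc g D, Matrix.mul_assoc g]
  congr 1
  refine w.isUnit.mul_right_cancel ?_
  rw [Matrix.mul_assoc, Units.inv_mul, Matrix.mul_one, hw', Matrix.mul_assoc, hY, ← Matrix.mul_assoc,
    ← hw', Units.inv_mul, Matrix.one_mul]

/-- The normal form of an involution. -/
def invD (F : Type*) [Field F] : Matrix I4 I4 F :=
  Matrix.diagonal (Sum.elim ![1, -1] ![1, -1])

variable (h2 : (2 : F) ≠ 0)
include h2

/-- Involutions other than scalars. -/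
theorem exists_invD {X : Matrix I4 I4 F} (hX : IsSp X) (hX2 : X * X = 1) (hns : ∀ c : F, X ≠ c • 1) :
    ∃ g, IsSp g ∧ X * g = g * invD F := by
  have hXX : ∀ v, X *ᵥ (X *ᵥ v) = v := fun v => by rw [Matrix.mulVec_mulVec, hX2, Matrix.one_mulVec]
  have pair : ∀ σ : F, σ * σ = 1 →
      ∃ u w : I4 → F, X *ᵥ u = σ • u ∧ X *ᵥ w = σ • w ∧ bf u w = -1 := by
    intro σ hσ
    have hp : ∀ v, X *ᵥ (v + σ • X *ᵥ v) = σ • (v + σ • X *ᵥ v) := fun v => by
      rw [Matrix.mulVec_add, Matrix.mulVec_smul, hXX, smul_add, smul_smul, hσ, one_smul, add_comm]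
    obtain ⟨u, hu0, hu⟩ : ∃ u : I4 → F, u ≠ 0 ∧ X *ᵥ u = σ • u := by
      by_contra hall
      push Not at hall
      refine hns (-σ) (Matrix.toLin'.injective (LinearMap.ext fun v => ?_))
      have h0 : v + σ • X *ᵥ v = 0 := by
        by_contra hne
        exact hall _ hne (hp v)
      have := congrArg (fun w => σ • w) h0
      simp only [smul_add, smul_smul, hσ, one_smul, smul_zero] at this
      simp only [Matrix.toLin'_apply, Matrix.smul_mulVec, Matrix.one_mulVec, neg_smul]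
      rw [← sub_eq_zero, ← this, Matrix.neg_mulVec, Matrix.smul_mulVec, Matrix.one_mulVec]
      abel
    obtain ⟨v, hv⟩ : ∃ v, bf u v ≠ 0 := by
      by_contra hall
      push Not at hall
      exact hu0 (bf_nondeg fun v => by rw [bf_swap, hall, neg_zero])
    have he : bf u (v + σ • X *ᵥ v) = 2 * bf u v := by
      have e1 : bf u (X *ᵥ v) = σ * bf u v := by
        have := hX.bf_eq u (X *ᵥ v)
        rw [hXX, hu, bf_smul_left] at this
        exact this.symm
      rw [bf_add_right, bf_smul_right, e1]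
      linear_combination (bf u v) * hσ
    refine ⟨u, (-(2 * bf u v)⁻¹) • (v + σ • X *ᵥ v), hu, ?_, ?_⟩
    · rw [Matrix.mulVec_smul, hp, smul_comm]
    · rw [bf_smul_right, he, neg_mul, inv_mul_cancel₀ (mul_ne_zero h2 hv)]
  obtain ⟨u, w, hu, hw, huw⟩ := pair 1 (one_mul _)
  obtain ⟨u', w', hu', hw', huw'⟩ := pair (-1) (by ring)
  rw [one_smul] at hu hw
  rw [neg_one_smul] at hu' hw'
  have orth : ∀ a b : I4 → F, X *ᵥ a = a → X *ᵥ b = -b → bf a b = 0 := fun a b ha hb => by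
    have := hX.bf_eq a b
    rw [ha, hb, bf_neg_right] at this
    refine (mul_eq_zero.1 (?_ : (2 : F) * bf a b = 0)).resolve_left h2
    linear_combination -this
  have o1 := orth _ _ hu hu'
  have o2 := orth _ _ hu hw'
  have o3 := orth _ _ hw hu'
  have o4 := orth _ _ hw hw'
  refine ⟨_, isSp_of_gram (e := Sum.elim ![u, u'] ![w, w']) ?_, ?_⟩
  · rintro (i | i) (j | j) <;> fin_cases i <;> fin_cases j <;>
      simp [Matrix.J, Matrix.fromBlocks, bf_self h2, o1, o2, o3, o4, huw, huw', bf_swap w u, bf_swap w' u',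
        bf_swap u' u, bf_swap w' u, bf_swap u' w, bf_swap w' w]
  · ext k i
    rw [invD, Matrix.mul_diagonal]
    have e : ∀ (a : I4 → F), (X *ᵥ a) k = ∑ l, X k l * a l := fun a => rfl
    simp only [Matrix.mul_apply, Matrix.of_apply]
    rw [← e]
    rcases i with i | i <;> fin_cases i <;> simp [hu, hw, hu', hw']

/-- Square roots of minus one. -/
theorem exists_J [Fintype F] {X : Matrix I4 I4 F} (hodd : Fintype.card F % 2 = 1) (hX : IsSp X)
    (hX2 : X * X = -1) : ∃ g, IsSp g ∧ X * g = g * Matrix.J (Fin 2) F := by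
  have hXX : ∀ v, X *ᵥ (X *ᵥ v) = -v := fun v => by
    rw [Matrix.mulVec_mulVec, hX2, Matrix.neg_mulVec, Matrix.one_mulVec]
  have swap : ∀ u v, bf u (X *ᵥ v) = bf v (X *ᵥ u) := fun u v => by
    rw [← hX.bf_eq u (X *ᵥ v), hXX, bf_neg_right, bf_swap]
    ring
  have scale : ∀ u, bf u (X *ᵥ u) ≠ 0 → ∃ a b : F, bf (a • u + b • X *ᵥ u) (X *ᵥ (a • u + b • X *ᵥ u)) = -1 := by
    intro u hu
    obtain ⟨a, b, hab⟩ := FiniteField.exists_root_sum_quadratic (f := (Polynomial.X ^ 2 : Polynomial F))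
      (g := Polynomial.X ^ 2 - Polynomial.C (-(bf u (X *ᵥ u))⁻¹)) (Polynomial.degree_X_pow 2)
      (Polynomial.degree_X_pow_sub_C (by norm_num) _) hodd
    refine ⟨a, b, ?_⟩
    simp only [Polynomial.eval_sub, Polynomial.eval_pow, Polynomial.eval_X, Polynomial.eval_C] at hab
    have hinv := mul_inv_cancel₀ hu
    simp only [Matrix.mulVec_add, Matrix.mulVec_smul, hXX, bf_add_left, bf_add_right, bf_smul_left, bf_smul_right,
      bf_neg_right, bf_self h2, bf_swap (X *ᵥ u) u]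
    linear_combination (bf u (X *ᵥ u)) * hab - hinv
  obtain ⟨u₀, hu₀⟩ : ∃ u, bf u (X *ᵥ u) ≠ 0 := by
    by_contra hall
    push Not at hall
    obtain ⟨v, hv⟩ := exists_ne (0 : I4 → F)
    refine hv (bf_nondeg fun w => ?_)
    have e := hall (w + -(X *ᵥ v))
    simp only [Matrix.mulVec_add, Matrix.mulVec_neg, hXX, neg_neg, bf_add_left, bf_add_right, bf_neg_left, hall,
      bf_swap (X *ᵥ v) v, swap (X *ᵥ v) w, hXX, bf_neg_right] at e
    refine (mul_eq_zero.1 (?_ : (2 : F) * bf w v = 0)).resolve_left h2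
    linear_combination e
  obtain ⟨a, b, hab⟩ := scale u₀ hu₀
  obtain ⟨u, hudef⟩ : ∃ u, u = a • u₀ + b • X *ᵥ u₀ := ⟨_, rfl⟩
  rw [← hudef] at hab
  have pr : ∀ w, ∃ α β : F, bf (w + α • u + β • X *ᵥ u) u = 0 ∧ bf (w + α • u + β • X *ᵥ u) (X *ᵥ u) = 0 := by
    intro w
    refine ⟨bf w (X *ᵥ u), -bf w u, ?_, ?_⟩ <;>
      simp only [bf_add_left, bf_smul_left, bf_self h2, hab, bf_swap (X *ᵥ u) u] <;> ring
  obtain ⟨t₀, ht, ht1, ht2⟩ : ∃ t, bf t (X *ᵥ t) ≠ 0 ∧ bf t u = 0 ∧ bf t (X *ᵥ u) = 0 := by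
    by_contra hall
    push Not at hall
    have hz : ∀ t, bf t u = 0 → bf t (X *ᵥ u) = 0 → bf t (X *ᵥ t) = 0 := fun t h1 h3 => by
      by_contra hne
      exact hall t hne h1 h3
    have hsub : (⊤ : Submodule F (I4 → F)) ≤ Submodule.span F (Set.range ![u, X *ᵥ u]) := by
      intro v _
      obtain ⟨α, β, h1, h3⟩ := pr v
      obtain ⟨t, ht⟩ : ∃ t, t = v + α • u + β • X *ᵥ u := ⟨_, rfl⟩
      rw [← ht] at h1 h3
      have t0 : t = 0 := bf_nondeg fun w => by
        obtain ⟨γ, δ, g1, g3⟩ := pr (-(X *ᵥ w))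
        obtain ⟨s, hs⟩ : ∃ s, s = -(X *ᵥ w) + γ • u + δ • X *ᵥ u := ⟨_, rfl⟩
        rw [← hs] at g1 g3
        have k := hz (t + s) (by rw [bf_add_left, h1, g1, add_zero]) (by rw [bf_add_left, h3, g3, add_zero])
        simp only [Matrix.mulVec_add, bf_add_left, bf_add_right, hz _ h1 h3, hz _ g1 g3, swap s t] at k
        have k' : bf t (X *ᵥ s) = 0 := (mul_eq_zero.1 (by linear_combination k :
          (2 : F) * bf t (X *ᵥ s) = 0)).resolve_left h2
        simp only [hs, Matrix.mulVec_add, Matrix.mulVec_neg, Matrix.mulVec_smul, hXX, neg_neg, bf_add_right,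
          bf_smul_right, bf_neg_right, h1, h3] at k'
        rw [bf_swap]
        linear_combination -k'
      have hv : v = (-α) • u + (-β) • X *ᵥ u := by
        rw [← sub_eq_zero, ← t0, ht]; module
      rw [hv]
      exact Submodule.add_mem _ (Submodule.smul_mem _ _ (Submodule.subset_span ⟨0, rfl⟩))
        (Submodule.smul_mem _ _ (Submodule.subset_span ⟨1, rfl⟩))
    have h1 := Submodule.finrank_mono hsub
    have h3 := finrank_range_le_card (R := F) ![u, X *ᵥ u]
    rw [finrank_top, Module.finrank_pi] at h1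
    unfold Set.finrank at h3
    simp at h1 h3
    omega
  obtain ⟨c, d, hcd⟩ := scale t₀ ht
  obtain ⟨t, htdef⟩ : ∃ t, t = c • t₀ + d • X *ᵥ t₀ := ⟨_, rfl⟩
  rw [← htdef] at hcd
  have k1 : bf (X *ᵥ t₀) u = 0 := by rw [bf_swap, swap, ht2, neg_zero]
  have k2 : bf (X *ᵥ t₀) (X *ᵥ u) = 0 := by rw [hX.bf_eq, ht1]
  have o1 : bf t u = 0 := by simp [htdef, bf_add_left, bf_smul_left, ht1, k1]
  have o2 : bf t (X *ᵥ u) = 0 := by simp [htdef, bf_add_left, bf_smul_left, ht2, k2]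
  have o3 : bf (X *ᵥ t) u = 0 := by rw [bf_swap, swap, o2, neg_zero]
  have o4 : bf (X *ᵥ t) (X *ᵥ u) = 0 := by rw [hX.bf_eq, o1]
  refine ⟨_, isSp_of_gram (e := Sum.elim ![u, t] ![X *ᵥ u, X *ᵥ t]) ?_, ?_⟩
  · rintro (i | i) (j | j) <;> fin_cases i <;> fin_cases j <;>
      simp [Matrix.J, Matrix.fromBlocks, bf_self h2, o1, o2, o3, o4, hab, hcd, bf_swap (X *ᵥ u) u, bf_swap (X *ᵥ t) t,
        bf_swap u t, bf_swap (X *ᵥ u) t, bf_swap u (X *ᵥ t), bf_swap (X *ᵥ u) (X *ᵥ t)]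
  · ext k i
    have e : ∀ (a : I4 → F), (X *ᵥ a) k = ∑ l, X k l * a l := fun a => rfl
    simp only [Matrix.mul_apply, Matrix.of_apply]
    rw [← e]
    rcases i with i | i <;> fin_cases i <;>
      simp [hXX, Matrix.J, Matrix.fromBlocks, Fintype.sum_sum_type, Fin.sum_univ_two]

omit h2

section five

variable {X Y : Matrix I4 I4 F}

/-- The value of a polynomial at a matrix, applied to a vector. -/
noncomputable def ev (X : Matrix I4 I4 F) (P : Polynomial F) (v : I4 → F) : I4 → F := aeval X P *ᵥ v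

theorem ev_mul (P Q : Polynomial F) (v : I4 → F) : ev X (P * Q) v = ev X P (ev X Q v) := by
  rw [ev, ev, ev, map_mul, Matrix.mulVec_mulVec]

theorem ev_X (P : Polynomial F) (v : I4 → F) : ev X (Polynomial.X * P) v = X *ᵥ ev X P v := by
  rw [ev_mul]; simp [ev]

theorem ev_add (P Q : Polynomial F) (v : I4 → F) : ev X (P + Q) v = ev X P v + ev X Q v := by
  simp [ev, Matrix.add_mulVec]

theorem ev_mono (n : ℕ) (a : F) (v : I4 → F) : ev X (monomial n a) v = a • (X ^ n *ᵥ v) := by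
  rw [ev, aeval_monomial, ← Algebra.smul_def, Matrix.smul_mulVec]

theorem pow_mod_five (hX5 : X ^ 5 = 1) (n : ℕ) : X ^ n = X ^ (n % 5) := by
  conv_lhs => rw [← Nat.mod_add_div n 5, pow_add, pow_mul, hX5, one_pow, mul_one]

theorem IsSp.pow (hX : IsSp X) (n : ℕ) : IsSp (X ^ n) := by
  induction n with
  | zero => simp [IsSp]
  | succ n ih =>
    show (X ^ (n + 1))ᵀ * Matrix.J (Fin 2) F * X ^ (n + 1) = _
    rw [pow_succ, Matrix.transpose_mul]
    calc _ = Xᵀ * ((X ^ n)ᵀ * Matrix.J (Fin 2) F * X ^ n) * X := by simp only [Matrix.mul_assoc]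
      _ = _ := by rw [ih]; exact hX

/-- The Gram matrix of the powers. -/
theorem bf_pow (h2 : (2 : F) ≠ 0) (hX : IsSp X) (hX5 : X ^ 5 = 1) (v : I4 → F) (i j : ℕ) :
    bf (X ^ i *ᵥ v) (X ^ j *ᵥ v) =
      ![0, bf v (X *ᵥ v), bf v (X ^ 2 *ᵥ v), -bf v (X ^ 2 *ᵥ v), -bf v (X *ᵥ v)] ⟨(j + 4 * i) % 5, Nat.mod_lt _ (by norm_num)⟩ := by
  have e : ∀ a b c, (b % 5 = (a + c) % 5) → bf (X ^ a *ᵥ v) (X ^ b *ᵥ v) = bf v (X ^ c *ᵥ v) := fun a b c hbc => by
    rw [pow_mod_five hX5 b, hbc, ← pow_mod_five hX5, pow_add, ← Matrix.mulVec_mulVec, (hX.pow a).bf_eq]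
  rw [e i j ((j + 4 * i) % 5) (by omega)]
  have hlt : (j + 4 * i) % 5 < 5 := Nat.mod_lt _ (by norm_num)
  suffices H : ∀ k : Fin 5, bf v (X ^ k.1 *ᵥ v) =
      ![0, bf v (X *ᵥ v), bf v (X ^ 2 *ᵥ v), -bf v (X ^ 2 *ᵥ v), -bf v (X *ᵥ v)] k from H ⟨_, hlt⟩
  intro k
  fin_cases k
  · simp [bf_self h2]
  · simp
  · simp
  · show _ = -bf v (X ^ 2 *ᵥ v)
    rw [bf_swap, ← e 3 5 2 rfl, hX5, Matrix.one_mulVec]
  · show bf v (X ^ 4 *ᵥ v) = -bf v (X *ᵥ v)
    have h1 := e 4 5 1 rfl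
    rw [pow_one, hX5, Matrix.one_mulVec] at h1
    rw [bf_swap, h1]

/-- Two vectors with the same pair have the same Gram matrix. -/
theorem bf_ev_eq (h2 : (2 : F) ≠ 0) (hX : IsSp X) (hX5 : X ^ 5 = 1) (hY : IsSp Y) (hY5 : Y ^ 5 = 1)
    {v w : I4 → F} (h1 : bf v (X *ᵥ v) = bf w (Y *ᵥ w)) (h3 : bf v (X ^ 2 *ᵥ v) = bf w (Y ^ 2 *ᵥ w))
    (P Q : Polynomial F) : bf (ev X P v) (ev X Q v) = bf (ev Y P w) (ev Y Q w) := by
  induction P using Polynomial.induction_on' with
  | add a b ha hb => simp only [ev_add, bf_add_left, ha, hb]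
  | monomial i a =>
    induction Q using Polynomial.induction_on' with
    | add c d hc hd => simp only [ev_add, bf_add_right, hc, hd]
    | monomial j b =>
      simp only [ev_mono, bf_smul_left, bf_smul_right, bf_pow h2 hX hX5, bf_pow h2 hY hY5, h1, h3]

/-- The hypothesis that no proper invariant subspace carries the element. -/
def Irr (X : Matrix I4 I4 F) : Prop := ∀ v, v ≠ 0 → ∀ u, ∃ P, u = ev X P v

theorem irr_of_order_five [Fintype F] {p : ℕ} (hp : Fintype.card F = p) (h50 : (5 : F) ≠ 0)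
    (hord : ∀ k, 0 < k → k ≤ 3 → ¬ (p ^ k ≡ 1 [MOD 5])) (hp5 : ¬ 5 ∣ p) (hX5 : X ^ 5 = 1) (hX1 : X ≠ 1) :
    Irr X := by
  intro v hv u
  obtain ⟨W, hW⟩ : ∃ W : Submodule F (I4 → F), ∀ u, u ∈ W ↔ ∃ P, u = ev X P v :=
    ⟨LinearMap.range ((LinearMap.applyₗ v).comp (Matrix.toLin'.toLinearMap.comp (aeval X).toLinearMap)), fun u => by
      simp only [LinearMap.mem_range, ev]
      exact ⟨fun ⟨P, h⟩ => ⟨P, by simpa using h.symm⟩, fun ⟨P, h⟩ => ⟨P, by simpa using h.symm⟩⟩⟩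
  by_contra hall
  obtain ⟨b, hb⟩ := exists_order_five hp h50 hord hp5 (by simp) hX5 hX1
  have hd : (X - 1).det ≠ 0 := by
    rw [detMat (b := b) (C := fiveC F - 1) (fun k => ?_), det_fiveC_sub_one]
    · exact h50
    · rw [Matrix.sub_mulVec, hb, Matrix.one_mulVec]
      simp only [Matrix.sub_apply, sub_smul, Finset.sum_sub_distrib, Matrix.one_apply, ite_smul, one_smul, zero_smul,
        Finset.sum_ite_eq', Finset.mem_univ, if_true]
  have hlt : Module.finrank F W ≤ 3 := by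
    have hne : W ≠ ⊤ := fun e => hall ((hW u).1 (e ▸ Submodule.mem_top))
    have := Submodule.finrank_lt hne
    simp [Module.finrank_pi] at this
    omega
  have hfix := fixed_of_small hp hord hp5 hlt (f := Matrix.toLin' X) (fun w hw => by
      obtain ⟨P, rfl⟩ := (hW w).1 hw
      exact (hW _).2 ⟨Polynomial.X * P, by rw [ev_X, Matrix.toLin'_apply]⟩)
    (fun w _ => by
      simp only [Matrix.toLin'_apply, Matrix.mulVec_mulVec]
      rw [show X * (X * (X * (X * X))) = X ^ 5 by simp [pow_succ, Matrix.mul_assoc], hX5, Matrix.one_mulVec])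
    v ((hW v).2 ⟨1, by simp [ev]⟩)
  refine hv (Matrix.eq_zero_of_mulVec_eq_zero hd ?_)
  rw [Matrix.sub_mulVec, Matrix.one_mulVec, ← Matrix.toLin'_apply, hfix, sub_self]

/-- Vectors with the same pair give conjugate elements. -/
theorem conj_of_pair (h2 : (2 : F) ≠ 0) (hX : IsSp X) (hX5 : X ^ 5 = 1) (hY : IsSp Y) (hY5 : Y ^ 5 = 1)
    (hirr : Irr Y) {v w : I4 → F} (hw : w ≠ 0) (h1 : bf v (X *ᵥ v) = bf w (Y *ᵥ w))
    (h3 : bf v (X ^ 2 *ᵥ v) = bf w (Y ^ 2 *ᵥ w)) : ∃ u ∈ Cfsg.spGL 2 F, X * (u : Matrix I4 I4 F) = u * Y := by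
  choose P hP using fun k : I4 => hirr w hw (Pi.single k 1)
  have hgram := bf_ev_eq h2 hX hX5 hY hY5 h1 h3
  have hG : IsSp (Matrix.of fun i k => ev X (P k) v i) := isSp_of_gram (e := fun k => ev X (P k) v) fun i j => by
    rw [hgram, ← hP, ← hP, bf, bf_single]
  obtain ⟨g, hg, hg'⟩ := hG.exists_gl
  refine ⟨g, hg, ?_⟩
  have hcol : ∀ k, (g : Matrix I4 I4 F) *ᵥ Pi.single k 1 = ev X (P k) v := fun k => by
    rw [hg']; ext i; simp [Matrix.mulVec_single]
  have key : ∀ Q, (g : Matrix I4 I4 F) *ᵥ ev Y Q w = ev X Q v := fun Q => by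
    refine sub_eq_zero.1 (bf_nondeg fun z => ?_)
    obtain ⟨z', rfl⟩ : ∃ z', (g : Matrix I4 I4 F) *ᵥ z' = z :=
      ⟨((g⁻¹ : GL I4 F) : Matrix I4 I4 F) *ᵥ z, by rw [Matrix.mulVec_mulVec, g.mul_inv, Matrix.one_mulVec]⟩
    obtain ⟨Q', rfl⟩ := hirr w hw z'
    have hlin : (g : Matrix I4 I4 F) *ᵥ ev Y Q' w = ∑ k, ev Y Q' w k • ev X (P k) v := by
      simp only [← hcol, ← Matrix.mulVec_smul, ← Matrix.mulVec_sum]
      congr 1
      exact pi_eq_sum_univ' _
    rw [sub_eq_add_neg, bf_add_right, bf_neg_right, (mem_spGL.1 hg).bf_eq, ← sub_eq_add_neg, sub_eq_zero, hlin]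
    have hsum : ∀ (s : Finset I4) (c : I4 → F) (z : I4 → F),
        bf (∑ k ∈ s, c k • ev X (P k) v) z = ∑ k ∈ s, c k * bf (ev X (P k) v) z := fun s c z => by
      induction s using Finset.induction_on with
      | empty => simp [bf_zero_left]
      | insert a s ha ih => rw [Finset.sum_insert ha, Finset.sum_insert ha, bf_add_left, bf_smul_left, ih]
    have hsum' : bf (ev Y Q' w) (ev Y Q w) = ∑ k, ev Y Q' w k * bf (Pi.single k 1) (ev Y Q w) := by
      simp [bf, dotProduct, Pi.single_apply]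
    rw [hsum, hsum']
    exact Finset.sum_congr rfl fun k _ => by rw [hgram, hP k]
  refine Matrix.toLin'.injective (Pi.basisFun F I4 |>.ext fun k => ?_)
  simp only [Pi.basisFun_apply, Matrix.toLin'_apply, ← Matrix.mulVec_mulVec, hcol]
  conv_rhs => rw [hP k, ← ev_X, key, ev_X]

/-- Elements of order five are conjugate. -/
theorem conj_five [Fintype F] {p : ℕ} [Fact p.Prime] [CharP F p] (hp : Fintype.card F = p) (h2 : (2 : F) ≠ 0)
    (hmod : p ^ 2 % 5 = 4) (hX : IsSp X) (hX5 : X ^ 5 = 1) (hXi : Irr X) (hY : IsSp Y) (hY5 : Y ^ 5 = 1)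
    (hYi : Irr Y) : ∃ u ∈ Cfsg.spGL 2 F, X * (u : Matrix I4 I4 F) = u * Y := by
  classical
  obtain ⟨w, hw⟩ := exists_ne (0 : I4 → F)
  obtain ⟨φ, hφ⟩ : ∃ φ : (I4 → F) → F × F, φ = fun v => (bf v (X *ᵥ v), bf v (X ^ 2 *ᵥ v)) := ⟨_, rfl⟩
  have nz : ∀ {Z : Matrix I4 I4 F} {v : I4 → F}, IsSp Z → Z ^ 5 = 1 → Irr Z → v ≠ 0 →
      (bf v (Z *ᵥ v), bf v (Z ^ 2 *ᵥ v)) ≠ (0, 0) := by
    intro Z v hZ hZ5 hZi hv e
    refine hv (bf_nondeg fun u => ?_)
    obtain ⟨P, rfl⟩ := hZi v hv u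
    induction P using Polynomial.induction_on' with
    | add a b ha hb => rw [ev_add, bf_add_left, ha, hb, add_zero]
    | monomial i a =>
      have e1 := congrArg Prod.fst e
      have e2 := congrArg Prod.snd e
      simp only at e1 e2
      have k := bf_pow h2 hZ hZ5 v i 0
      rw [pow_zero, Matrix.one_mulVec, e1, e2, neg_zero] at k
      rw [ev_mono, bf_smul_left, k]
      generalize (⟨(0 + 4 * i) % 5, _⟩ : Fin 5) = m
      fin_cases m <;> simp
  -- bound the fibres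
  have hXJ : ∀ P : Polynomial F, (aeval X P)ᵀ * Matrix.J (Fin 2) F = Matrix.J (Fin 2) F * aeval (X ^ 4) P := by
    have h1 : Xᵀ * Matrix.J (Fin 2) F = Matrix.J (Fin 2) F * X ^ 4 := by
      have := congrArg (· * X ^ 4) hX
      simpa [Matrix.mul_assoc, ← pow_succ', hX5] using this
    intro P
    induction P using Polynomial.induction_on' with
    | add a b ha hb => simp only [map_add, Matrix.transpose_add, Matrix.add_mul, Matrix.mul_add, ha, hb]
    | monomial i a =>
      simp only [aeval_monomial, ← Algebra.smul_def, Matrix.transpose_smul, Matrix.smul_mul, Matrix.mul_smul]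
      congr 1
      induction i with
      | zero => simp
      | succ i ih =>
        rw [pow_succ, Matrix.transpose_mul, Matrix.mul_assoc, ih, ← Matrix.mul_assoc, h1, Matrix.mul_assoc,
          ← pow_succ']
  have hfrob : ∀ P : Polynomial F, aeval X P ^ (p * p) = aeval (X ^ 4) P := by
    intro P
    have hexp : ∀ f : Polynomial F, expand F p f = f ^ p := fun f => by
      have h := FiniteField.expand_card f
      rwa [hp] at h
    rw [← map_pow, pow_mul, ← hexp, ← hexp, expand_aeval, expand_aeval, ← pow_mul, pow_mod_five hX5,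
      show (p * p) % 5 = 4 by rw [← pow_two]; exact hmod]
  have hfib : ∀ y : F × F, ((Finset.univ.filter fun v : I4 → F => v ≠ 0).filter fun v => φ v = y).card ≤ p * p + 1 := by
    intro y
    obtain ⟨S, hS⟩ : ∃ S, S = (Finset.univ.filter fun v : I4 → F => v ≠ 0).filter fun v => φ v = y := ⟨_, rfl⟩
    rw [← hS]
    rcases S.eq_empty_or_nonempty with hS0 | ⟨v, hv⟩
    · simp [hS0]
    rw [hS, Finset.mem_filter, Finset.mem_filter] at hv
    obtain ⟨⟨-, hv0⟩, hvy⟩ := hv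
    let K := Polynomial F ⧸ RingHom.ker (aeval X : Polynomial F →ₐ[F] Matrix I4 I4 F)
    haveI hprime : (RingHom.ker (aeval X : Polynomial F →ₐ[F] Matrix I4 I4 F)).IsPrime := by
      refine ⟨fun e => ?_, fun {P Q} hPQ => ?_⟩
      · have : (1 : Polynomial F) ∈ RingHom.ker (aeval X : Polynomial F →ₐ[F] Matrix I4 I4 F) := e ▸ Submodule.mem_top
        rw [RingHom.mem_ker, map_one] at this
        exact one_ne_zero this
      · rw [RingHom.mem_ker, map_mul] at hPQ
        by_contra hne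
        push Not at hne
        rw [RingHom.mem_ker, RingHom.mem_ker] at hne
        obtain ⟨hP, hQ⟩ := hne
        obtain ⟨a, ha⟩ : ∃ a, aeval X Q *ᵥ a ≠ 0 := by
          by_contra hall
          push Not at hall
          exact hQ (Matrix.toLin'.injective (LinearMap.ext fun a => by simpa using hall a))
        refine hP (Matrix.toLin'.injective (LinearMap.ext fun z => ?_))
        obtain ⟨T, rfl⟩ := hXi _ ha z
        simp only [Matrix.toLin'_apply, ev, map_zero, LinearMap.zero_apply, Matrix.mulVec_mulVec]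
        rw [← Matrix.mul_assoc, ← map_mul, mul_comm, map_mul, Matrix.mul_assoc, hPQ, mul_zero, Matrix.zero_mulVec]
    choose T hT using hXi v hv0
    have hinj : Set.InjOn (fun u => (Ideal.Quotient.mk _ (T u) : K)) S := fun a _ b _ e => by
      rw [Ideal.Quotient.mk_eq_mk_iff_sub_mem, RingHom.mem_ker, map_sub, sub_eq_zero] at e
      rw [hT a, hT b, ev, ev, e]
    rw [← Finset.card_image_of_injOn hinj]
    refine le_trans (Finset.card_le_card ?_) ((Multiset.toFinset_card_le _).trans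
      (Polynomial.card_nthRoots (p * p + 1) (1 : K)))
    intro k hk
    obtain ⟨u, hu, rfl⟩ := Finset.mem_image.1 hk
    rw [Multiset.mem_toFinset, Polynomial.mem_nthRoots (Nat.succ_pos _), ← map_pow, ← map_one (Ideal.Quotient.mk _),
      Ideal.Quotient.mk_eq_mk_iff_sub_mem, RingHom.mem_ker, map_sub, sub_eq_zero, map_one, map_pow, pow_succ, hfrob]
    rw [hS, Finset.mem_filter, Finset.mem_filter] at hu
    have hpe := hu.2.trans hvy.symm
    rw [hφ] at hpe
    have hsp : IsSp (aeval X (T u)) := by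
      ext i j
      rw [← bf_single (_ * _ * _) i j, ← bf_mul, ← bf_single (Matrix.J _ _) i j]
      obtain ⟨A, hA⟩ := hXi v hv0 (Pi.single i 1)
      obtain ⟨B, hB⟩ := hXi v hv0 (Pi.single j 1)
      rw [hA, hB]
      show bf (ev X (T u) (ev X A v)) (ev X (T u) (ev X B v)) = bf (ev X A v) (ev X B v)
      rw [← ev_mul, ← ev_mul, mul_comm, mul_comm (T u) B, ev_mul, ev_mul, ← hT u]
      exact bf_ev_eq h2 hX hX5 hX hX5 (congrArg Prod.fst hpe) (congrArg Prod.snd hpe) A B
    have h := hsp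
    rw [IsSp, hXJ] at h
    have := congrArg ((Matrix.J (Fin 2) F)⁻¹ * ·) h
    simpa [← Matrix.mul_assoc, Matrix.nonsing_inv_mul _ (Matrix.isUnit_det_J (Fin 2) F)] using this
  have himg : ∀ y : F × F, y ≠ (0, 0) → ∃ v : I4 → F, v ≠ 0 ∧ φ v = y := by
    intro y hy
    by_contra hall
    push Not at hall
    obtain ⟨D, hD⟩ : ∃ D, D = Finset.univ.filter fun v : I4 → F => v ≠ 0 := ⟨_, rfl⟩
    obtain ⟨T, hT⟩ : ∃ T, T = ((Finset.univ : Finset (F × F)).erase (0, 0)).erase y := ⟨_, rfl⟩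
    have hmaps : ∀ v ∈ D, φ v ∈ T := fun v hv => by
      rw [hD, Finset.mem_filter] at hv
      rw [hT, Finset.mem_erase, Finset.mem_erase]
      exact ⟨hall v hv.2, by rw [hφ]; exact nz hX hX5 hXi hv.2, Finset.mem_univ _⟩
    have hle := Finset.card_le_mul_card_image_of_maps_to hmaps (p * p + 1) (fun b _ => by rw [hD]; exact hfib b)
    rw [hD, Finset.filter_ne', Finset.card_erase_of_mem (Finset.mem_univ _), Finset.card_univ, hT,
      Finset.card_erase_of_mem (Finset.mem_erase.2 ⟨hy, Finset.mem_univ _⟩),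
      Finset.card_erase_of_mem (Finset.mem_univ _), Finset.card_univ] at hle
    simp only [Fintype.card_fun, Fintype.card_sum, Fintype.card_fin, Fintype.card_prod, hp] at hle
    have hp2 := (Fact.out : p.Prime).two_le
    obtain ⟨m, hm⟩ : ∃ m, p * p = m + 2 := ⟨p * p - 2, by have := Nat.mul_le_mul hp2 hp2; omega⟩
    rw [show p ^ (2 + 2) = p * p * (p * p) by ring, hm] at hle
    simp only [Nat.add_sub_cancel, show m + 2 - 1 - 1 = m by omega] at hle
    have hsq : (m + 2) * (m + 2) = (m + 2 + 1) * m + (m + 4) := by ring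
    omega
  obtain ⟨v, hv, hv'⟩ := himg _ (nz hY hY5 hYi hw)
  rw [hφ] at hv'
  exact conj_of_pair h2 hX hX5 hY hY5 hYi hw (congrArg Prod.fst hv') (congrArg Prod.snd hv')

end five

end CfsgLib.Pauli
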