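import Cfsg.Prelude.Def_GeometricClasses
import Cfsg.Agent.Lib.Classical.Pauli.SympSimilar
import Cfsg.Agent.Lib.Classical.Pauli.Linear

set_option autoImplicit false
set_option linter.unusedSectionVars false

/-!
Which prime order elements of `Sp₄(p)` normalise a conjugate of the minus type group `2^(1+4)`.
-/

namespace CfsgLib.Pauli

open Matrix
open scoped MatrixGroups
open Cfsg.Geo (matrixSet subgroupNormalizer IsSymplecticTypeGroup ActsAbsolutelyIrreducibly IsOfMinusType)

variable {F : Type*} [Field F]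

/-- The pairing of coordinates with planes. -/
def hypEquiv : Fin 2 × Fin 2 ≃ I4 where
  toFun := fun ib => if ib.2 = 0 then Sum.inl ib.1 else Sum.inr ib.1
  invFun := Sum.elim (fun i => (i, 0)) (fun i => (i, 1))
  left_inv := by decide
  right_inv := by decide

theorem isSp_dbl {A : Matrix (Fin 2) (Fin 2) F} (hA : A.det = 1) : IsSp (dbl hypEquiv A) := by
  rw [Matrix.det_fin_two] at hA
  ext i j
  rcases i with i | i <;> rcases j with j | j <;> fin_cases i <;> fin_cases j <;>
    simp [Matrix.mul_apply, dbl, hypEquiv, Matrix.J, Matrix.fromBlocks, Fintype.sum_sum_type, Fin.sum_univ_two,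
      Matrix.submatrix, Equiv.symm] <;>
    first
    | linear_combination hA
    | linear_combination -hA
    | linear_combination (0 : F) * hA

/-- The element of order three acting on one hyperbolic line. -/
def w3 (F : Type*) [Field F] : Matrix I4 I4 F :=
  Matrix.fromBlocks (Matrix.diagonal ![0, 1]) (Matrix.diagonal ![-1, 0]) (Matrix.diagonal ![1, 0]) (Matrix.diagonal ![-1, 1])

theorem w3_facts : IsSp (w3 F) ∧ w3 F * (w3 F * w3 F) = 1 ∧ (w3 F).trace = 1 ∧ (w3 F * w3 F).trace = 1 := by
  refine ⟨?_, ?_, ?_, ?_⟩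
  · ext i j
    rcases i with i | i <;> rcases j with j | j <;> fin_cases i <;> fin_cases j <;>
      simp [w3, Matrix.mul_apply, Matrix.J, Fintype.sum_sum_type, Fin.sum_univ_two]
  · ext i j
    rcases i with i | i <;> rcases j with j | j <;> fin_cases i <;> fin_cases j <;>
      simp [w3, Matrix.mul_apply, Matrix.one_apply, Fintype.sum_sum_type, Fin.sum_univ_two]
  · simp [w3, Matrix.trace, Fintype.sum_sum_type, Fin.sum_univ_two]
  · simp [w3, Matrix.trace, Matrix.mul_apply, Fintype.sum_sum_type, Fin.sum_univ_two]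

/-- A transvection. -/
def tv (F : Type*) [Field F] : Matrix I4 I4 F := 1 + Matrix.single (Sum.inl 0) (Sum.inr 0) 1

/-- The rows allowed in its commutant. -/
def tvRow : Fin 3 → I4 := ![Sum.inl 0, Sum.inl 1, Sum.inr 1]

/-- The columns allowed in its commutant. -/
def tvCol : Fin 3 → I4 := ![Sum.inr 0, Sum.inl 1, Sum.inr 1]

theorem tv_facts (h3 : (3 : F) = 0) :
    IsSp (tv F) ∧ tv F ^ 3 = 1 ∧ (∀ c : F, tv F ≠ c • 1) ∧
      ∀ k : Fin 3 × Fin 3, tv F * Matrix.single (tvRow k.1) (tvCol k.2) 1 =
        Matrix.single (tvRow k.1) (tvCol k.2) 1 * tv F := by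
  have hNN : Matrix.single (Sum.inl 0) (Sum.inr 0) (1 : F) * Matrix.single (Sum.inl 0 : I4) (Sum.inr 0 : I4) 1 = 0 :=
    Matrix.single_mul_single_of_ne _ _ _ _ (by decide) _
  refine ⟨?_, ?_, fun c e => ?_, ?_⟩
  · ext i j
    rcases i with i | i <;> rcases j with j | j <;> fin_cases i <;> fin_cases j <;>
      simp [tv, Matrix.mul_apply, Matrix.J, Matrix.fromBlocks, Matrix.single_apply, Matrix.one_apply,
        Fintype.sum_sum_type, Fin.sum_univ_two]
  · rw [pow_succ, pow_two, tv]
    simp only [Matrix.mul_add, Matrix.add_mul, Matrix.one_mul, Matrix.mul_one, hNN, add_zero]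
    ext i j
    simp only [Matrix.add_apply, Matrix.single_apply]
    split_ifs <;> first | linear_combination h3 | simp
  · have := congrFun₂ e (Sum.inl 0) (Sum.inr 0)
    simp [tv] at this
  · intro k
    rw [tv, Matrix.add_mul, Matrix.mul_add, Matrix.one_mul, Matrix.mul_one]
    congr 1
    rw [Matrix.single_mul_single_of_ne _ _ _ _ ?_, Matrix.single_mul_single_of_ne _ _ _ _ ?_]
    · revert k; decide
    · revert k; decide

theorem transpose_lin (f : Frame F I4) (hM : ∀ v, IsSp (f.M v)) (x : V → ℤ) :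
    (f.lin x)ᵀ * Matrix.J (Fin 2) F = Matrix.J (Fin 2) F * f.lin (star' x) := by
  have key : ∀ v, (f.M v)ᵀ * Matrix.J (Fin 2) F = sg F (cyc v v) • (Matrix.J (Fin 2) F * f.M v) := fun v => by
    have h := congrArg (· * f.M v) (hM v)
    simp only [Matrix.mul_assoc, f.M_sq, Matrix.mul_smul, Matrix.mul_one] at h
    rw [← h, smul_smul, sg_self, one_smul]
  rw [Frame.lin, Frame.lin, Matrix.transpose_sum, Finset.sum_mul, Finset.mul_sum]
  refine Finset.sum_congr rfl fun v _ => ?_
  rw [Matrix.transpose_smul, Matrix.smul_mul, key, smul_smul, Matrix.mul_smul]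
  congr 1
  simp only [star', Int.cast_mul, sg_cast]
  ring

theorem isSp_y5 (f : Frame F I4) (h2 : (2 : F) ≠ 0) (hM : ∀ v, IsSp (f.M v)) : IsSp f.y5 := by
  have h1 : ∀ v, conv (star' e5) e5 v = 16 * single 0 v := by decide +kernel
  rw [IsSp, Frame.y5]
  simp only [Matrix.transpose_smul, Matrix.smul_mul, Matrix.mul_smul, smul_smul, transpose_lin f hM,
    Matrix.mul_assoc, f.lin_mul, f.lin_one 16 h1, Matrix.mul_one]
  push_cast
  rw [show (((2 : F) * 2)⁻¹ * ((2 * 2)⁻¹ * 16)) = 1 by field_simp; norm_num, one_smul]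

variable [Fintype F] {p : ℕ} [Fact p.Prime] [CharP F p]

/-- The statement. -/
theorem symp_iff (hF : Fintype.card F = p) (hodd : Odd p) (R : Subgroup (GL I4 F))
    (hs : IsSymplecticTypeGroup 2 R) (habs : ActsAbsolutelyIrreducibly (matrixSet R)) (hRf : R ≤ Cfsg.spGL 2 F)
    (hR5 : Nat.card R = 2 ^ 5) (hZ : Nat.card (Subgroup.center R) = 2) (hm : IsOfMinusType 2 R) (r : ℕ) [Fact r.Prime]
    (hΩ : r ∣ (subgroupNormalizer R).relIndex (Cfsg.spGL 2 F)) :
    (∀ x ∈ Cfsg.spGL 2 F, (∃ z : F, ((x ^ r : GL I4 F) : Matrix I4 I4 F) = z • 1) →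
      (∀ z : F, (x : Matrix I4 I4 F) ≠ z • 1) →
      ∃ g ∈ Cfsg.spGL 2 F, g⁻¹ * x * g ∈ subgroupNormalizer R) ↔
    (r = 2 ∨ (r = 5 ∧ orderOf (p : ZMod 5) = 4)) := by
  classical
  have hrp : r.Prime := Fact.out
  have hpp : p.Prime := Fact.out
  have hp3 : 3 ≤ p := by
    have := hpp.two_le
    rcases hodd with ⟨k, hk⟩
    omega
  have h2 : (2 : F) ≠ 0 := by exact_mod_cast small_ne_zero (F := F) (k := 2) (p := p) (by norm_num) (by omega)
  have h4 : Fintype.card I4 = 4 := by simp
  obtain ⟨⟨f, hf⟩, hneg, -⟩ := exists_spans h2 h4 hs habs (z := 2) (by rw [hR5]; norm_num) hZ (Or.inr ⟨rfl, hm⟩)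
  have hMsp : ∀ v, IsSp (f.M v) := fun v => by
    obtain ⟨g, hg, hg'⟩ := hf.mem_M v
    exact hg' ▸ mem_spGL.1 (hRf hg)
  have hone : (1 : F) • (1 : Matrix I4 I4 F) ∈ matrixSet R := by rw [one_smul]; exact mem_one
  have hm1 : (-1 : F) • (1 : Matrix I4 I4 F) ∈ matrixSet R := by rw [neg_one_smul]; exact hneg
  have hsc : ∀ c : F, c • (1 : Matrix I4 I4 F) ∈ matrixSet R → c = 1 ∨ c = -1 := by
    intro c hc
    by_contra hne
    push Not at hne
    have mk : ∀ s : F, s • (1 : Matrix I4 I4 F) ∈ matrixSet R →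
        ∃ u : Subgroup.center R, (((u : R) : GL I4 F) : Matrix I4 I4 F) = s • 1 := by
      rintro s ⟨g, hg, e⟩
      dsimp only at e
      exact ⟨⟨⟨g, hg⟩, Subgroup.mem_center_iff.2 fun k => Subtype.ext (Units.ext (by
        simp only [Subgroup.coe_mul, Units.val_mul, e, Matrix.smul_mul, Matrix.mul_smul, Matrix.one_mul,
          Matrix.mul_one]))⟩, e⟩
    obtain ⟨u, hu⟩ := mk 1 hone
    obtain ⟨v, hv⟩ := mk (-1) hm1
    obtain ⟨w, hw⟩ := mk c hc
    have sinj : ∀ s t : F, s • (1 : Matrix I4 I4 F) = t • 1 → s = t := fun s t e => by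
      simpa using congrFun₂ e (Sum.inl 0) (Sum.inl 0)
    have d1 : u ≠ v := fun e => h2 (by linear_combination sinj 1 (-1) (hu.symm.trans (e ▸ hv)))
    have d2 : u ≠ w := fun e => hne.1 (sinj _ _ (hw.symm.trans (e ▸ hu)))
    have d3 : v ≠ w := fun e => hne.2 (sinj _ _ (hw.symm.trans (e ▸ hv)))
    haveI : Finite (Subgroup.center R) := Nat.finite_of_card_ne_zero (by rw [hZ]; norm_num)
    haveI := Fintype.ofFinite (Subgroup.center R)
    have := Finset.card_le_univ ({u, v, w} : Finset (Subgroup.center R))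
    rw [Finset.card_insert_of_notMem (by simp [d1, d2]), Finset.card_insert_of_notMem (by simp [d3]),
      Finset.card_singleton, ← Nat.card_eq_fintype_card, hZ] at this
    omega
  constructor
  · -- necessity
    intro hall
    by_contra hc
    push Not at hc
    obtain ⟨hr2, hr5⟩ := hc
    have hro : Odd r := hrp.odd_of_ne_two hr2
    have bad : ∀ {κ : Type} [Fintype κ] (X : Matrix I4 I4 F) (fam : κ → Matrix I4 I4 F),
        IsSp X → X ^ r = 1 → (∀ z : F, X ≠ z • 1) → LinearIndependent F fam → (∀ k, X * fam k = fam k * X) →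
        (∀ n t : ℕ, n ∈ [1, 2, 4, 8] → n + r * t = 16 → n + t < Fintype.card κ) → False := by
      intro κ _ X fam hd hpow hns hli hcomm hb
      obtain ⟨x, hxm, hx⟩ := hd.exists_gl
      obtain ⟨g, -, hg⟩ := hall x hxm ⟨1, by rw [Units.val_pow_eq_pow_val, hx, hpow, one_smul]⟩ (hx ▸ hns)
      exact not_conj_of_commutant h2 h4 hf hneg hrp hro ⟨1, by rw [Units.val_pow_eq_pow_val, hx, hpow, one_smul]⟩
        (hx ▸ hns) hg hli (hx ▸ hcomm) hb
    rcases Nat.lt_or_ge r 7 with hlt | h7
    · have hcases : r = 3 ∨ r = 5 := by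
        have := hrp.two_le
        interval_cases r <;> first | omega | exact absurd hrp (by norm_num)
      rcases hcases with rfl | rfl
      · by_cases h3 : (3 : F) = 0
        · obtain ⟨t1, t2, t3, t4⟩ := tv_facts h3
          refine bad (tv F) (fun k : Fin 3 × Fin 3 => Matrix.single (tvRow k.1) (tvCol k.2) (1 : F)) t1 t2 t3 ?_ t4 ?_
          · rw [Fintype.linearIndependent_iff]
            intro c hc k
            have := congrFun₂ hc (tvRow k.1) (tvCol k.2)
            rw [Matrix.sum_apply, Finset.sum_eq_single k (fun l _ hl => by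
              rw [Matrix.smul_apply, Matrix.single_apply, if_neg, smul_zero]
              rintro ⟨a, b⟩
              have i1 : Function.Injective tvRow := by decide
              have i2 : Function.Injective tvCol := by decide
              exact hl (Prod.ext (i1 a) (i2 b))) (by simp)] at this
            simpa using this
          · intro n t hn ht
            simp only [List.mem_cons, List.not_mem_nil, or_false] at hn
            simp only [Fintype.card_prod, Fintype.card_fin]
            omega
        · obtain ⟨w1, w2, w3t, w4⟩ := w3_facts (F := F)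
          obtain ⟨x, hxm, hx⟩ := w1.exists_gl
          have hx3 : (x : Matrix I4 I4 F) ^ 3 = 1 := by rw [hx, pow_succ, pow_two, Matrix.mul_assoc, w2]
          have hxi : ((x⁻¹ : GL I4 F) : Matrix I4 I4 F) = w3 F * w3 F := by
            refine x.isUnit.mul_left_cancel ?_
            rw [Units.mul_inv, hx, w2]
          have hns : ∀ z : F, (x : Matrix I4 I4 F) ≠ z • 1 := by
            intro z e
            rw [hx] at e
            have e1 := congrFun₂ e (Sum.inr 0) (Sum.inl 0)
            simp [w3] at e1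
          obtain ⟨g, -, hg⟩ := hall x hxm ⟨1, by rw [Units.val_pow_eq_pow_val, hx3, one_smul]⟩ hns
          obtain ⟨A⟩ := exists_act h2 h4 hf hneg hg hro
            ⟨1, conj_pow_scalar (by rw [Units.val_pow_eq_pow_val, hx3, one_smul])⟩
          have htr : ∀ Z : GL I4 F, ((g⁻¹ * Z * g : GL I4 F) : Matrix I4 I4 F).trace = (Z : Matrix I4 I4 F).trace :=
            fun Z => by
              rw [Units.val_mul, Matrix.trace_mul_comm, Units.val_mul, ← Matrix.mul_assoc, Units.mul_inv, Matrix.one_mul]
          have ht := A.trace_mul h2 h4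
          rw [htr, show (g⁻¹ * x * g)⁻¹ = g⁻¹ * x⁻¹ * g by group, htr, hx, hxi, w3t, w4, one_mul] at ht
          have hQ : ∀ v, cyc (A.π v) (A.π v) = cyc v v := by
            intro v
            have hs2 : A.s v * A.s v = 1 := by rcases hsc _ (A.scal v) with e | e <;> rw [e] <;> ring
            obtain ⟨G, hG⟩ : ∃ G, G = ((g⁻¹ * x * g : GL I4 F) : Matrix I4 I4 F) := ⟨_, rfl⟩
            have e : G * (f.M v * f.M v) = (f.M (A.π v) * f.M (A.π v)) * G := by
              rw [hG, ← Matrix.mul_assoc, A.eq, smul_mul_assoc, Matrix.mul_assoc (f.M _), A.eq, mul_smul_comm, smul_smul,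
                hs2, one_smul, ← Matrix.mul_assoc]
            rw [f.M_sq, f.M_sq, mul_smul_comm, mul_one, smul_mul_assoc, one_mul] at e
            have hGu : G ≠ 0 := fun e0 => (g⁻¹ * x * g).ne_zero (hG ▸ e0)
            have := smul_left_injective F hGu e
            rcases (by decide : ∀ z : ZMod 2, z = 0 ∨ z = 1) (cyc v v) with a | a <;>
              rcases (by decide : ∀ z : ZMod 2, z = 0 ∨ z = 1) (cyc (A.π v) (A.π v)) with b | b <;>
              rw [a, b] at this ⊢ <;> simp only [sg_zero, sg_one] at this <;>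
              first | exact (h2 (by linear_combination this)).elim | exact (h2 (by linear_combination -this)).elim
          have h5 := A.card_moved hrp (fun v => v ≠ 0 ∧ cyc v v = 0) (fun v => by
            rw [hQ]
            refine and_congr_left' (not_congr ⟨fun e => ?_, fun e => by rw [e, A.map_zero]⟩)
            rw [← A.period v, Function.iterate_succ_apply, e, Act.iterate_fixed A A.map_zero])
          have hcount : (Finset.univ.filter fun v : V => v ≠ 0 ∧ cyc v v = 0).card = 5 := by decide +kernel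
          have hsplit := Finset.card_filter_add_card_filter_not
            (s := Finset.univ.filter fun v : V => v ≠ 0 ∧ cyc v v = 0) (fun v => A.π v = v)
          rw [hcount, Finset.filter_filter, Finset.filter_filter, h5] at hsplit
          have hfix : ((Finset.univ : Finset V).filter fun v => (v ≠ 0 ∧ cyc v v = 0) ∧ A.π v = v).card + 1 ≤ A.fix := by
            rw [← Finset.card_insert_of_notMem (a := (0 : V)) (by simp)]
            refine Finset.card_le_card fun v hv => ?_
            rcases Finset.mem_insert.1 hv with rfl | hv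
            · exact Finset.mem_filter.2 ⟨Finset.mem_univ _, A.map_zero⟩
            · exact Finset.mem_filter.2 ⟨Finset.mem_univ _, (Finset.mem_filter.1 hv).2.2⟩
          have hadd := A.fix_add hrp
          rcases fix_cases A.fix_dvd with e | e | e | e | e <;> rw [e] at hfix hadd ht
          all_goals try omega
          · exact h3 (by push_cast at ht; linear_combination ht)
          · obtain ⟨c, hc⟩ := A.scalar_of_fix h2 h4 e
            exact hns c (scalar_of_conj hc)
      · have hp2 : p ≠ 2 := by omega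
        obtain ⟨A, hA1, hA5, hAns⟩ := exists_sl_two_five (p := p) hF hp2 (five_mod_cases (hr5 rfl))
        refine bad (dbl hypEquiv A) (dblFam hypEquiv A) (isSp_dbl hA1) ?_ (dbl_ne_scalar _ hAns)
          (dblFam_indep _ hAns) (dblFam_comm _ A) ?_
        · rw [dbl_pow, hA5, dbl_one]
        · intro n t hn ht
          simp only [List.mem_cons, List.not_mem_nil, or_false] at hn
          simp only [Fintype.card_prod, Fintype.card_fin]
          omega
    · haveI : Finite (GL I4 F) := Finite.of_injective _ Units.val_injective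
      have hd : r ∣ Nat.card (Cfsg.spGL 2 F) := hΩ.trans (Subgroup.relIndex_dvd_card _ _)
      obtain ⟨x, hx⟩ := exists_prime_orderOf_dvd_card' r hd
      have hxr : ((x : GL I4 F) : Matrix I4 I4 F) ^ r = 1 := by
        have := pow_orderOf_eq_one x
        rw [hx] at this
        simpa using congrArg (fun u : Cfsg.spGL 2 F => ((u : GL I4 F) : Matrix I4 I4 F)) this
      have hns : ∀ z : F, ((x : GL I4 F) : Matrix I4 I4 F) ≠ z • 1 := by
        intro z e
        have hJ := mem_spGL.1 x.2
        rw [IsSp, e] at hJ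
        simp only [Matrix.transpose_smul, Matrix.transpose_one, Matrix.smul_mul, Matrix.one_mul, Matrix.mul_smul,
          Matrix.mul_one, smul_smul] at hJ
        have hz2 := congrFun₂ hJ (Sum.inl 0) (Sum.inr 0)
        simp [Matrix.J] at hz2
        rw [e, smul_pow, one_pow] at hxr
        have hzr : z ^ r = 1 := by simpa using congrFun₂ hxr (Sum.inl 0) (Sum.inl 0)
        have hz1 := pow_gcd_eq_one.2 ⟨(pow_two z).trans hz2, hzr⟩
        rw [Nat.Coprime.gcd_eq_one ((Nat.coprime_primes Nat.prime_two hrp).2 (by omega)), pow_one] at hz1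
        rw [hz1, one_smul] at e
        have : x = 1 := Subtype.ext (Units.ext e)
        rw [this, orderOf_one] at hx
        exact hrp.ne_one hx.symm
      obtain ⟨g, -, hg⟩ := hall x x.2 ⟨1, by rw [Units.val_pow_eq_pow_val, hxr, one_smul]⟩ hns
      obtain ⟨z, hz⟩ := scalar_of_large h2 h4 hf hneg hrp h7
        ⟨1, conj_pow_scalar (by rw [Units.val_pow_eq_pow_val, hxr, one_smul])⟩ hg
      exact hns z (scalar_of_conj hz)
  · -- sufficiency
    intro hr x hx hxr hns
    obtain ⟨z, hz⟩ := hxr
    rw [Units.val_pow_eq_pow_val] at hz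
    obtain ⟨X₀, hX₀⟩ : ∃ X₀, X₀ = (x : Matrix I4 I4 F) := ⟨_, rfl⟩
    rw [← hX₀] at hz
    have hX₀s : IsSp X₀ := hX₀ ▸ mem_spGL.1 hx
    have hz2 : z * z = 1 := by
      have hJ := hX₀s.pow r
      rw [IsSp, hz] at hJ
      simp only [Matrix.transpose_smul, Matrix.transpose_one, Matrix.smul_mul, Matrix.one_mul, Matrix.mul_smul,
        Matrix.mul_one, smul_smul] at hJ
      have := congrFun₂ hJ (Sum.inl 0) (Sum.inr 0)
      simpa [Matrix.J] using this
    have fin : ∀ {μ : F} (Y : Matrix I4 I4 F) (y : GL I4 F), (y : Matrix I4 I4 F) = Y → y ∈ subgroupNormalizer R →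
        μ ≠ 0 → (∃ g ∈ Cfsg.spGL 2 F, (μ⁻¹ • X₀) * (g : Matrix I4 I4 F) = g * Y) →
        ∃ g ∈ Cfsg.spGL 2 F, g⁻¹ * x * g ∈ subgroupNormalizer R := by
      rintro μ Y y hy hmem hμ ⟨g, hg, hgY⟩
      refine ⟨g, hg, exists_conj_mem (μ := μ) (X := μ⁻¹ • X₀) (Y := Y) (y := y) ?_ hy hmem hgY⟩
      rw [smul_smul, mul_inv_cancel₀ hμ, one_smul, hX₀]
    have inR : ∀ v, ∃ y : GL I4 F, (y : Matrix I4 I4 F) = f.M v ∧ y ∈ subgroupNormalizer R := fun v => by
      obtain ⟨y, hy, hy'⟩ := hf.mem_M v
      exact ⟨y, hy', Subgroup.le_normalizer hy⟩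
    rcases hr with rfl | ⟨rfl, hord⟩
    · have hnsX : ∀ c : F, X₀ ≠ c • 1 := hX₀ ▸ hns
      rcases mul_self_eq_one_iff.1 hz2 with rfl | rfl
      · rw [pow_two, one_smul] at hz
        obtain ⟨g, hg, hgD⟩ := exists_invD h2 hX₀s hz hnsX
        obtain ⟨h, hh, hhD⟩ := exists_invD h2 (hMsp (1, 0, 0, 0)) (by rw [← f.a_eq, f.aa]) (fun c e => by
          have := congrArg Matrix.trace e
          rw [f.trace_M h2 (show ((1, 0, 0, 0) : V) ≠ 0 from fun h => one_ne_zero (congrArg Prod.fst h)), Matrix.trace_smul, Matrix.trace_one, h4] at this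
          have hc : c = 0 := by
            simp only [smul_eq_mul] at this
            push_cast at this
            exact (mul_eq_zero.1 this.symm).resolve_right (by rw [show (4 : F) = 2 * 2 by norm_num]; exact mul_ne_zero h2 h2)
          rw [hc, zero_smul] at e
          exact (f.M_isUnit _).ne_zero e)
        obtain ⟨y, hy, hym⟩ := inR (1, 0, 0, 0)
        exact fin (μ := 1) _ y hy hym one_ne_zero (by rw [inv_one, one_smul]; exact conj_sp hg hh hgD hhD)
      · rw [pow_two, neg_one_smul] at hz
        have hcard : Fintype.card F % 2 = 1 := by rw [hF]; exact Nat.odd_iff.1 hodd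
        obtain ⟨g, hg, hgD⟩ := exists_J h2 hcard hX₀s hz
        obtain ⟨h, hh, hhD⟩ := exists_J h2 hcard (hMsp (0, 0, 1, 0)) (by rw [← f.c_eq, f.cc])
        obtain ⟨y, hy, hym⟩ := inR (0, 0, 1, 0)
        exact fin (μ := 1) _ y hy hym one_ne_zero (by rw [inv_one, one_smul]; exact conj_sp hg hh hgD hhD)
    · obtain ⟨hordk, h5p, -⟩ := five_order hord
      have h50 : (5 : F) ≠ 0 := fun e => h5p (by
        have := (CharP.cast_eq_zero_iff F p 5).1 (by exact_mod_cast e)
        rw [(Nat.prime_dvd_prime_iff_eq hpp (by norm_num)).1 this])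
      have hz0 : z ≠ 0 := fun e => by simp [e] at hz2
      obtain ⟨X, hXdef⟩ : ∃ X, X = z⁻¹ • X₀ := ⟨_, rfl⟩
      have hzi : z⁻¹ = z := inv_eq_of_mul_eq_one_right hz2
      have hX5 : X ^ 5 = 1 := by
        rw [hXdef, hzi, smul_pow, hz, smul_smul]
        rw [show z ^ 5 * z = 1 by linear_combination (z ^ 4 + z ^ 2 + 1) * hz2, one_smul]
      have hXs : IsSp X := by
        rw [hXdef, hzi, IsSp, Matrix.transpose_smul, Matrix.smul_mul, Matrix.smul_mul, Matrix.mul_smul, smul_smul,
          hz2, one_smul, hX₀s]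
      have hX1 : X ≠ 1 := fun e => hns z (by
        rw [← hX₀, ← e, hXdef, smul_smul, mul_inv_cancel₀ hz0, one_smul])
      have hy1 : f.y5 ≠ 1 := fun e => h50 (by
        have := congrArg Matrix.trace e
        rw [f.trace_y5 h2 h4, Matrix.trace_one, h4] at this
        push_cast at this
        linear_combination -this)
      have hmod : p ^ 2 % 5 = 4 := by
        have e1 := hordk 2 (by norm_num) (by norm_num)
        rw [Nat.ModEq, Nat.pow_mod] at e1
        rw [Nat.pow_mod]
        have h5m : p % 5 ≠ 0 := fun e => h5p (Nat.dvd_of_mod_eq_zero e)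
        have := Nat.mod_lt p (show 0 < 5 by norm_num)
        interval_cases h : p % 5 <;> simp_all
      obtain ⟨y, hy, hyY⟩ := (isSp_y5 f h2 hMsp).exists_gl
      refine fin (μ := z) f.y5 y hyY (hf.mem_normalizer hneg ?_) hz0 (hXdef ▸ conj_five hF h2 hmod hXs hX5
        (irr_of_order_five hF h50 hordk h5p hX5 hX1) (isSp_y5 f h2 hMsp) (f.y5_pow h2)
        (irr_of_order_five hF h50 hordk h5p (f.y5_pow h2) hy1))
      obtain ⟨ga, gb, gc, gd⟩ := f.y5_gens h2
      rw [hyY]
      rintro W (rfl | rfl | rfl | rfl)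
      · exact ⟨_, _, hm1, ga⟩
      · exact ⟨_, _, hm1, gb⟩
      · exact ⟨_, _, hone, gc⟩
      · exact ⟨_, _, hm1, gd⟩

end CfsgLib.Pauli
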