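import Cfsg.Agent.Lib.Classical.Pauli.Common
import Cfsg.Agent.Lib.Derange.UnitaryPairs
import Cfsg.Prelude.Def_LieClassical

set_option autoImplicit false
set_option linter.unusedSectionVars false

/-!
The adjoint of a matrix for the Hermitian form, and conjugacy in the special unitary group from bases with equal
Gram matrices.
-/

namespace CfsgLib.Pauli

open Matrix
open scoped MatrixGroups
open CfsgLib.ClassicalAut (Unitary.Conj Unitary.herm_apply)

variable {F : Type*} [Field F] [Finite F] {q : ℕ} (K : Unitary.Conj F q) {n : ℕ}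

/-- The adjoint. -/
def adj {a b : Type} (A : Matrix a b F) : Matrix b a F := (A.map K.bar)ᵀ

theorem adj_mul {a b c : Type} [Fintype b] (A : Matrix a b F) (B : Matrix b c F) :
    adj K (A * B) = adj K B * adj K A := by
  rw [adj, adj, adj, Matrix.map_mul, Matrix.transpose_mul]

theorem adj_adj {a b : Type} (A : Matrix a b F) : adj K (adj K A) = A := by
  ext i j; simp [adj, K.bar_bar]

theorem adj_one {a : Type} [DecidableEq a] : adj K (1 : Matrix a a F) = 1 := by
  simp [adj]

theorem adj_smul {a b : Type} (c : F) (A : Matrix a b F) : adj K (c • A) = K.bar c • adj K A := by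
  ext i j; simp [adj]

theorem adj_add {a b : Type} (A B : Matrix a b F) : adj K (A + B) = adj K A + adj K B := by
  ext i j; simp [adj]

theorem adj_sub {a b : Type} (A B : Matrix a b F) : adj K (A - B) = adj K A - adj K B := by
  ext i j; simp [adj]

theorem adj_sum {a b : Type} {κ : Type*} (s : Finset κ) (A : κ → Matrix a b F) :
    adj K (∑ k ∈ s, A k) = ∑ k ∈ s, adj K (A k) := by
  ext i j; simp [adj, Matrix.sum_apply]

theorem det_adj {a : Type} [Fintype a] [DecidableEq a] (A : Matrix a a F) : (adj K A).det = K.bar A.det := by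
  rw [adj, Matrix.det_transpose]; exact (K.bar.toRingHom.map_det A).symm

theorem trace_adj {a : Type} [Fintype a] (A : Matrix a a F) : (adj K A).trace = K.bar A.trace := by
  simp [adj, Matrix.trace, map_sum]

/-- The matrix with given columns. -/
def cols (b : Fin n → Fin n → F) : Matrix (Fin n) (Fin n) F := Matrix.of fun i k => b k i

theorem gram_eq (b : Fin n → Fin n → F) (j k : Fin n) :
    (adj K (cols b) * cols b) j k = Cfsg.hermForm n F q (b k) (b j) := by
  rw [Unitary.herm_apply K, Matrix.mul_apply]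
  exact Finset.sum_congr rfl fun i _ => by simp [adj, cols, mul_comm]

theorem mul_cols {X D : Matrix (Fin n) (Fin n) F} {b : Fin n → Fin n → F}
    (h : ∀ k, X *ᵥ b k = ∑ l, D l k • b l) : X * cols b = cols b * D := by
  ext i k
  have := congrFun (h k) i
  simp only [Finset.sum_apply, Pi.smul_apply, smul_eq_mul] at this
  simp only [Matrix.mul_apply, cols, Matrix.of_apply]
  rw [show ∑ x, X i x * b k x = (X *ᵥ b k) i from rfl, this]
  exact Finset.sum_congr rfl fun _ _ => mul_comm _ _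

theorem mem_GU {g : GL (Fin n) F} :
    g ∈ Cfsg.GU n F q ↔ adj K (g : Matrix (Fin n) (Fin n) F) * (g : Matrix (Fin n) (Fin n) F) = 1 := by
  constructor
  · intro h
    ext j k
    have e := h (Pi.single k 1) (Pi.single j 1)
    simp only [Units.coeHom_apply, Unitary.herm_apply K, Matrix.mulVec_single, MulOpposite.op_one,
      one_smul] at e
    rw [Matrix.mul_apply]
    refine Eq.trans (Eq.trans (Finset.sum_congr rfl fun i _ => ?_) e) ?_
    · simp [adj, mul_comm]
    · rw [Finset.sum_eq_single k (fun i _ hi => by simp [Pi.single_apply, hi]) (by simp)]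
      by_cases hjk : j = k
      · subst hjk; simp
      · simp [Pi.single_apply, hjk, Ne.symm hjk, Matrix.one_apply]
  · intro h u v
    simp only [Units.coeHom_apply, Unitary.herm_apply K]
    have e : ∀ i, K.bar (((g : Matrix (Fin n) (Fin n) F) *ᵥ v) i) =
        (((g : Matrix (Fin n) (Fin n) F).map K.bar) *ᵥ fun l => K.bar (v l)) i := fun i => by
      simp [Matrix.mulVec, dotProduct, map_sum]
    simp only [e]
    show ((g : Matrix (Fin n) (Fin n) F) *ᵥ u) ⬝ᵥ (((g : Matrix (Fin n) (Fin n) F).map K.bar) *ᵥ fun l => K.bar (v l)) =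
      u ⬝ᵥ fun l => K.bar (v l)
    rw [← Matrix.vecMul_transpose, ← Matrix.dotProduct_mulVec, Matrix.mulVec_mulVec]
    have e2 : (g : Matrix (Fin n) (Fin n) F)ᵀ * (g : Matrix (Fin n) (Fin n) F).map K.bar = 1 := by
      have := congrArg Matrix.transpose h
      rwa [Matrix.transpose_mul, Matrix.transpose_one, adj, Matrix.transpose_transpose] at this
    rw [e2, Matrix.one_mulVec]

theorem mem_T {g : GL (Fin n) F} :
    g ∈ Cfsg.GU n F q ⊓ Cfsg.Geo.specialLinear (Fin n) F ↔
      adj K (g : Matrix (Fin n) (Fin n) F) * (g : Matrix (Fin n) (Fin n) F) = 1 ∧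
      (g : Matrix (Fin n) (Fin n) F).det = 1 := by
  rw [Subgroup.mem_inf, mem_GU K]
  refine and_congr_right' ?_
  show Matrix.GeneralLinearGroup.det g = 1 ↔ _
  rw [← Units.val_inj, Matrix.GeneralLinearGroup.val_det_apply, Units.val_one]

theorem exists_T {A : Matrix (Fin n) (Fin n) F} (hA : adj K A * A = 1) (hd : A.det = 1) :
    ∃ g ∈ Cfsg.GU n F q ⊓ Cfsg.Geo.specialLinear (Fin n) F, (g : Matrix (Fin n) (Fin n) F) = A :=
  ⟨Matrix.GeneralLinearGroup.mkOfDetNeZero A (hd ▸ one_ne_zero), (mem_T K).2 ⟨hA, hd⟩, rfl⟩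

theorem exists_quot {δ : F} (h : δ * K.bar δ = 1) : ∃ lam : F, lam ≠ 0 ∧ lam = δ * K.bar lam := by
  by_cases h0 : ∀ y, y + δ * K.bar y = 0
  · exfalso
    have h1 := h0 1
    rw [map_one, mul_one] at h1
    obtain ⟨y, hy⟩ := K.exists_moved
    exact hy (by linear_combination (K.bar y) * h1 - h0 y + (0 : F) * h)
  · push Not at h0
    obtain ⟨y, hy⟩ := h0
    exact ⟨_, hy, by rw [map_add, map_mul, K.bar_bar]; linear_combination (-y) * h⟩

/-- Equal Gram matrices give conjugacy in the special unitary group. -/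
theorem conj_special {X Y B C D G : Matrix (Fin n) (Fin n) F} (hB : adj K B * B = G) (hC : adj K C * C = G)
    (hG : G.det ≠ 0) (hXB : X * B = B * D) (hYC : Y * C = C * D)
    (hS : ∀ lam : F, lam ≠ 0 → ∃ S T : Matrix (Fin n) (Fin n) F,
      S * D = D * S ∧ T * D = D * T ∧ S.det = lam ∧ adj K S * G = G * T ∧ S * T = T * S) :
    ∃ g ∈ Cfsg.GU n F q ⊓ Cfsg.Geo.specialLinear (Fin n) F,
      X * (g : Matrix (Fin n) (Fin n) F) = (g : Matrix (Fin n) (Fin n) F) * Y := by
  have db : K.bar B.det * B.det = G.det := by rw [← det_adj, ← Matrix.det_mul, hB]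
  have dc : K.bar C.det * C.det = G.det := by rw [← det_adj, ← Matrix.det_mul, hC]
  have hB0 : B.det ≠ 0 := fun e => hG (by rw [← db, e, mul_zero])
  have hC0 : C.det ≠ 0 := fun e => hG (by rw [← dc, e, mul_zero])
  obtain ⟨lam, hl0, hl⟩ := exists_quot K (δ := C.det / B.det) (by
    have h1 : K.bar B.det ≠ 0 := by simpa using hB0
    rw [map_div₀]
    field_simp
    linear_combination dc - db)
  obtain ⟨S, T, hSD, hTD, hSd, hST, hcomm⟩ := hS lam hl0
  have hTd : T.det = K.bar lam := by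
    have := congrArg Matrix.det hST
    rw [Matrix.det_mul, Matrix.det_mul, det_adj, hSd, mul_comm] at this
    exact (mul_left_cancel₀ hG this).symm
  have hT0 : IsUnit T.det := by rw [hTd]; exact isUnit_iff_ne_zero.2 (by simpa using hl0)
  have hC' : IsUnit C.det := isUnit_iff_ne_zero.2 hC0
  have hGS : G * S = adj K T * G := by
    have e : adj K G = G := by rw [← hB, adj_mul, adj_adj]
    have := congrArg (adj K) hST
    rwa [adj_mul, adj_mul, adj_adj, e] at this
  obtain ⟨A, hA⟩ : ∃ A, A = B * S * T⁻¹ * C⁻¹ := ⟨_, rfl⟩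
  have hAu : adj K A * A = 1 := by
    rw [hA, adj_mul, adj_mul, adj_mul]
    calc adj K C⁻¹ * (adj K T⁻¹ * (adj K S * adj K B)) * (B * S * T⁻¹ * C⁻¹)
        = adj K C⁻¹ * (adj K T⁻¹ * (adj K S * (adj K B * B) * S)) * (T⁻¹ * C⁻¹) := by simp only [Matrix.mul_assoc]
      _ = adj K C⁻¹ * (adj K T⁻¹ * (G * S * T)) * (T⁻¹ * C⁻¹) := by
        rw [hB, hST, Matrix.mul_assoc G T S, ← hcomm, Matrix.mul_assoc G S T]
      _ = adj K C⁻¹ * (adj K (T * T⁻¹) * G) * (T * T⁻¹ * C⁻¹) := by
        rw [hGS, adj_mul]; simp only [Matrix.mul_assoc]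
      _ = adj K C⁻¹ * (adj K C * C) * C⁻¹ := by
        rw [Matrix.mul_nonsing_inv _ hT0, adj_one, Matrix.one_mul, Matrix.one_mul, hC]
      _ = adj K (C * C⁻¹) * (C * C⁻¹) := by rw [adj_mul]; simp only [Matrix.mul_assoc]
      _ = 1 := by rw [Matrix.mul_nonsing_inv _ hC', adj_one, Matrix.one_mul]
  have hAd : A.det = 1 := by
    rw [hA]
    simp only [Matrix.det_mul, Matrix.det_nonsing_inv, Ring.inverse_eq_inv, hSd, hTd]
    have h1 : K.bar lam ≠ 0 := by simpa using hl0
    field_simp at hl ⊢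
    linear_combination hl
  obtain ⟨g, hg, hg'⟩ := exists_T K hAu hAd
  refine ⟨g, hg, ?_⟩
  have hTD' : D * T⁻¹ = T⁻¹ * D := by
    calc D * T⁻¹ = T⁻¹ * T * D * T⁻¹ := by rw [Matrix.nonsing_inv_mul _ hT0, Matrix.one_mul]
      _ = T⁻¹ * (D * T) * T⁻¹ := by rw [← hTD]; simp only [Matrix.mul_assoc]
      _ = _ := by simp only [Matrix.mul_assoc, Matrix.mul_nonsing_inv _ hT0, Matrix.mul_one]
  have hYC' : D * C⁻¹ = C⁻¹ * Y := by
    calc D * C⁻¹ = C⁻¹ * (C * D) * C⁻¹ := by rw [← Matrix.mul_assoc C⁻¹, Matrix.nonsing_inv_mul _ hC', Matrix.one_mul]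
      _ = _ := by rw [← hYC]; simp only [Matrix.mul_assoc, Matrix.mul_nonsing_inv _ hC', Matrix.mul_one]
  rw [hg', hA, ← Matrix.mul_assoc, ← Matrix.mul_assoc, ← Matrix.mul_assoc, hXB, Matrix.mul_assoc B D, ← hSD,
    ← Matrix.mul_assoc B, Matrix.mul_assoc (B * S) D, hTD', ← Matrix.mul_assoc, Matrix.mul_assoc (B * S * T⁻¹) D, hYC']
  simp only [Matrix.mul_assoc]

end CfsgLib.Pauli
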