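import Cfsg.Agent.Lib.Classical.Pauli.UnitBasic

set_option autoImplicit false
set_option linter.unusedSectionVars false

/-!
Normal forms of unitary elements of order two, three and five in dimension four.
-/

namespace CfsgLib.Pauli

open Matrix
open CfsgLib.ClassicalAut (Unitary.Conj Unitary.herm_apply)
open CfsgLib.Classical.Herm

variable {F : Type*} [Field F] [Finite F] {q : ℕ} (K : Unitary.Conj F q)

local notation "H" => Cfsg.hermForm 4 F q
local notation "V4" => (Fin 4 → F)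

theorem h_iso {n : ℕ} {X : Matrix (Fin n) (Fin n) F} (hX : adj K X * X = 1) (u v : Fin n → F) :
    Cfsg.hermForm n F q (X *ᵥ u) (X *ᵥ v) = Cfsg.hermForm n F q u v := by
  have hd : X.det ≠ 0 := fun e => by
    have := congrArg Matrix.det hX
    rw [Matrix.det_mul, e, mul_zero, Matrix.det_one] at this
    exact zero_ne_one this
  exact ((mem_GU K (g := Matrix.GeneralLinearGroup.mkOfDetNeZero X hd)).2 hX) u v

theorem conj_facts {n : ℕ} {X B D : Matrix (Fin n) (Fin n) F} (hB : B.det ≠ 0) (h : X * B = B * D) :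
    X.det = D.det ∧ X.trace = D.trace := by
  refine ⟨mul_right_cancel₀ hB ?_, ?_⟩
  · rw [← Matrix.det_mul, h, Matrix.det_mul, mul_comm]
  · have e : X = B * (D * B⁻¹) := by
      rw [← Matrix.mul_assoc, ← h, Matrix.mul_assoc, Matrix.mul_nonsing_inv _ (isUnit_iff_ne_zero.2 hB), Matrix.mul_one]
    rw [e, Matrix.trace_mul_comm, Matrix.mul_assoc, Matrix.nonsing_inv_mul _ (isUnit_iff_ne_zero.2 hB), Matrix.mul_one]

theorem det_ne_of_gram {n : ℕ} {B G : Matrix (Fin n) (Fin n) F} (h : adj K B * B = G) (hG : G.det ≠ 0) :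
    B.det ≠ 0 := fun e => hG (by rw [← h, Matrix.det_mul, e, mul_zero])

/-! ### Involutions -/

/-- An involution has an orthonormal eigenbasis. -/
theorem exists_signs_unit (h2 : (2 : F) ≠ 0) {n : ℕ} {X : Matrix (Fin n) (Fin n) F} (hX : adj K X * X = 1)
    (hX2 : X * X = 1) : ∃ (k : ℕ) (B : Matrix (Fin n) (Fin n) F), k ≤ n ∧ adj K B * B = 1 ∧
      X * B = B * Matrix.diagonal (fun j => if j.1 < k then 1 else -1) := by
  have hXX : ∀ v, X *ᵥ (X *ᵥ v) = v := fun v => by rw [Matrix.mulVec_mulVec, hX2, Matrix.one_mulVec]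
  obtain ⟨P, hP⟩ : ∃ P : Submodule F (Fin n → F), ∀ v, v ∈ P ↔ X *ᵥ v = v :=
    ⟨LinearMap.ker (Matrix.toLin' X - LinearMap.id), fun v => by simp [sub_eq_zero]⟩
  obtain ⟨N, hN⟩ : ∃ N : Submodule F (Fin n → F), ∀ v, v ∈ N ↔ X *ᵥ v = -v :=
    ⟨LinearMap.ker (Matrix.toLin' X + LinearMap.id), fun v => by simp [add_eq_zero_iff_eq_neg]⟩
  have orth : ∀ u ∈ P, ∀ v ∈ N, Cfsg.hermForm n F q u v = 0 := fun u hu v hv => by
    have e := h_iso K hX u v
    rw [(hP u).1 hu, (hN v).1 hv, ← neg_one_smul F v, h_smul_right K, map_neg, map_one] at e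
    exact (mul_eq_zero.1 (by linear_combination -e : (2 : F) * Cfsg.hermForm n F q u v = 0)).resolve_left h2
  have dec : ∀ v, ∃ a ∈ P, ∃ b ∈ N, v = a + b := fun v => by
    refine ⟨(2 : F)⁻¹ • (v + X *ᵥ v), (hP _).2 ?_, (2 : F)⁻¹ • (v - X *ᵥ v), (hN _).2 ?_, ?_⟩
    · rw [Matrix.mulVec_smul, Matrix.mulVec_add, hXX, add_comm]
    · rw [Matrix.mulVec_smul, Matrix.mulVec_sub, hXX, ← smul_neg, neg_sub]
    · rw [← smul_add, show v + X *ᵥ v + (v - X *ᵥ v) = (2 : F) • v by module, smul_smul, inv_mul_cancel₀ h2, one_smul]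
  have hcompl : IsCompl P N := by
    refine IsCompl.of_eq ((Submodule.eq_bot_iff _).2 fun v hv => ?_) (eq_top_iff.2 fun v _ => ?_)
    · have h1 := ((hP v).1 hv.1).symm.trans ((hN v).1 hv.2)
      have : (2 : F) • v = 0 := by rw [two_smul]; exact add_eq_zero_iff_eq_neg.2 h1
      exact (smul_eq_zero.1 this).resolve_left h2
    · obtain ⟨a, ha, b, hb, rfl⟩ := dec v
      exact Submodule.add_mem_sup ha hb
  have ndP : Nondeg (q := q) P := by
    intro x hx hx0
    by_contra hall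
    push Not at hall
    refine hx0 (h_nondeg K fun y => ?_)
    obtain ⟨a, ha, b, hb, rfl⟩ := dec y
    rw [h_add_right K, hall a ha, orth x hx b hb, add_zero]
  have ndN : Nondeg (q := q) N := by
    intro x hx hx0
    by_contra hall
    push Not at hall
    refine hx0 (h_nondeg K fun y => ?_)
    obtain ⟨a, ha, b, hb, rfl⟩ := dec y
    rw [h_add_right K, hall b hb, h_eq_zero_symm K (orth a ha x hx), zero_add]
  obtain ⟨wP, hwP, hwP'⟩ := CfsgLib.Derange.UPair.exists_onb K ndP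
  obtain ⟨wN, hwN, hwN'⟩ := CfsgLib.Derange.UPair.exists_onb K ndN
  have hdim : Module.finrank F P + Module.finrank F N = n := by
    rw [Submodule.finrank_add_eq_of_isCompl hcompl, Module.finrank_fin_fun]
  generalize Module.finrank F P = a at wP hwP hwP' hdim
  generalize Module.finrank F N = b at wN hwN hwN' hdim
  subst hdim
  refine ⟨a, cols (Fin.addCases wP wN), Nat.le_add_right a b, ?_, mul_cols fun j => ?_⟩
  · ext i j
    rw [gram_eq K, Matrix.one_apply]
    refine Fin.addCases (fun i => ?_) (fun i => ?_) i <;> refine Fin.addCases (fun j => ?_) (fun j => ?_) j <;>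
      simp only [Fin.addCases_left, Fin.addCases_right]
    · rw [hwP']; simp [eq_comm]
    · rw [h_eq_zero_symm K (orth _ (hwP _) _ (hwN _))]
      rw [if_neg (by simp [Fin.ext_iff]; omega)]
    · rw [orth _ (hwP _) _ (hwN _), if_neg (by simp [Fin.ext_iff]; omega)]
    · rw [hwN']; simp [eq_comm]
  · rw [Finset.sum_eq_single j (fun l _ hl => by rw [Matrix.diagonal_apply_ne _ hl, zero_smul]) (by simp),
      Matrix.diagonal_apply_eq]
    refine Fin.addCases (fun j => ?_) (fun j => ?_) j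
    · simp [(hP _).1 (hwP j)]
    · simp [(hN _).1 (hwN j)]

/-! ### Providers -/

theorem diag_provider {n : ℕ} (d : Fin n → F) (G : Matrix (Fin n) (Fin n) F) (i j : Fin n)
    (hG : ∀ lam : F, adj K (Matrix.diagonal (Function.update (1 : Fin n → F) i lam)) * G =
      G * Matrix.diagonal (Function.update (1 : Fin n → F) j (K.bar lam))) (lam : F) :
    ∃ S T : Matrix (Fin n) (Fin n) F,
      S * Matrix.diagonal d = Matrix.diagonal d * S ∧ T * Matrix.diagonal d = Matrix.diagonal d * T ∧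
      S.det = lam ∧ adj K S * G = G * T ∧ S * T = T * S := by
  refine ⟨_, _, ?_, ?_, ?_, hG lam, ?_⟩
  iterate 2 (rw [Matrix.diagonal_mul_diagonal, Matrix.diagonal_mul_diagonal]; exact congrArg _ (funext fun _ => mul_comm _ _))
  · rw [Matrix.det_diagonal, Finset.prod_update_of_mem (Finset.mem_univ _)]; simp
  · rw [Matrix.diagonal_mul_diagonal, Matrix.diagonal_mul_diagonal]; exact congrArg _ (funext fun _ => mul_comm _ _)

/-- Two hyperbolic lines. -/
def gA (F : Type*) [Field F] : Matrix (Fin 4) (Fin 4) F := !![0, 1, 0, 0; 1, 0, 0, 0; 0, 0, 0, 1; 0, 0, 1, 0]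

/-- A hyperbolic line and an orthonormal pair. -/
def gB (F : Type*) [Field F] : Matrix (Fin 4) (Fin 4) F := !![0, 1, 0, 0; 1, 0, 0, 0; 0, 0, 1, 0; 0, 0, 0, 1]

theorem gA_det : (gA F).det ≠ 0 := by
  simp [gA, Matrix.det_succ_row_zero, Fin.sum_univ_succ, Fin.succAbove, Matrix.submatrix]

theorem gB_det : (gB F).det ≠ 0 := by
  simp [gB, Matrix.det_succ_row_zero, Fin.sum_univ_succ, Fin.succAbove, Matrix.submatrix]

theorem provider_one {n : ℕ} [NeZero n] (d : Fin n → F) (lam : F) :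
    ∃ S T : Matrix (Fin n) (Fin n) F,
      S * Matrix.diagonal d = Matrix.diagonal d * S ∧ T * Matrix.diagonal d = Matrix.diagonal d * T ∧
      S.det = lam ∧ adj K S * 1 = 1 * T ∧ S * T = T * S := by
  refine diag_provider K d 1 0 0 (fun l => ?_) lam
  rw [Matrix.mul_one, Matrix.one_mul, adj, Matrix.diagonal_map (map_zero _), Matrix.diagonal_transpose]
  congr 1
  ext j
  by_cases h : j = 0
  · subst h; simp
  · simp [h]

theorem provider_hyp (G : Matrix (Fin 4) (Fin 4) F) (hG : G = gA F ∨ G = gB F) (d : Fin 4 → F) (lam : F) :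
    ∃ S T : Matrix (Fin 4) (Fin 4) F,
      S * Matrix.diagonal d = Matrix.diagonal d * S ∧ T * Matrix.diagonal d = Matrix.diagonal d * T ∧
      S.det = lam ∧ adj K S * G = G * T ∧ S * T = T * S := by
  refine diag_provider K d G 0 1 (fun l => ?_) lam
  rw [adj, Matrix.diagonal_map (map_zero _), Matrix.diagonal_transpose]
  rcases hG with rfl | rfl <;>
    · ext i j
      rw [Matrix.diagonal_mul, Matrix.mul_diagonal]
      fin_cases i <;> fin_cases j <;> simp [gA, gB, Function.update_apply]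

/-! ### Order three -/

theorem exists_three (h3 : (3 : F) ≠ 0) {ω : F} (hω : ω * ω + ω + 1 = 0) (hωb : K.bar ω = ω)
    {X : Matrix (Fin 4) (Fin 4) F} (hX : adj K X * X = 1) (hX3 : X * (X * X) = 1) (hX1 : X ≠ 1) :
    (∃ B, adj K B * B = gA F ∧ X * B = B * Matrix.diagonal ![ω, ω * ω, ω, ω * ω]) ∨
      ∃ B, adj K B * B = gB F ∧ X * B = B * Matrix.diagonal ![ω, ω * ω, 1, 1] := by
  have hω3 : ω * ω * ω = 1 := by linear_combination (ω - 1) * hω
  have hω1 : ω ≠ 1 := fun e => h3 (by subst e; linear_combination hω)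
  have hXXX : ∀ v, X *ᵥ (X *ᵥ (X *ᵥ v)) = v := fun v => by
    rw [Matrix.mulVec_mulVec, Matrix.mulVec_mulVec, Matrix.mul_assoc, hX3, Matrix.one_mulVec]
  obtain ⟨E, hE⟩ : ∃ E : F → Submodule F V4, ∀ c v, v ∈ E c ↔ X *ᵥ v = c • v :=
    ⟨fun c => LinearMap.ker (Matrix.toLin' X - c • LinearMap.id), fun c v => by simp [sub_eq_zero]⟩
  have orth : ∀ {a b : F}, a * K.bar b ≠ 1 → ∀ u ∈ E a, ∀ v ∈ E b, H u v = 0 := by
    intro a b hab u hu v hv
    have e := h_iso K hX u v
    rw [(hE a u).1 hu, (hE b v).1 hv, h_smul_left K, h_smul_right K, ← mul_assoc] at e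
    by_contra h0
    exact hab (mul_right_cancel₀ h0 (e.trans (one_mul _).symm))
  have n11 : ω * ω ≠ 1 := fun e => hω1 (by linear_combination -ω * e + hω3)
  have b2 : K.bar (ω * ω) = ω * ω := by rw [map_mul, hωb]
  have o11 := orth (a := ω) (b := ω) (by rw [hωb]; exact n11)
  have o22 := orth (a := ω * ω) (b := ω * ω) (by rw [b2]; exact fun e => hω1 (by linear_combination e - ω * hω3))
  have o10 := orth (a := ω) (b := 1) (by rw [map_one, mul_one]; exact hω1)
  have o20 := orth (a := ω * ω) (b := 1) (by rw [map_one, mul_one]; exact n11)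
  have dec : ∀ v, ∃ a ∈ E 1, ∃ b ∈ E ω, ∃ c ∈ E (ω * ω), v = a + b + c := by
    intro v
    refine ⟨(3 : F)⁻¹ • (v + X *ᵥ v + X *ᵥ (X *ᵥ v)), (hE _ _).2 ?_,
      (3 : F)⁻¹ • (v + (ω * ω) • X *ᵥ v + ω • X *ᵥ (X *ᵥ v)), (hE _ _).2 ?_,
      (3 : F)⁻¹ • (v + ω • X *ᵥ v + (ω * ω) • X *ᵥ (X *ᵥ v)), (hE _ _).2 ?_, ?_⟩
    · simp only [Matrix.mulVec_smul, Matrix.mulVec_add, hXXX]; module
    · simp only [Matrix.mulVec_smul, Matrix.mulVec_add, hXXX, smul_add, smul_smul]
      match_scalars <;> first | linear_combination (-(3 : F)⁻¹) * hω3 | linear_combination (3 : F)⁻¹ * hω3 | linear_combination (0 : F) * hω3 |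
        linear_combination (3 : F)⁻¹ * ω * hω3 | linear_combination (-(3 : F)⁻¹) * ω * hω3
    · simp only [Matrix.mulVec_smul, Matrix.mulVec_add, hXXX, smul_add, smul_smul]
      match_scalars <;> first | linear_combination (-(3 : F)⁻¹) * hω3 | linear_combination (3 : F)⁻¹ * hω3 | linear_combination (0 : F) * hω3 |
        linear_combination (3 : F)⁻¹ * ω * hω3 | linear_combination (-(3 : F)⁻¹) * ω * hω3
    · simp only [← smul_add]
      rw [show v + X *ᵥ v + X *ᵥ (X *ᵥ v) + (v + (ω * ω) • X *ᵥ v + ω • X *ᵥ (X *ᵥ v)) +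
        (v + ω • X *ᵥ v + (ω * ω) • X *ᵥ (X *ᵥ v)) = (3 : F) • v by
          match_scalars <;> first | linear_combination hω | linear_combination (0 : F) * hω, smul_smul, inv_mul_cancel₀ h3, one_smul]
  have pair : ∀ e ∈ E ω, e ≠ 0 → ∃ f ∈ E (ω * ω), H e f = 1 := by
    intro e he he0
    obtain ⟨f, hf, hf'⟩ : ∃ f ∈ E (ω * ω), H e f ≠ 0 := by
      by_contra hall
      push Not at hall
      refine he0 (h_nondeg K fun y => ?_)
      obtain ⟨a, ha, b, hb, c, hc, rfl⟩ := dec y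
      rw [h_add_right K, h_add_right K, o10 e he a ha, o11 e he b hb, hall c hc, add_zero, add_zero]
    refine ⟨K.bar (H e f)⁻¹ • f, Submodule.smul_mem _ _ hf, ?_⟩
    rw [h_smul_right K, K.bar_bar, inv_mul_cancel₀ hf']
  obtain ⟨e, he, he0⟩ : ∃ e ∈ E ω, e ≠ 0 := by
    by_contra hall
    push Not at hall
    have hf : ∀ f ∈ E (ω * ω), f = 0 := fun f hf => h_nondeg K fun y => by
      obtain ⟨a, ha, b, hb, c, hc, rfl⟩ := dec y
      rw [h_add_right K, h_add_right K, o20 f hf a ha, hall b hb, h_zero_right K, o22 f hf c hc, add_zero, add_zero]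
    refine hX1 (Matrix.toLin'.injective (LinearMap.ext fun v => ?_))
    obtain ⟨a, ha, b, hb, c, hc, rfl⟩ := dec v
    rw [hall b hb, hf c hc, add_zero, add_zero, Matrix.toLin'_apply, Matrix.toLin'_one, LinearMap.id_apply,
      (hE 1 a).1 ha, one_smul]
  obtain ⟨f, hf, hef⟩ := pair e he he0
  have hfe : H f e = 1 := by rw [h_swap K e f, hef, map_one]
  by_cases hA : ∃ e' ∈ E ω, e' ≠ 0 ∧ H e' f = 0
  · left
    obtain ⟨e', he', he'0, he'f⟩ := hA
    obtain ⟨f', hf', hef'⟩ := pair e' he' he'0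
    obtain ⟨f'', hf''def⟩ : ∃ f'', f'' = f' - K.bar (H e f') • f := ⟨_, rfl⟩
    have hf'' : f'' ∈ E (ω * ω) := hf''def ▸ Submodule.sub_mem _ hf' (Submodule.smul_mem _ _ hf)
    have h1 : H e f'' = 0 := by rw [hf''def, h_sub_right K, h_smul_right K, K.bar_bar, hef, mul_one, sub_self]
    have h3' : H e' f'' = 1 := by rw [hf''def, h_sub_right K, h_smul_right K, hef', he'f, mul_zero, sub_zero]
    refine ⟨cols ![e, f, e', f''], ?_, mul_cols fun j => ?_⟩
    · ext i j
      rw [gram_eq K]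
      fin_cases i <;> fin_cases j <;> simp [gA, o11 e he e he, o22 f hf f hf, o11 e' he' e' he', o11 e he e' he',
        o11 e' he' e he, o22 f'' hf'' f'' hf'', o22 f hf f'' hf'', o22 f'' hf'' f hf, hef, hfe, h1, h3', he'f,
        h_eq_zero_symm K h1, h_eq_zero_symm K he'f, h_swap K e' f'']
    · rw [Finset.sum_eq_single j (fun l _ hl => by rw [Matrix.diagonal_apply_ne _ hl, zero_smul]) (by simp),
        Matrix.diagonal_apply_eq]
      fin_cases j <;> simp [(hE _ _).1 he, (hE _ _).1 hf, (hE _ _).1 he', (hE _ _).1 hf'']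
  · right
    push Not at hA
    have hEe : ∀ a ∈ E ω, a = H a f • e := fun a ha => by
      by_contra hne
      exact hA (a - H a f • e) (Submodule.sub_mem _ ha (Submodule.smul_mem _ _ he)) (sub_ne_zero.2 hne)
        (by rw [h_sub_left K, h_smul_left K, hef, mul_one, sub_self])
    have hEf : ∀ a ∈ E (ω * ω), a = H a e • f := fun a ha => by
      rw [← sub_eq_zero]
      refine h_nondeg K fun y => ?_
      obtain ⟨a', ha', b, hb, c, hc, rfl⟩ := dec y
      rw [h_add_right K, h_add_right K, hEe b hb]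
      simp only [h_sub_left K, h_smul_left K, h_smul_right K, o20 a ha a' ha', o20 f hf a' ha', o22 a ha c hc,
        o22 f hf c hc, hfe]
      ring
    have nd : Nondeg (q := q) (E 1) := by
      intro x hx hx0
      by_contra hall
      push Not at hall
      refine hx0 (h_nondeg K fun y => ?_)
      obtain ⟨a, ha, b, hb, c, hc, rfl⟩ := dec y
      rw [h_add_right K, h_add_right K, hall a ha, h_eq_zero_symm K (o10 b hb x hx), h_eq_zero_symm K (o20 c hc x hx),
        add_zero, add_zero]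
    obtain ⟨w, hw, hw'⟩ := CfsgLib.Derange.UPair.exists_onb K nd
    have hdim : Module.finrank F (E 1) = 2 := by
      obtain ⟨U, hU⟩ : ∃ U, U = Submodule.span F (Set.range ![e, f]) := ⟨_, rfl⟩
      have hUd : Module.finrank F U = 2 := by
        rw [hU, finrank_span_eq_card (R := F) ?_, Fintype.card_fin]
        rw [Fintype.linearIndependent_iff]
        intro c hc
        rw [Fin.sum_univ_two] at hc
        have c0 := congrArg (fun v => H v f) hc
        have c1 := congrArg (fun v => H v e) hc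
        simp [h_add_left K, h_smul_left K, hef, hfe, o11 e he e he, o22 f hf f hf, h_zero_left K] at c0 c1
        intro i
        fin_cases i <;> assumption
      have hmem : ∀ v ∈ U, ∃ a b : F, v = a • e + b • f := fun v hv => by
        rw [hU, Submodule.mem_span_range_iff_exists_fun] at hv
        obtain ⟨c, rfl⟩ := hv
        exact ⟨c 0, c 1, by simp [Fin.sum_univ_two]⟩
      have hc : IsCompl (E 1) U := by
        refine IsCompl.of_eq ((Submodule.eq_bot_iff _).2 fun v hv => ?_) (eq_top_iff.2 fun v _ => ?_)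
        · obtain ⟨a, b, rfl⟩ := hmem v hv.2
          have k1 := h_eq_zero_symm K (o10 e he _ hv.1)
          have k2 := h_eq_zero_symm K (o20 f hf _ hv.1)
          simp [h_add_left K, h_smul_left K, hef, hfe, o11 e he e he, o22 f hf f hf] at k1 k2
          rw [k1, k2, zero_smul, zero_smul, add_zero]
        · obtain ⟨a, ha, b, hb, c, hc, rfl⟩ := dec v
          rw [add_assoc]
          refine Submodule.add_mem_sup ha ?_
          rw [hEe b hb, hEf c hc, hU]
          exact Submodule.add_mem _ (Submodule.smul_mem _ _ (Submodule.subset_span ⟨0, rfl⟩))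
            (Submodule.smul_mem _ _ (Submodule.subset_span ⟨1, rfl⟩))
      have := Submodule.finrank_add_eq_of_isCompl hc
      rw [hUd, Module.finrank_fin_fun] at this
      omega
    generalize Module.finrank F (E 1) = m at w hw hw' hdim
    subst hdim
    refine ⟨cols ![e, f, w 0, w 1], ?_, mul_cols fun j => ?_⟩
    · ext i j
      rw [gram_eq K]
      fin_cases i <;> fin_cases j <;> simp [gB, o11 e he e he, o22 f hf f hf, hef, hfe, hw', o10 e he _ (hw _),
        o20 f hf _ (hw _), h_eq_zero_symm K (o10 e he _ (hw _)), h_eq_zero_symm K (o20 f hf _ (hw _))]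
    · rw [Finset.sum_eq_single j (fun l _ hl => by rw [Matrix.diagonal_apply_ne _ hl, zero_smul]) (by simp),
        Matrix.diagonal_apply_eq]
      fin_cases j <;> simp [(hE _ _).1 he, (hE _ _).1 hf, (hE _ _).1 (hw _)]

/-! ### Order five -/

/-- The companion blocks. -/
def dFive (η : F) : Matrix (Fin 4) (Fin 4) F := !![0, -1, 0, 0; 1, η, 0, 0; 0, 0, 0, -1; 0, 0, 1, -1 - η]

/-- The Gram matrix. -/
def gFive (η : F) : Matrix (Fin 4) (Fin 4) F := !![0, 0, 1, -1 - η; 0, 0, 0, 1; 1, 0, 0, 0; η, 1, 0, 0]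

theorem gFive_det (η : F) : (gFive η).det ≠ 0 := by
  simp [gFive, Matrix.det_succ_row_zero, Fin.sum_univ_succ, Fin.succAbove, Matrix.submatrix]

variable {η : F} (hη : η * η + η - 1 = 0) (hηb : K.bar η = -1 - η) (hirr : ∀ c : F, c * c - η * c + 1 ≠ 0)
include hη hηb hirr

theorem provider_five (h2 : (2 : F) ≠ 0) [Fintype F] (hodd : Fintype.card F % 2 = 1) (lam : F) :
    ∃ S T : Matrix (Fin 4) (Fin 4) F,
      S * dFive η = dFive η * S ∧ T * dFive η = dFive η * T ∧
      S.det = lam ∧ adj K S * gFive η = gFive η * T ∧ S * T = T * S := by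
  obtain ⟨k, hk⟩ : ∃ k : F, k = 1 - η * η / 4 := ⟨_, rfl⟩
  have h4 : (4 : F) ≠ 0 := by rw [show (4 : F) = 2 * 2 by norm_num]; exact mul_ne_zero h2 h2
  have hk0 : k ≠ 0 := fun e => hirr (η / 2) (by rw [hk] at e; field_simp at e ⊢; linear_combination e)
  obtain ⟨u, b, hub⟩ := FiniteField.exists_root_sum_quadratic (f := (Polynomial.X ^ 2 : Polynomial F))
    (g := Polynomial.C k * Polynomial.X ^ 2 - Polynomial.C lam) (Polynomial.degree_X_pow 2)
    (by rw [Polynomial.degree_sub_eq_left_of_degree_lt] <;> rw [Polynomial.degree_C_mul_X_pow 2 hk0]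
        · norm_num
        · exact Polynomial.degree_C_le.trans_lt (by norm_num)) hodd
  simp only [Polynomial.eval_sub, Polynomial.eval_mul, Polynomial.eval_pow, Polynomial.eval_X, Polynomial.eval_C] at hub
  obtain ⟨a, ha⟩ : ∃ a, a = u - η * b / 2 := ⟨_, rfl⟩
  obtain ⟨P, hP⟩ : ∃ P, P = K.bar a := ⟨_, rfl⟩
  obtain ⟨Q, hQ⟩ : ∃ Q, Q = K.bar b := ⟨_, rfl⟩
  refine ⟨!![a, -b, 0, 0; b, a + η * b, 0, 0; 0, 0, 1, 0; 0, 0, 0, 1],
    !![1, 0, 0, 0; 0, 1, 0, 0; 0, 0, P + Q * (-1 - η), Q; 0, 0, -Q, P], ?_, ?_, ?_, ?_, ?_⟩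
  · ext i j
    fin_cases i <;> fin_cases j <;> simp [dFive, Matrix.mul_apply, Fin.sum_univ_succ] <;> ring
  · ext i j
    fin_cases i <;> fin_cases j <;> simp [dFive, Matrix.mul_apply, Fin.sum_univ_succ] <;> ring
  · simp [Matrix.det_succ_row_zero, Fin.sum_univ_succ, Fin.succAbove, Matrix.submatrix]
    rw [ha]
    rw [hk] at hub
    field_simp
    field_simp at hub
    linear_combination hub
  · ext i j
    fin_cases i <;> fin_cases j <;>
      simp [adj, gFive, Matrix.mul_apply, Fin.sum_univ_succ, map_add, map_mul, map_neg, ← hP, ← hQ, hηb] <;>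
      first | ring | linear_combination Q * hη | linear_combination -Q * hη
  · ext i j
    fin_cases i <;> fin_cases j <;> simp [Matrix.mul_apply, Fin.sum_univ_succ]

theorem exists_five (h5 : (5 : F) ≠ 0) {X : Matrix (Fin 4) (Fin 4) F} (hX : adj K X * X = 1) (hX5 : X ^ 5 = 1)
    (hX1 : X ≠ 1) : ∃ B, adj K B * B = gFive η ∧ X * B = B * dFive η := by
  obtain ⟨η', hη'⟩ : ∃ η', η' = -1 - η := ⟨_, rfl⟩
  have hη'e : η' * η' + η' - 1 = 0 := by rw [hη']; linear_combination hη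
  have hd : η - η' ≠ 0 := fun e => h5 (by rw [hη'] at e; linear_combination (2 * η + 1) * e - 4 * hη)
  have hη2 : ∀ c : F, c * c + c - 1 = 0 → 2 - c ≠ 0 := fun c hc e => h5 (by linear_combination hc + (c + 3) * e)
  have x5 : ∀ v, X *ᵥ (X *ᵥ (X *ᵥ (X *ᵥ (X *ᵥ v)))) = v := fun v => by
    simp only [Matrix.mulVec_mulVec]
    rw [show X * (X * (X * (X * X))) = X ^ 5 by simp [pow_succ, Matrix.mul_assoc], hX5, Matrix.one_mulVec]
  obtain ⟨W, hW⟩ : ∃ W : F → Submodule F V4, ∀ c v, v ∈ W c ↔ X *ᵥ (X *ᵥ v) = c • X *ᵥ v - v :=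
    ⟨fun c => LinearMap.ker (Matrix.toLin' X * Matrix.toLin' X - c • Matrix.toLin' X + LinearMap.id), fun c v => by
      simp only [LinearMap.mem_ker, LinearMap.add_apply, LinearMap.sub_apply, Module.End.mul_apply,
        LinearMap.smul_apply, Matrix.toLin'_apply, LinearMap.id_apply]
      rw [← sub_eq_zero (a := X *ᵥ (X *ᵥ v)), sub_sub_eq_add_sub, add_sub_right_comm]⟩
  have iso := h_iso K hX
  have tiso : ∀ c : F, c * c + c - 1 = 0 → K.bar c = -1 - c → ∀ u ∈ W c, ∀ v ∈ W c, H u v = 0 := by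
    intro c hc hcb u hu v hv
    have e1 : H (X *ᵥ u) v = c * H u v - H u (X *ᵥ v) := by
      rw [← iso (X *ᵥ u) v, (hW c u).1 hu, h_sub_left K, h_smul_left K, iso]
    have e2 : H u (X *ᵥ v) = (-1 - c) * H u v - H (X *ᵥ u) v := by
      rw [← iso u (X *ᵥ v), (hW c v).1 hv, h_sub_right K, h_smul_right K, hcb, iso]
    have : (2 * c + 1) * H u v = 0 := by linear_combination -e1 + e2
    refine (mul_eq_zero.1 this).resolve_left fun e => h5 ?_
    linear_combination (2 * c + 1) * e - 4 * hc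
  have orth : ∀ c : F, c * c + c - 1 = 0 → ∀ u ∈ W c, ∀ v, X *ᵥ v = v → H u v = 0 := by
    intro c hc u hu v hv
    have e1 : H (X *ᵥ u) v = H u v := by conv_lhs => rw [← hv, iso]
    have e2 : H (X *ᵥ (X *ᵥ u)) v = H u v := by conv_lhs => rw [← hv, iso, e1]
    rw [(hW c u).1 hu, h_sub_left K, h_smul_left K, e1] at e2
    refine (mul_eq_zero.1 (?_ : (2 - c) * H u v = 0)).resolve_left (hη2 c hc)
    linear_combination -e2
  have dec : ∀ v, ∃ a, X *ᵥ a = a ∧ ∃ b ∈ W η, ∃ c ∈ W η', v = a + b + c := by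
    intro v
    obtain ⟨a, ha⟩ : ∃ a, a = (5 : F)⁻¹ • (v + X *ᵥ v + X *ᵥ (X *ᵥ v) + X *ᵥ (X *ᵥ (X *ᵥ v)) +
        X *ᵥ (X *ᵥ (X *ᵥ (X *ᵥ v)))) := ⟨_, rfl⟩
    have haX : X *ᵥ a = a := by rw [ha]; simp only [Matrix.mulVec_smul, Matrix.mulVec_add, x5]; module
    obtain ⟨w, hw⟩ : ∃ w, w = v - a := ⟨_, rfl⟩
    have hsum : w + X *ᵥ w + X *ᵥ (X *ᵥ w) + X *ᵥ (X *ᵥ (X *ᵥ w)) + X *ᵥ (X *ᵥ (X *ᵥ (X *ᵥ w))) = 0 := by
      simp only [hw, Matrix.mulVec_sub, haX]
      rw [ha]
      match_scalars <;> field_simp <;> ring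
    have key : ∀ c c' : F, c + c' = -1 → c * c' = -1 →
        X *ᵥ w + X *ᵥ (X *ᵥ (X *ᵥ (X *ᵥ w))) - c' • w ∈ W c := by
      intro c c' hs hp
      rw [hW]
      simp only [Matrix.mulVec_add, Matrix.mulVec_sub, Matrix.mulVec_smul, x5]
      rw [← sub_eq_zero, ← hsum]
      match_scalars <;> first | linear_combination hs | linear_combination hp | linear_combination -hs |
        linear_combination -hp | linear_combination hs + (0 : F) * hp | ring
    refine ⟨a, haX, (η - η')⁻¹ • (X *ᵥ w + X *ᵥ (X *ᵥ (X *ᵥ (X *ᵥ w))) - η' • w),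
      Submodule.smul_mem _ _ (key η η' (by rw [hη']; ring) (by rw [hη']; linear_combination -hη)),
      (η' - η)⁻¹ • (X *ᵥ w + X *ᵥ (X *ᵥ (X *ᵥ (X *ᵥ w))) - η • w),
      Submodule.smul_mem _ _ (key η' η (by rw [hη']; ring) (by rw [hη']; linear_combination -hη)), ?_⟩
    rw [show (η' - η)⁻¹ = -(η - η')⁻¹ by rw [← inv_neg, neg_sub], neg_smul, ← sub_eq_add_neg, add_sub_assoc, ← smul_sub]
    rw [show X *ᵥ w + X *ᵥ (X *ᵥ (X *ᵥ (X *ᵥ w))) - η' • w - (X *ᵥ w + X *ᵥ (X *ᵥ (X *ᵥ (X *ᵥ w))) - η • w) =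
      (η - η') • w by module, smul_smul, inv_mul_cancel₀ hd, one_smul, hw]
    abel
  have bη' : K.bar η' = -1 - η' := by rw [hη', map_sub, map_neg, map_one, hηb]
  obtain ⟨u, hu, hu0⟩ : ∃ u ∈ W η, u ≠ 0 := by
    by_contra hall
    push Not at hall
    refine hX1 (Matrix.toLin'.injective (LinearMap.ext fun v => ?_))
    obtain ⟨a, ha, b, hb, c, hc, rfl⟩ := dec v
    have hc0 : c = 0 := h_nondeg K fun y => by
      obtain ⟨a', ha', b', hb', c', hc', rfl⟩ := dec y
      rw [h_add_right K, h_add_right K, orth η' hη'e c hc a' ha', hall b' hb', h_zero_right K,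
        tiso η' hη'e bη' c hc c' hc', add_zero, add_zero]
    rw [hall b hb, hc0, add_zero, add_zero, Matrix.toLin'_apply, Matrix.toLin'_one, LinearMap.id_apply, ha]
  have hXu : X *ᵥ u ∈ W η := by
    rw [hW, (hW η u).1 hu, Matrix.mulVec_sub, Matrix.mulVec_smul, (hW η u).1 hu]
  obtain ⟨v₀, hv₀, hv₀'⟩ : ∃ v ∈ W η', H u v ≠ 0 := by
    by_contra hall
    push Not at hall
    refine hu0 (h_nondeg K fun y => ?_)
    obtain ⟨a, ha, b, hb, c, hc, rfl⟩ := dec y
    rw [h_add_right K, h_add_right K, orth η hη u hu a ha, tiso η hη hηb u hu b hb, hall c hc, add_zero, add_zero]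
  obtain ⟨P, hP⟩ : ∃ P, P = H u v₀ := ⟨_, rfl⟩
  obtain ⟨Q, hQ⟩ : ∃ Q, Q = H (X *ᵥ u) v₀ := ⟨_, rfl⟩
  rw [← hP] at hv₀'
  have hux : H u (X *ᵥ v₀) = η * P - Q := by
    have e : H (X *ᵥ (X *ᵥ u)) (X *ᵥ v₀) = Q := by rw [iso, hQ]
    rw [(hW η u).1 hu, h_sub_left K, h_smul_left K, iso, ← hP] at e
    linear_combination -e
  obtain ⟨Δ, hΔ⟩ : ∃ Δ, Δ = P * P - η * P * Q + Q * Q := ⟨_, rfl⟩
  have hΔ0 : Δ ≠ 0 := by
    intro e
    refine hirr (Q / P) ?_
    field_simp
    linear_combination e - hΔ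
  obtain ⟨v, hv⟩ : ∃ v, v = K.bar (P / Δ) • v₀ + K.bar (-Q / Δ) • X *ᵥ v₀ := ⟨_, rfl⟩
  have hXv₀ : X *ᵥ v₀ ∈ W η' := by
    rw [hW, (hW η' v₀).1 hv₀, Matrix.mulVec_sub, Matrix.mulVec_smul, (hW η' v₀).1 hv₀]
  have hvW : v ∈ W η' := hv ▸ Submodule.add_mem _ (Submodule.smul_mem _ _ hv₀) (Submodule.smul_mem _ _ hXv₀)
  have hXv : X *ᵥ v ∈ W η' := by
    rw [hW, (hW η' v).1 hvW, Matrix.mulVec_sub, Matrix.mulVec_smul, (hW η' v).1 hvW]
  have huv : H u v = 1 := by
    rw [hv, h_add_right K, h_smul_right K, h_smul_right K, K.bar_bar, K.bar_bar, ← hP, hux]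
    field_simp
    linear_combination -hΔ
  have hxuv : H (X *ᵥ u) v = 0 := by
    rw [hv, h_add_right K, h_smul_right K, h_smul_right K, K.bar_bar, K.bar_bar, ← hQ, iso, ← hP]
    field_simp
    ring
  have huxv : H u (X *ᵥ v) = η := by
    have e : H (X *ᵥ (X *ᵥ u)) (X *ᵥ v) = 0 := by rw [iso, hxuv]
    rw [(hW η u).1 hu, h_sub_left K, h_smul_left K, iso, huv] at e
    linear_combination -e
  have hxx : H (X *ᵥ u) (X *ᵥ v) = 1 := by rw [iso, huv]
  have t := tiso η hη hηb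
  have t' := tiso η' hη'e bη'
  refine ⟨cols ![u, X *ᵥ u, v, X *ᵥ v], ?_, mul_cols fun j => ?_⟩
  · ext i j
    rw [gram_eq K]
    fin_cases i <;> fin_cases j <;> simp [gFive, t u hu u hu, t u hu _ hXu, t _ hXu u hu, t _ hXu _ hXu,
      t' v hvW v hvW, t' v hvW _ hXv, t' _ hXv v hvW, t' _ hXv _ hXv, huv, hxuv, huxv, hxx,
      h_eq_zero_symm K hxuv, h_swap K u v, h_swap K u (X *ᵥ v), h_swap K (X *ᵥ u) (X *ᵥ v), hηb, iso]
  · simp only [Fin.sum_univ_four]
    fin_cases j <;> simp [dFive, (hW η u).1 hu, (hW η' v).1 hvW, hη'] <;> abel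

end CfsgLib.Pauli
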