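import Cfsg.Prelude.Def_GeometricClasses
import Cfsg.Agent.Lib.Classical.Pauli.UnitSimilar
import Cfsg.Agent.Lib.Classical.Pauli.Linear

set_option autoImplicit false
set_option linter.unusedSectionVars false

/-!
Which prime order elements of `SU₄(p)` normalise a conjugate of `4 ∘ 2^(1+4)`.
-/

namespace CfsgLib.Pauli

open Matrix
open scoped MatrixGroups
open Cfsg.Geo (matrixSet subgroupNormalizer specialLinear IsSymplecticTypeGroup ActsAbsolutelyIrreducibly)
open CfsgLib.ClassicalAut (Unitary.Conj Unitary.exists_conj)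

variable {F : Type*} [Field F]

section adjoint

variable [Finite F] {q : ℕ} (K : Unitary.Conj F q)

/-- Diagonal matrices. -/
theorem adj_diagonal {a : Type} [DecidableEq a] (d : a → F) :
    adj K (Matrix.diagonal d) = Matrix.diagonal fun j => K.bar (d j) := by
  rw [adj, Matrix.diagonal_map (map_zero _), Matrix.diagonal_transpose]

theorem adj_vecMulVec {n : ℕ} (u v : Fin n → F) :
    adj K (Matrix.vecMulVec u fun j => K.bar (v j)) = Matrix.vecMulVec v fun j => K.bar (u j) := by
  ext i j; simp [adj, Matrix.vecMulVec, K.bar_bar, mul_comm]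

theorem adj_dbl {ι : Type} [Fintype ι] [DecidableEq ι] (ε : Fin 2 × Fin 2 ≃ ι) (A : Matrix (Fin 2) (Fin 2) F) :
    adj K (dbl ε A) = dbl ε (adj K A) := by
  ext i j
  obtain ⟨⟨a, b⟩, rfl⟩ := ε.surjective i
  obtain ⟨⟨c, d⟩, rfl⟩ := ε.surjective j
  simp [adj, dbl, apply_ite K.bar, eq_comm]

variable {f : Frame F (Fin 4)} (hM : ∀ v, adj K (f.M v) * f.M v = 1)
include hM

theorem adj_M (v : V) : adj K (f.M v) = sg F (cyc v v) • f.M v := by
  have h := congrArg (· * f.M v) (hM v)
  simp only [Matrix.mul_assoc, f.M_sq, Matrix.mul_smul, Matrix.mul_one, Matrix.one_mul] at h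
  conv_rhs => rw [← h]
  rw [smul_smul, sg_self, one_smul]

theorem adj_lin (x : V → ℤ) : adj K (f.lin x) = f.lin (star' x) := by
  rw [Frame.lin, Frame.lin, adj_sum]
  refine Finset.sum_congr rfl fun v _ => ?_
  rw [adj_smul, adj_M K hM, map_intCast, smul_smul]
  congr 1
  simp only [star', Int.cast_mul, sg_cast]
  ring

variable (h2 : (2 : F) ≠ 0)
include h2

theorem unit_y3 : adj K f.y3 * f.y3 = 1 := by
  have h1 : ∀ v, conv (star' e3) e3 v = 4 * single 0 v := by decide +kernel
  rw [Frame.y3, adj_smul, adj_lin K hM, map_inv₀, map_ofNat, smul_mul_assoc, mul_smul_comm, smul_smul, f.lin_mul,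
    f.lin_one 4 h1, smul_smul]
  push_cast
  rw [show ((2 : F)⁻¹ * 2⁻¹ * 4) = 1 by field_simp; norm_num, one_smul]

theorem unit_y5 : adj K f.y5 * f.y5 = 1 := by
  have h1 : ∀ v, conv (star' e5) e5 v = 16 * single 0 v := by decide +kernel
  rw [Frame.y5, adj_smul, adj_lin K hM, map_inv₀, map_mul, map_ofNat, smul_mul_assoc, mul_smul_comm, smul_smul,
    f.lin_mul, f.lin_one 16 h1, smul_smul]
  push_cast
  rw [show ((2 : F) * 2)⁻¹ * (2 * 2)⁻¹ * 16 = 1 by field_simp; norm_num, one_smul]

variable {i : F} (hii : i * i = -1) (hib : K.bar i = -i)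
include hii hib

theorem unit_cz : adj K (f.cz i) * f.cz i = 1 := by
  have h1 : ∀ v, star' z1 v = 1 * z1 v := by decide +kernel
  have h2' : ∀ v, star' z2 v = -1 * z2 v := by decide +kernel
  have e : adj K (f.cz i) = f.cz i := by
    rw [Frame.cz, adj_smul, adj_add, adj_smul, adj_lin K hM, adj_lin K hM, map_inv₀, map_ofNat, hib,
      f.lin_eq 1 h1, f.lin_eq (-1) h2', Int.cast_one, one_smul, Int.cast_neg, Int.cast_one, neg_one_smul, smul_neg,
      neg_smul, neg_neg]
  rw [e, f.cz_sq h2 hii]

theorem unit_y33 : adj K (f.y33 i) * f.y33 i = 1 := by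
  obtain ⟨w2, hw2⟩ : ∃ w2 : V → ℤ, w2 = fun v => -1 * star' u2 v := ⟨_, rfl⟩
  have h1 : ∀ v, conv (star' u1) u1 v + -1 * conv (fun v => -1 * star' u2 v) u2 v = 16 * single 0 v := by decide +kernel
  have h1' : ∀ v, conv (star' u1) u2 v + conv (fun v => -1 * star' u2 v) u1 v = 16 * (0 * single 0 v) := by
    decide +kernel
  have e : adj K (f.y33 i) = ((2 : F) * 2)⁻¹ • (f.lin (star' u1) + i • f.lin w2) := by
    rw [Frame.y33, adj_smul, adj_add, adj_smul, adj_lin K hM, adj_lin K hM, map_inv₀, map_mul, map_ofNat, hib, hw2,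
      f.lin_smul, Int.cast_neg, Int.cast_one, neg_one_smul, smul_neg, neg_smul]
  rw [e, Frame.y33, smul_mul_assoc, mul_smul_comm, smul_smul, hw2, f.lin2_mul hii 16 h1 h1',
    f.lin_one 0 (fun _ => rfl), f.lin_single, f.M_zero]
  simp only [smul_smul, Int.cast_zero, zero_smul, smul_zero, add_zero]
  push_cast
  rw [show ((2 : F) * 2)⁻¹ * (2 * 2)⁻¹ * 16 = 1 by field_simp; norm_num, one_smul]

end adjoint

variable [Fintype F] {p : ℕ} [Fact p.Prime] [CharP F p]

theorem exists_unit_of_dvd {r : ℕ} [Fact r.Prime] (h : r ∣ Fintype.card F - 1) :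
    ∃ w : F, w ^ r = 1 ∧ w ≠ 1 := by
  classical
  have hd : r ∣ Nat.card Fˣ := by rwa [Nat.card_eq_fintype_card, Fintype.card_units]
  obtain ⟨w, hw⟩ := exists_prime_orderOf_dvd_card' r hd
  refine ⟨w, ?_, fun e => ?_⟩
  · have := pow_orderOf_eq_one w
    rw [hw] at this
    simpa using congrArg Units.val this
  · rw [show w = 1 from Units.ext e, orderOf_one] at hw
    exact (Fact.out : r.Prime).ne_one hw.symm

theorem sq_card_mod (hodd : p % 2 = 1) : p ^ 2 % 8 = 1 := by
  rw [Nat.pow_mod]
  have : p % 8 = 1 ∨ p % 8 = 3 ∨ p % 8 = 5 ∨ p % 8 = 7 := by omega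
  rcases this with e | e | e | e <;> rw [e]

set_option maxHeartbeats 1600000 in
/-- The statement. -/
theorem unitary_iff (hF : Fintype.card F = p ^ 2) (hp4 : p % 4 = 3) (R : Subgroup (GL (Fin 4) F))
    (hs : IsSymplecticTypeGroup 2 R) (habs : ActsAbsolutelyIrreducibly (matrixSet R)) (hRU : R ≤ Cfsg.GU 4 F p)
    (hR6 : Nat.card R = 2 ^ 6) (hZ : Nat.card (Subgroup.center R) = 4) (r : ℕ) [Fact r.Prime]
    (hΩ : r ∣ (subgroupNormalizer R).relIndex (Cfsg.GU 4 F p ⊓ specialLinear (Fin 4) F)) :
    (∀ x ∈ Cfsg.GU 4 F p ⊓ specialLinear (Fin 4) F, (∃ z : F, ((x ^ r : GL (Fin 4) F) : Matrix (Fin 4) (Fin 4) F) = z • 1) →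
      (∀ z : F, (x : Matrix (Fin 4) (Fin 4) F) ≠ z • 1) →
      ∃ g ∈ Cfsg.GU 4 F p ⊓ specialLinear (Fin 4) F, g⁻¹ * x * g ∈ subgroupNormalizer R) ↔
    (r = 2 ∨ (r = 3 ∧ p % 3 = 1) ∨ (r = 5 ∧ orderOf (p : ZMod 5) = 4)) := by
  classical
  have hrp : r.Prime := Fact.out
  have hpp : p.Prime := Fact.out
  have hp3 : 3 ≤ p := by omega
  have h2 : (2 : F) ≠ 0 := by exact_mod_cast small_ne_zero (F := F) (k := 2) (p := p) (by norm_num) (by omega)
  have h4F : (4 : F) ≠ 0 := by rw [show (4 : F) = 2 * 2 by norm_num]; exact mul_ne_zero h2 h2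
  have h4 : Fintype.card (Fin 4) = 4 := Fintype.card_fin 4
  obtain ⟨K⟩ := Unitary.exists_conj (F := F) (p := p) (f := 1) (q := p) (pow_one p).symm
    (by rw [Nat.card_eq_fintype_card, hF])
  obtain ⟨⟨f, hf⟩, hneg, hi⟩ := exists_spans h2 h4 hs habs (z := 4) (by rw [hR6]; norm_num) hZ (Or.inl rfl)
  obtain ⟨i, hii, him⟩ := hi rfl
  have hM : ∀ v, adj K (f.M v) * f.M v = 1 := fun v => by
    obtain ⟨g, hg, hg'⟩ := hf.mem_M v
    exact hg' ▸ (mem_GU K).1 (hRU hg)
  have hone : (1 : F) • (1 : Matrix (Fin 4) (Fin 4) F) ∈ matrixSet R := by rw [one_smul]; exact mem_one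
  have hm1 : (-1 : F) • (1 : Matrix (Fin 4) (Fin 4) F) ∈ matrixSet R := by rw [neg_one_smul]; exact hneg
  have hbar : ∀ {c : F} {n : ℕ}, c ^ n = 1 → ∀ k, p % n = k → K.bar c = c ^ k := by
    intro c n hc k hk
    rw [K.bar_apply, ← hk]
    conv_lhs => rw [← Nat.mod_add_div p n, pow_add, pow_mul, hc, one_pow, mul_one]
  have hib : K.bar i = -i := by
    rw [hbar (n := 4) (by rw [show (4 : ℕ) = 2 + 2 from rfl, pow_add, pow_two, hii]; ring) 3 hp4,
      pow_succ, pow_two, hii, neg_one_mul]
  have sinj : ∀ {s t : F}, s • (1 : Matrix (Fin 4) (Fin 4) F) = t • 1 → s = t := fun {s t} e => by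
    simpa using congrFun₂ e 0 0
  constructor
  · -- necessity
    intro hall
    by_contra hc
    push Not at hc
    obtain ⟨hr2, hr3, hr5⟩ := hc
    have hro : Odd r := hrp.odd_of_ne_two hr2
    have bad : ∀ {κ : Type} [Fintype κ] (X : Matrix (Fin 4) (Fin 4) F) (fam : κ → Matrix (Fin 4) (Fin 4) F),
        adj K X * X = 1 → X.det = 1 → X ^ r = 1 → (∀ z : F, X ≠ z • 1) → LinearIndependent F fam →
        (∀ k, X * fam k = fam k * X) →
        (∀ n t : ℕ, n ∈ [1, 2, 4, 8] → n + r * t = 16 → n + t < Fintype.card κ) → False := by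
      intro κ _ X fam hu hd hpow hns hli hcomm hb
      obtain ⟨x, hxm, hx⟩ := exists_T K hu hd
      obtain ⟨g, -, hg⟩ := hall x hxm ⟨1, by rw [Units.val_pow_eq_pow_val, hx, hpow, one_smul]⟩ (hx ▸ hns)
      exact not_conj_of_commutant h2 h4 hf hneg hrp hro ⟨1, by rw [Units.val_pow_eq_pow_val, hx, hpow, one_smul]⟩
        (hx ▸ hns) hg hli (hx ▸ hcomm) hb
    rcases Nat.lt_or_ge r 7 with hlt | h7
    · have hcases : r = 3 ∨ r = 5 := by
        have := hrp.two_le
        interval_cases r <;> first | omega | exact absurd hrp (by norm_num)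
      rcases hcases with rfl | rfl
      · by_cases hp33 : p = 3
        · subst hp33
          have h30 : (3 : F) = 0 := by exact_mod_cast CharP.cast_eq_zero F 3
          obtain ⟨α, hα⟩ := K.exists_norm (-1) (by rw [map_neg, map_one])
          obtain ⟨U, hU⟩ : ∃ U : Fin 3 → Fin 4 → F, U = ![![1, α, 0, 0], ![0, 0, 1, 0], ![0, 0, 0, 1]] := ⟨_, rfl⟩
          obtain ⟨N, hN⟩ : ∃ N, N = Matrix.vecMulVec (U 0) fun j => K.bar (U 0 j) := ⟨_, rfl⟩
          have hdot : ∀ s, (fun j => K.bar (U 0 j)) ⬝ᵥ U s = 0 ∧ (fun j => K.bar (U s j)) ⬝ᵥ U 0 = 0 := by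
            intro s
            rw [hU]
            fin_cases s <;> simp [dotProduct, Fin.sum_univ_four]
            all_goals linear_combination hα
          have hNN : N * N = 0 := by
            rw [hN, Matrix.vecMulVec_mul_vecMulVec, (hdot 0).1, zero_smul]; simp
          have hNa : adj K N = N := by rw [hN, adj_vecMulVec]
          obtain ⟨T, hT⟩ : ∃ T, T = 1 + i • N := ⟨_, rfl⟩
          have hT3 : T ^ 3 = 1 := by
            rw [hT, pow_succ, pow_two]
            simp only [Matrix.add_mul, Matrix.mul_add, Matrix.one_mul, Matrix.mul_one, Matrix.smul_mul, Matrix.mul_smul,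
              hNN, smul_zero, add_zero]
            rw [add_assoc, add_assoc, add_eq_left, ← add_smul, ← add_smul,
              show i + (i + i) = 3 * i by ring, h30, zero_mul, zero_smul]
          refine bad T (fun k : Fin 3 × Fin 3 => Matrix.vecMulVec (U k.1) fun j => K.bar (U k.2 j)) ?_ ?_ hT3 ?_ ?_ ?_ ?_
          · rw [hT, adj_add, adj_one, adj_smul, hib, hNa, neg_smul, ← sub_eq_add_neg, sub_mul, one_mul, mul_add, mul_one,
              smul_mul_assoc, mul_smul_comm, hNN, smul_zero, smul_zero, add_zero, add_sub_cancel_right]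
          · have h := congrArg Matrix.det hT3
            rw [Matrix.det_pow, Matrix.det_one] at h
            have : (T.det - 1) ^ 3 = 0 := by linear_combination h + (T.det - T.det ^ 2) * h30
            exact sub_eq_zero.1 (eq_zero_of_pow_eq_zero this)
          · intro z e
            have := congrFun₂ e 0 1
            rw [hT, hN, hU] at this
            simp [Matrix.vecMulVec] at this
            rcases this with e' | e'
            · rw [e', mul_zero] at hii; simp at hii
            · rw [e', zero_mul] at hα; simp at hα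
          · rw [Fintype.linearIndependent_iff]
            intro c hc k
            have hev : ∀ s s' : Fin 3, U s ((![0, 2, 3] : Fin 3 → Fin 4) s') = if s = s' then 1 else 0 := by
              intro s s'; rw [hU]; fin_cases s <;> fin_cases s' <;> simp
            have := congrFun₂ hc ((![0, 2, 3] : Fin 3 → Fin 4) k.1) ((![0, 2, 3] : Fin 3 → Fin 4) k.2)
            rw [Matrix.sum_apply, Finset.sum_eq_single k (fun l _ hl => by
              rw [Matrix.smul_apply, Matrix.vecMulVec_apply, hev, hev]
              rcases Decidable.em (l.1 = k.1) with a | a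
              · rw [if_neg (show l.2 ≠ k.2 from fun b => hl (Prod.ext a b))]; simp
              · rw [if_neg a]; simp) (by simp), Matrix.smul_apply, Matrix.vecMulVec_apply, hev, hev] at this
            simpa using this
          · intro k
            rw [hT, Matrix.add_mul, Matrix.mul_add, Matrix.one_mul, Matrix.mul_one]
            congr 1
            rw [hN, Matrix.smul_mul, Matrix.mul_smul, Matrix.vecMulVec_mul_vecMulVec, Matrix.vecMulVec_mul_vecMulVec,
              (hdot k.1).1, (hdot k.2).2, zero_smul, zero_smul]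
            simp
          · intro n t hn ht
            simp only [List.mem_cons, List.not_mem_nil, or_false] at hn
            simp only [Fintype.card_prod, Fintype.card_fin]
            omega
        · have hp32 : p % 3 = 2 := by
            have h30 : ¬ 3 ∣ p := fun h => hp33 ((Nat.prime_dvd_prime_iff_eq (by norm_num) hpp).1 h).symm
            have := hr3 rfl
            omega
          obtain ⟨w, hw3, hw1⟩ := exists_unit_of_dvd (F := F) (r := 3) (by
            rw [hF]
            refine (Nat.modEq_iff_dvd' (Nat.one_le_pow _ _ hpp.pos)).1 ?_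
            show 1 % 3 = p ^ 2 % 3
            rw [Nat.pow_mod, hp32])
          have hwb : K.bar w = w ^ 2 := hbar hw3 2 hp32
          refine bad (Matrix.diagonal ![1, w, w, w])
            (fun k : Fin 3 × Fin 3 => Matrix.single k.1.succ k.2.succ (1 : F)) ?_ ?_ ?_ ?_ ?_ ?_ ?_
          · rw [adj_diagonal, Matrix.diagonal_mul_diagonal, ← Matrix.diagonal_one]
            congr 1
            ext j
            fin_cases j <;> simp [hwb] <;> linear_combination hw3
          · simp [Matrix.det_diagonal, Fin.prod_univ_four]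
            linear_combination hw3
          · rw [Matrix.diagonal_pow, ← Matrix.diagonal_one]
            congr 1
            ext j
            fin_cases j <;> simp [hw3]
          · intro z e
            have h0 := congrFun₂ e 0 0
            have h1 := congrFun₂ e 1 1
            simp at h0 h1
            exact hw1 (h1.trans h0.symm)
          · rw [Fintype.linearIndependent_iff]
            intro c hc k
            have := congrFun₂ hc k.1.succ k.2.succ
            rw [Matrix.sum_apply, Finset.sum_eq_single k (fun l _ hl => by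
              rw [Matrix.smul_apply, Matrix.single_apply, if_neg, smul_zero]
              rintro ⟨a, b⟩
              exact hl (Prod.ext (Fin.succ_injective _ a) (Fin.succ_injective _ b))) (by simp)] at this
            simpa using this
          · rintro ⟨a, b⟩
            ext j l
            fin_cases a <;> fin_cases b <;> fin_cases j <;> fin_cases l <;>
              simp [Matrix.diagonal_mul, Matrix.mul_diagonal, Matrix.single_apply]
          · intro n t hn ht
            simp only [List.mem_cons, List.not_mem_nil, or_false] at hn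
            simp only [Fintype.card_prod, Fintype.card_fin]
            omega
      · have h5 := five_mod_cases (hr5 rfl)
        have h50 : p % 5 ≠ 0 := fun h => by
          have := (Nat.prime_dvd_prime_iff_eq (by norm_num) hpp).1 (Nat.dvd_of_mod_eq_zero h)
          omega
        haveI : Fact (Nat.Prime 5) := ⟨by norm_num⟩
        obtain ⟨w, hw5, hw1⟩ := exists_unit_of_dvd (F := F) (r := 5) (by
          rw [hF]
          refine (Nat.modEq_iff_dvd' (Nat.one_le_pow _ _ hpp.pos)).1 ?_
          show 1 % 5 = p ^ 2 % 5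
          rw [Nat.pow_mod]
          rcases h5 with h | h | h
          · exact absurd h h50
          all_goals rw [h])
        obtain ⟨s, hsdef⟩ : ∃ s, s = w + w ^ 4 := ⟨_, rfl⟩
        have hs5 : s * s + s - 1 = 0 := by
          have : (w - 1) * (w ^ 4 + w ^ 3 + w ^ 2 + w + 1) = 0 := by linear_combination hw5
          have h' := (mul_eq_zero.1 this).resolve_left (sub_ne_zero.2 hw1)
          rw [hsdef]; linear_combination h' + (2 + w ^ 3) * hw5
        have hsb : K.bar s = s := by
          rw [hsdef, map_add, map_pow]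
          rcases h5 with h | h | h
          · exact absurd h h50
          · rw [hbar hw5 1 h, pow_one]
          · rw [hbar hw5 4 h, ← pow_mul]
            linear_combination (w ^ 11 + w ^ 6 + w) * hw5
        obtain ⟨b, hb⟩ := K.exists_norm (1 - s * s / 4) (by rw [map_sub, map_one, map_div₀, map_mul, hsb, map_ofNat])
        have h54 : (5 : F) ≠ 0 := fun e => h50 (Nat.mod_eq_zero_of_dvd
          ((CharP.cast_eq_zero_iff F p 5).1 (by exact_mod_cast e)) |> fun _ => by
            have := (CharP.cast_eq_zero_iff F p 5).1 (by exact_mod_cast e)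
            rw [(Nat.prime_dvd_prime_iff_eq hpp (by norm_num)).1 this])
        have hb0 : b ≠ 0 := fun e => by
          rw [e, zero_mul] at hb
          field_simp at hb
          exact h54 (by first
            | linear_combination (2 - s) * hb + (3 - s) * hs5
            | linear_combination (s - 2) * hb + (3 - s) * hs5)
        have hb2 : K.bar (2 : F) = 2 := map_ofNat _ _
        obtain ⟨A, hA⟩ : ∃ A : Matrix (Fin 2) (Fin 2) F, A = !![s / 2, b; -K.bar b, s / 2] := ⟨_, rfl⟩
        have hAu : adj K A * A = 1 := by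
          ext u v
          fin_cases u <;> fin_cases v <;>
            simp [hA, adj, Matrix.mul_apply, Fin.sum_univ_two, map_div₀, hsb, hb2, K.bar_bar] <;>
            field_simp at hb ⊢ <;>
            first | linear_combination hb | linear_combination (0 : F) * hb
        have hAd : A.det = 1 := by
          rw [hA]
          simp [Matrix.det_fin_two]
          field_simp at hb ⊢
          linear_combination hb
        have hA2 : A * A = s • A - 1 := by
          ext u v
          fin_cases u <;> fin_cases v <;>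
            simp [hA, Matrix.mul_apply, Fin.sum_univ_two] <;>
            field_simp at hb ⊢ <;>
            first | linear_combination hb | linear_combination -hb | linear_combination (0 : F) * hb
        have hA5 : A ^ 5 = 1 := by
          rw [show A ^ 5 = A * A * (A * A) * A by simp [pow_succ, Matrix.mul_assoc], hA2]
          simp only [Matrix.sub_mul, Matrix.mul_sub, Matrix.smul_mul, Matrix.mul_smul, Matrix.one_mul, Matrix.mul_one,
            smul_sub, smul_smul, hA2]
          match_scalars <;> first
            | linear_combination (s * s - s - 1) * hs5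
            | linear_combination (-s + 1) * hs5
            | linear_combination (s - 1) * hs5
        have hAns : ∀ z : F, A ≠ z • 1 := fun z e => hb0 (by
          have := congrFun₂ e 0 1
          simpa [hA] using this)
        refine bad (dbl finProdFinEquiv A) (dblFam finProdFinEquiv A) ?_ ?_ ?_ (dbl_ne_scalar _ hAns)
          (dblFam_indep _ hAns) (dblFam_comm _ A) ?_
        · rw [adj_dbl, ← dbl_mul, hAu, dbl_one]
        · rw [dbl_det, hAd, one_mul]
        · rw [dbl_pow, hA5, dbl_one]
        · intro n t hn ht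
          simp only [List.mem_cons, List.not_mem_nil, or_false] at hn
          simp only [Fintype.card_prod, Fintype.card_fin]
          omega
    · haveI : Finite (GL (Fin 4) F) := Finite.of_injective _ Units.val_injective
      obtain ⟨T, hT⟩ : ∃ T, T = Cfsg.GU 4 F p ⊓ specialLinear (Fin 4) F := ⟨_, rfl⟩
      rw [← hT] at hΩ hall
      have hd : r ∣ Nat.card T := hΩ.trans (Subgroup.relIndex_dvd_card _ _)
      obtain ⟨x, hx⟩ := exists_prime_orderOf_dvd_card' r hd
      have hxr : ((x : GL (Fin 4) F) : Matrix (Fin 4) (Fin 4) F) ^ r = 1 := by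
        have := pow_orderOf_eq_one x
        rw [hx] at this
        simpa using congrArg (fun u : T => ((u : GL (Fin 4) F) : Matrix (Fin 4) (Fin 4) F)) this
      have hns : ∀ z : F, ((x : GL (Fin 4) F) : Matrix (Fin 4) (Fin 4) F) ≠ z • 1 := by
        intro z e
        have hd1 := ((mem_T K).1 (hT ▸ x.2 : (x : GL (Fin 4) F) ∈ Cfsg.GU 4 F p ⊓ specialLinear (Fin 4) F)).2
        rw [e, Matrix.det_smul, Matrix.det_one, mul_one, Fintype.card_fin] at hd1
        rw [e, smul_pow, one_pow] at hxr
        have hzr : z ^ r = 1 := by simpa using congrFun₂ hxr 0 0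
        have hz1 := pow_gcd_eq_one.2 ⟨hd1, hzr⟩
        rw [Nat.Coprime.gcd_eq_one ((Nat.coprime_primes Nat.prime_two hrp).2 (by omega) |>.pow_left 2), pow_one] at hz1
        rw [hz1, one_smul] at e
        have : x = 1 := Subtype.ext (Units.ext e)
        rw [this, orderOf_one] at hx
        exact hrp.ne_one hx.symm
      obtain ⟨g, -, hg⟩ := hall x x.2 ⟨1, by rw [Units.val_pow_eq_pow_val, hxr, one_smul]⟩ hns
      obtain ⟨z, hz⟩ := scalar_of_large h2 h4 hf hneg hrp h7
        ⟨1, conj_pow_scalar (by rw [Units.val_pow_eq_pow_val, hxr, one_smul])⟩ hg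
      exact hns z (scalar_of_conj hz)
  · -- sufficiency
    intro hr x hx hxr hns
    obtain ⟨hxu, hdx⟩ := (mem_T K).1 hx
    obtain ⟨z, hz⟩ := hxr
    rw [Units.val_pow_eq_pow_val] at hz
    obtain ⟨X₀, hX₀⟩ : ∃ X₀, X₀ = (x : Matrix (Fin 4) (Fin 4) F) := ⟨_, rfl⟩
    rw [← hX₀] at hz hxu hdx
    have hz4 : z ^ 4 = 1 := by
      have := congrArg Matrix.det hz
      rw [Matrix.det_pow, hdx, one_pow, Matrix.det_smul, Matrix.det_one, mul_one, Fintype.card_fin] at this
      exact this.symm
    have hz0 : z ≠ 0 := fun e => by simp [e] at hz4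
    have hnorm4 : ∀ c : F, c ^ 4 = 1 → c * K.bar c = 1 := fun c hc => by
      rw [hbar hc 3 hp4, ← pow_succ', hc]
    have fin : ∀ {μ : F} {Y : Matrix (Fin 4) (Fin 4) F} {n : ℕ}, n ≠ 0 → Y ^ n = 1 →
        (∀ W, W = f.a ∨ W = f.b ∨ W = f.c ∨ W = f.d →
          ∃ (v : V) (s : F), s • (1 : Matrix (Fin 4) (Fin 4) F) ∈ matrixSet R ∧ Y * W = s • (f.M v * Y)) →
        μ ≠ 0 → (∃ g ∈ Cfsg.GU 4 F p ⊓ specialLinear (Fin 4) F, (μ⁻¹ • X₀) * (g : Matrix (Fin 4) (Fin 4) F) = g * Y) →
          ∃ g ∈ Cfsg.GU 4 F p ⊓ specialLinear (Fin 4) F, g⁻¹ * x * g ∈ subgroupNormalizer R := by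
      rintro μ Y n hn hY himg hμ ⟨g, hg, hgY⟩
      let y : GL (Fin 4) F := Matrix.GeneralLinearGroup.mkOfDetNeZero Y (fun h0 => by
        have := congrArg Matrix.det hY
        rw [Matrix.det_pow, h0, zero_pow hn, Matrix.det_one] at this
        exact zero_ne_one this)
      refine ⟨g, hg, exists_conj_mem (μ := μ) (X := μ⁻¹ • X₀) (Y := Y) (y := y) ?_ rfl ?_ hgY⟩
      · rw [smul_smul, mul_inv_cancel₀ hμ, one_smul, hX₀]
      · exact hf.mem_normalizer hneg himg
    have notone : ∀ {μ : F}, μ ≠ 0 → μ⁻¹ • X₀ ≠ 1 := by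
      intro μ hμ e
      refine hns μ ?_
      rw [← hX₀, ← e, smul_smul, mul_inv_cancel₀ hμ, one_smul]
    have oddroot : Odd r → ∃ μ : F, μ ≠ 0 ∧ μ ^ r = z ∧ μ * K.bar μ = 1 := by
      intro ho
      refine ⟨z ^ r, pow_ne_zero _ hz0, ?_, hnorm4 _ (by rw [← pow_mul, mul_comm, pow_mul, hz4, one_pow])⟩
      obtain ⟨m, rfl⟩ := ho
      rw [← pow_mul, show (2 * m + 1) * (2 * m + 1) = 4 * (m * m + m) + 1 by ring, pow_succ, pow_mul, hz4, one_pow,
        one_mul]
    have unitX : ∀ {μ : F}, μ * K.bar μ = 1 → adj K (μ⁻¹ • X₀) * (μ⁻¹ • X₀) = 1 := fun {μ} hμ => by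
      rw [adj_smul, smul_mul_assoc, mul_smul_comm, smul_smul, hxu, map_inv₀, ← mul_inv, mul_comm, hμ, inv_one, one_smul]
    rcases hr with rfl | ⟨rfl, hp31⟩ | ⟨rfl, hord⟩
    · -- involutions
      obtain ⟨μ, hμ⟩ : IsSquare z := by
        refine (FiniteField.isSquare_iff (fun e => by rw [ringChar.eq F p] at e; omega) hz0).2 ?_
        obtain ⟨m, hm⟩ : ∃ m, Fintype.card F = 8 * m + 1 :=
          ⟨Fintype.card F / 8, by rw [hF]; have := sq_card_mod (p := p) (by omega); omega⟩
        rw [show Fintype.card F / 2 = 4 * m by omega, pow_mul, hz4, one_pow]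
      have hμ0 : μ ≠ 0 := fun e => hz0 (by rw [hμ, e, mul_zero])
      obtain ⟨X, hXdef⟩ : ∃ X, X = μ⁻¹ • X₀ := ⟨_, rfl⟩
      have hX2 : X * X = 1 := by
        rw [hXdef, smul_mul_assoc, mul_smul_comm, smul_smul, ← pow_two X₀, hz, smul_smul, hμ, ← mul_inv,
          inv_mul_cancel₀ (mul_ne_zero hμ0 hμ0), one_smul]
      have hN : μ * K.bar μ = 1 := by
        have hNN : (μ * K.bar μ) * (μ * K.bar μ) = 1 := by
          have := hnorm4 z hz4
          rw [hμ, map_mul] at this
          linear_combination this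
        refine (mul_self_eq_one_iff.1 hNN).resolve_right fun hN' => ?_
        have hadjX : adj K X * X = (-1 : F) • 1 := by
          rw [hXdef, adj_smul, smul_mul_assoc, mul_smul_comm, smul_smul, hxu, map_inv₀, ← mul_inv, mul_comm, hN',
            inv_neg, inv_one]
        have hadj : adj K X = (-1 : F) • X := by
          have := congrArg (· * X) hadjX
          simpa [Matrix.mul_assoc, hX2] using this
        obtain ⟨b, k, hk4, hb, htr⟩ := exists_signs h2 h4 hX2
        have htr0 : X.trace = 0 := by
          have h := congrArg Matrix.trace hadj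
          rw [trace_adj, Matrix.trace_smul, htr] at h
          simp only [map_sub, map_mul, map_ofNat, map_natCast, smul_eq_mul] at h
          rw [htr]
          exact (mul_eq_zero.1 (by linear_combination h : (2 : F) * (2 * (k : F) - 4) = 0)).resolve_left h2
        have hk2 : k = 2 := by
          rw [htr] at htr0
          have e : (k : F) = (2 : ℕ) := by
            push_cast
            exact mul_left_cancel₀ h2 (by linear_combination htr0)
          by_contra hne
          rcases Nat.lt_or_gt_of_ne hne with h | h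
          · exact small_ne_zero (F := F) (p := p) (k := 2 - k) (by omega) (by omega)
              (by rw [Nat.cast_sub h.le, e, sub_self])
          · exact small_ne_zero (F := F) (p := p) (k := k - 2) (by omega) (by omega)
              (by rw [Nat.cast_sub h.le, e, sub_self])
        subst hk2
        have hd := detMat hb
        rw [hXdef, Matrix.det_smul, hdx, mul_one, Fintype.card_fin, signs, Matrix.det_diagonal, Fin.prod_univ_four] at hd
        simp at hd
        have := hnorm4 μ hd
        rw [hN'] at this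
        exact h2 (by linear_combination -this)
      have hXu : adj K X * X = 1 := hXdef ▸ unitX hN
      obtain ⟨k, B, hk4, hB, hXB⟩ := exists_signs_unit K h2 hXu hX2
      have hk : k = 1 ∨ k = 2 ∨ k = 3 := by
        have hext : ∀ c : F, (∀ j : Fin 4, (if j.1 < k then (1 : F) else -1) = c) → False := by
          intro c hcc
          rw [show (fun j : Fin 4 => if j.1 < k then (1 : F) else -1) = fun _ => c from funext hcc] at hXB
          have e : X = c • 1 := by
            have hu : IsUnit B.det := isUnit_iff_ne_zero.2 (det_ne_of_gram K hB (by rw [Matrix.det_one]; exact one_ne_zero))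
            have h' := congrArg (· * B⁻¹) hXB
            simpa [← Matrix.smul_one_eq_diagonal, Matrix.mul_assoc, Matrix.mul_nonsing_inv _ hu] using h'
          refine hns (μ * c) ?_
          rw [← hX₀, mul_smul, ← e, hXdef, smul_smul, mul_inv_cancel₀ hμ0, one_smul]
        rcases Nat.eq_zero_or_pos k with rfl | hk0
        · exact (hext (-1) fun j => by simp).elim
        rcases eq_or_lt_of_le hk4 with rfl | hlt
        · exact (hext 1 fun j => by simp).elim
        omega
      have trd : ∀ l, l ≤ 4 → (Matrix.diagonal fun j : Fin 4 => if j.1 < l then (1 : F) else -1).trace = 2 * (l : F) - 4 := by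
        intro l hl
        rw [Matrix.trace_diagonal, Fin.sum_univ_four]
        interval_cases l <;> simp <;> ring
      have cand : ∀ (Y : Matrix (Fin 4) (Fin 4) F), Y * Y = 1 → adj K Y * Y = 1 → (∀ c : F, Y ≠ c • 1) → Y.trace = 2 * (k : F) - 4 →
          ∃ g ∈ Cfsg.GU 4 F p ⊓ specialLinear (Fin 4) F, X * (g : Matrix (Fin 4) (Fin 4) F) = g * Y := by
        intro Y hY hYu hYn hYt
        obtain ⟨l, C, hl4, hC, hYC⟩ := exists_signs_unit K h2 hYu hY
        have hd1 : (1 : Matrix (Fin 4) (Fin 4) F).det ≠ 0 := by rw [Matrix.det_one]; exact one_ne_zero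
        have hlt := (conj_facts (det_ne_of_gram K hC hd1) hYC).2
        rw [hYt, trd l hl4] at hlt
        have hl0 : l ≠ 0 ∧ l ≠ 4 := by
          have hext : ∀ c : F, (∀ j : Fin 4, (if j.1 < l then (1 : F) else -1) = c) → False := by
            intro c hcc
            rw [show (fun j : Fin 4 => if j.1 < l then (1 : F) else -1) = fun _ => c from funext hcc] at hYC
            have hu : IsUnit C.det := isUnit_iff_ne_zero.2 (det_ne_of_gram K hC hd1)
            have h' := congrArg (· * C⁻¹) hYC
            exact hYn c (by simpa [← Matrix.smul_one_eq_diagonal, Matrix.mul_assoc, Matrix.mul_nonsing_inv _ hu] using h')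
          exact ⟨fun e => hext (-1) fun j => by simp [e], fun e => hext 1 fun j => by simp [e]⟩
        have hkl : k = l := by
          have e : (k : F) = (l : F) := mul_left_cancel₀ h2 (by linear_combination hlt)
          by_contra hne
          rcases Nat.lt_or_gt_of_ne hne with h | h
          · exact small_ne_zero (F := F) (p := p) (k := l - k) (by omega) (by omega)
              (by rw [Nat.cast_sub h.le, e, sub_self])
          · exact small_ne_zero (F := F) (p := p) (k := k - l) (by omega) (by omega)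
              (by rw [Nat.cast_sub h.le, e, sub_self])
        subst hkl
        exact conj_special K hB hC hd1 hXB hYC fun lam _ => provider_one K _ lam
      obtain ⟨ca, cb, cc', cd⟩ := f.cz_gens h2 hii
      have czn : ∀ c : F, f.cz i ≠ c • 1 := fun c e => by
        have hc0 : c ≠ 0 := fun hc => by
          have := f.cz_sq h2 hii
          rw [e, hc, zero_smul, zero_mul] at this
          exact zero_ne_one this
        rw [e, smul_mul_assoc, one_mul, mul_smul_comm, mul_one, f.d_eq] at cd
        exact absurd (f.coord_unique h2 h4 hc0 cd).1 (fun h => zero_ne_one (congrArg Prod.fst h))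
      have an : ∀ c : F, f.a ≠ c • 1 := fun c e => by
        rw [f.a_eq, ← one_smul F (f.M _), ← f.M_zero] at e
        exact one_ne_zero (congrArg Prod.fst (f.coord_unique h2 h4 one_ne_zero e).1)
      have czu := unit_cz K hM h2 hii hib
      rcases hk with rfl | rfl | rfl
      · have hg := cand (-f.cz i) (by rw [neg_mul_neg, f.cz_sq h2 hii])
          (by rw [show -f.cz i = (-1 : F) • f.cz i by rw [neg_one_smul], adj_smul, smul_mul_assoc, mul_smul_comm, smul_smul, czu,
            map_neg, map_one, neg_mul_neg, one_mul, one_smul])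
          (fun c e => czn (-c) (by rw [neg_smul, ← e, neg_neg]))
          (by rw [Matrix.trace_neg, f.trace_cz h2 hii h4]; norm_num)
        refine fin (n := 2) two_ne_zero (by rw [pow_two, neg_mul_neg, f.cz_sq h2 hii]) ?_ hμ0 (hXdef ▸ hg)
        rintro W (rfl | rfl | rfl | rfl)
        · exact ⟨(1, 0, 0, 0), 1, hone, by rw [neg_mul, ca, one_smul, ← f.a_eq, mul_neg]⟩
        · exact ⟨(0, 1, 1, 0), i, him, by rw [neg_mul, cb, mul_neg, smul_neg]⟩
        · exact ⟨(0, 0, 1, 0), 1, hone, by rw [neg_mul, cc', one_smul, ← f.c_eq, mul_neg]⟩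
        · exact ⟨(1, 0, 0, 1), 1, hone, by rw [neg_mul, cd, one_smul, mul_neg]⟩
      · have hg := cand f.a f.aa (f.a_eq ▸ hM _) an (by
          rw [f.a_eq, f.trace_M h2 (fun h => one_ne_zero (congrArg Prod.fst h))]; norm_num)
        refine fin (n := 2) two_ne_zero (by rw [pow_two, f.aa]) ?_ hμ0 (hXdef ▸ hg)
        have key : ∀ v, f.a * f.M v = sg F (om (1, 0, 0, 0) v) • (f.M v * f.a) := fun v => by
          rw [f.a_eq]; exact f.M_comm _ _
        rintro W (rfl | rfl | rfl | rfl)
        · exact ⟨_, _, sg_mem hneg _, by rw [← key, ← f.a_eq]⟩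
        · exact ⟨_, _, sg_mem hneg _, by rw [← key, ← f.b_eq]⟩
        · exact ⟨_, _, sg_mem hneg _, by rw [← key, ← f.c_eq]⟩
        · exact ⟨_, _, sg_mem hneg _, by rw [← key, ← f.d_eq]⟩
      · have hg := cand (f.cz i) (f.cz_sq h2 hii) czu czn (by rw [f.trace_cz h2 hii h4]; norm_num)
        refine fin (n := 2) two_ne_zero (by rw [pow_two, f.cz_sq h2 hii]) ?_ hμ0 (hXdef ▸ hg)
        rintro W (rfl | rfl | rfl | rfl)
        · exact ⟨(1, 0, 0, 0), 1, hone, by rw [ca, one_smul, ← f.a_eq]⟩
        · exact ⟨(0, 1, 1, 0), i, him, cb⟩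
        · exact ⟨(0, 0, 1, 0), 1, hone, by rw [cc', one_smul, ← f.c_eq]⟩
        · exact ⟨(1, 0, 0, 1), 1, hone, by rw [cd, one_smul]⟩
    · -- order three
      have h3 : (3 : F) ≠ 0 := by exact_mod_cast small_ne_zero (F := F) (k := 3) (p := p) (by norm_num) (by omega)
      obtain ⟨μ, hμ0, hμ, hμn⟩ := oddroot (by decide)
      obtain ⟨w, hw3, hw1⟩ := exists_unit_of_dvd (F := F) (r := 3) (by
        rw [hF]
        refine (Nat.modEq_iff_dvd' (Nat.one_le_pow _ _ hpp.pos)).1 ?_
        show 1 % 3 = p ^ 2 % 3
        rw [Nat.pow_mod, hp31])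
      have hwe : w * w + w + 1 = 0 := (mul_eq_zero.1 (by linear_combination hw3 :
        (w - 1) * (w * w + w + 1) = 0)).resolve_left (sub_ne_zero.2 hw1)
      have hwb : K.bar w = w := by rw [hbar hw3 1 hp31, pow_one]
      obtain ⟨X, hXdef⟩ : ∃ X, X = μ⁻¹ • X₀ := ⟨_, rfl⟩
      have hX3 : X ^ 3 = 1 := by
        rw [hXdef, smul_pow, hz, smul_smul, ← hμ, inv_pow, inv_mul_cancel₀ (pow_ne_zero _ hμ0), one_smul]
      have three : ∀ {Y : Matrix (Fin 4) (Fin 4) F}, adj K Y * Y = 1 → Y ^ 3 = 1 → Y ≠ 1 →
          (∃ B, adj K B * B = gA F ∧ Y * B = B * Matrix.diagonal ![w, w * w, w, w * w]) ∨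
            ∃ B, adj K B * B = gB F ∧ Y * B = B * Matrix.diagonal ![w, w * w, 1, 1] := fun h h' h'' =>
        exists_three K h3 hwe hwb h (by rwa [pow_succ, pow_two, Matrix.mul_assoc] at h') h''
      have tA : (Matrix.diagonal ![w, w * w, w, w * w]).trace = -2 := by
        simp [Matrix.trace_diagonal, Fin.sum_univ_four]; linear_combination 2 * hwe
      have tB : (Matrix.diagonal ![w, w * w, (1 : F), 1]).trace = 1 := by
        simp [Matrix.trace_diagonal, Fin.sum_univ_four]; linear_combination hwe
      rcases three (hXdef ▸ unitX hμn) hX3 (hXdef ▸ notone hμ0) with ⟨B, hB, hXB⟩ | ⟨B, hB, hXB⟩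
      · obtain ⟨ga, gb, gc, gd⟩ := f.y3_gens h2
        rcases three (unit_y3 K hM h2) (f.y3_pow h2) (fun e => by
          have := f.trace_y3 h2 h4
          rw [e, Matrix.trace_one, h4] at this
          push_cast at this
          exact h3 (mul_left_cancel₀ h2 (by linear_combination this))) with ⟨C, hC, hYC⟩ | ⟨C, hC, hYC⟩
        · refine fin (n := 3) (by norm_num) (f.y3_pow h2) ?_ hμ0 (hXdef ▸ conj_special K hB hC gA_det hXB hYC
            fun lam _ => provider_hyp K _ (Or.inl rfl) _ lam)
          rintro W (rfl | rfl | rfl | rfl)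
          · exact ⟨(1, 0, 0, 0), 1, hone, by rw [ga, one_smul, ← f.a_eq]⟩
          · exact ⟨(0, 1, 0, 0), 1, hone, by rw [gb, one_smul, ← f.b_eq]⟩
          · exact ⟨(0, 0, 1, 1), -1, hm1, gc⟩
          · exact ⟨(0, 0, 1, 0), 1, hone, by rw [gd, one_smul, ← f.c_eq]⟩
        · exfalso
          have := (f.trace_y3 h2 h4).symm.trans ((conj_facts (det_ne_of_gram K hC gB_det) hYC).2.trans tB)
          exact h3 (by linear_combination -this)
      · obtain ⟨ga, gb, gc, gd⟩ := f.y33_gens hii
        rcases three (unit_y33 K hM h2 hii hib) (f.y33_pow hii h2) (fun e => by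
          have := f.trace_y33 hii h2 h4
          rw [e, Matrix.trace_one, h4] at this
          push_cast at this
          exact h3 (by linear_combination this)) with ⟨C, hC, hYC⟩ | ⟨C, hC, hYC⟩
        · exfalso
          have := (f.trace_y33 hii h2 h4).symm.trans ((conj_facts (det_ne_of_gram K hC gA_det) hYC).2.trans tA)
          exact h3 (by linear_combination this)
        · refine fin (n := 3) (by norm_num) (f.y33_pow hii h2) ?_ hμ0 (hXdef ▸ conj_special K hB hC gB_det hXB hYC
            fun lam _ => provider_hyp K _ (Or.inr rfl) _ lam)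
          rintro W (rfl | rfl | rfl | rfl)
          · refine ⟨(1, 1, 0, 0), -i, ?_, ga⟩
            have := mem_mul hm1 him
            rwa [smul_mul_assoc, one_mul, smul_smul, neg_one_mul] at this
          · exact ⟨(1, 0, 0, 0), 1, hone, by rw [gb, one_smul, ← f.a_eq]⟩
          · exact ⟨(0, 0, 1, 1), -1, hm1, gc⟩
          · exact ⟨(0, 0, 1, 0), 1, hone, by rw [gd, one_smul, ← f.c_eq]⟩
    · -- order five
      obtain ⟨hordk, h5p, -⟩ := five_order hord
      have h50 : (5 : F) ≠ 0 := fun e => h5p (by
        have := (CharP.cast_eq_zero_iff F p 5).1 (by exact_mod_cast e)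
        rw [(Nat.prime_dvd_prime_iff_eq hpp (by norm_num)).1 this])
      have hco : Nat.Coprime (Fintype.card F - 1) 5 := by
        rw [hF, Nat.coprime_comm, (by norm_num : Nat.Prime 5).coprime_iff_not_dvd]
        intro h
        exact hordk 2 (by norm_num) (by norm_num) ((Nat.modEq_iff_dvd' (Nat.one_le_pow _ _ hpp.pos)).2 h).symm
      have h1 : ∀ c : F, c ^ 5 = 1 → c = 1 := fun c hc => eq_one_of_pow (by norm_num) hco hc
      have hsq : ∀ c : F, c ≠ 0 → K.bar c = c → IsSquare c := by
        intro c hc hcb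
        refine (FiniteField.isSquare_iff (fun e => by rw [ringChar.eq F p] at e; omega) hc).2 ?_
        have hcp : c ^ (p - 1) = 1 := by
          apply mul_right_cancel₀ hc
          rw [← pow_succ, Nat.sub_add_cancel hpp.one_le, one_mul, ← K.bar_apply, hcb]
        obtain ⟨m, hm⟩ : ∃ m, p = 2 * m + 1 := ⟨p / 2, by omega⟩
        rw [hF, show p ^ 2 / 2 = (p - 1) * (m + 1) from by
          subst hm
          rw [Nat.add_sub_cancel, show (2 * m + 1) ^ 2 = 2 * (2 * m * (m + 1)) + 1 by ring]
          omega, pow_mul, hcp, one_pow]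
      obtain ⟨d, hd⟩ := hsq 5 h50 (map_ofNat _ _)
      obtain ⟨η, hη⟩ : ∃ η : F, η = (d - 1) / 2 := ⟨_, rfl⟩
      have hηe : η * η + η - 1 = 0 := by rw [hη]; field_simp; linear_combination -hd
      have hirr' : ∀ e : F, e * e + e - 1 = 0 → ∀ c : F, c * c - e * c + 1 ≠ 0 := by
        intro e he c hc
        have hc5 : c ^ 5 = 1 := by
          linear_combination (c ^ 3 + e * c ^ 2 + (e * e - 1) * c + (e ^ 3 - 2 * e)) * hc +
            ((e * e - e - 1) * c - e + 1) * he
        have := h1 c hc5
        subst this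
        exact h50 (by linear_combination he + (e + 3) * hc)
      have hηb : K.bar η = -1 - η := by
        have hb : K.bar η * K.bar η + K.bar η - 1 = 0 := by
          simpa using congrArg K.bar hηe
        have hne : K.bar η ≠ η := by
          intro hfix
          have hd0 : η * η - 4 ≠ 0 := fun e => h50 (by
            linear_combination (-η + 3) * hηe + (η - 2) * e)
          obtain ⟨s, hs'⟩ := hsq _ hd0 (by rw [map_sub, map_mul, hfix, map_ofNat])
          refine hirr' η hηe ((η + s) / 2) ?_
          field_simp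
          linear_combination -hs'
        have : (K.bar η - η) * (K.bar η + η + 1) = 0 := by linear_combination hb - hηe
        linear_combination (mul_eq_zero.1 this).resolve_left (sub_ne_zero.2 hne)
      obtain ⟨μ, hμ0, hμ, hμn⟩ := oddroot (by decide)
      obtain ⟨X, hXdef⟩ : ∃ X, X = μ⁻¹ • X₀ := ⟨_, rfl⟩
      have hX5 : X ^ 5 = 1 := by
        rw [hXdef, smul_pow, hz, smul_smul, ← hμ, inv_pow, inv_mul_cancel₀ (pow_ne_zero _ hμ0), one_smul]
      have hirr := hirr' η hηe
      obtain ⟨B, hB, hXB⟩ := exists_five K hηe hηb hirr h50 (hXdef ▸ unitX hμn) hX5 (hXdef ▸ notone hμ0)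
      obtain ⟨C, hC, hYC⟩ := exists_five K hηe hηb hirr h50 (unit_y5 K hM h2) (f.y5_pow h2) (fun e => h50 (by
        have := congrArg Matrix.trace e
        rw [f.trace_y5 h2 h4, Matrix.trace_one, h4] at this
        push_cast at this
        linear_combination -this))
      have hodd : Fintype.card F % 2 = 1 := by
        rw [hF, Nat.pow_mod, show p % 2 = 1 by omega]
      refine fin (n := 5) (by norm_num) (f.y5_pow h2) ?_ hμ0 (hXdef ▸ conj_special K hB hC (gFive_det η) hXB hYC
        fun lam _ => provider_five K hηe hηb hirr h2 hodd lam)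
      obtain ⟨ga, gb, gc, gd⟩ := f.y5_gens h2
      rintro W (rfl | rfl | rfl | rfl)
      · exact ⟨_, _, hm1, ga⟩
      · exact ⟨_, _, hm1, gb⟩
      · exact ⟨_, _, hone, gc⟩
      · exact ⟨_, _, hm1, gd⟩

end CfsgLib.Pauli
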