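import Cfsg.Agent.Lib.Classical.Pauli.Normal

set_option autoImplicit false
set_option linter.unusedSectionVars false

/-!
Elements no conjugate of which normalises a spanned group: too large a commutant, or too large a prime order.
-/

namespace CfsgLib.Pauli

open Matrix
open scoped MatrixGroups
open Cfsg.Geo (matrixSet)

variable {F : Type*} [Field F] {ι : Type} [Fintype ι] [DecidableEq ι] [Nonempty ι] {f : Frame F ι}
  {R : Subgroup (GL ι F)}

theorem fix_cases {n : ℕ} (h : n ∣ 16) : n = 1 ∨ n = 2 ∨ n = 4 ∨ n = 8 ∨ n = 16 := by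
  have := Nat.le_of_dvd (by norm_num) h
  interval_cases n <;> omega

theorem conj_pow_scalar {x g : GL ι F} {r : ℕ} {z : F} (hz : ((x ^ r : GL ι F) : Matrix ι ι F) = z • 1) :
    (((g⁻¹ * x * g) ^ r : GL ι F) : Matrix ι ι F) = z • 1 := by
  have e : (g⁻¹ * x * g) ^ r = g⁻¹ * x ^ r * g := by
    have := conj_pow (i := r) (a := g⁻¹) (b := x)
    simpa only [inv_inv] using this
  rw [e, Units.val_mul, Units.val_mul, hz, Matrix.mul_smul, Matrix.mul_one, Matrix.smul_mul, Units.inv_mul]

theorem scalar_of_conj {x g : GL ι F} {z : F} (h : ((g⁻¹ * x * g : GL ι F) : Matrix ι ι F) = z • 1) :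
    (x : Matrix ι ι F) = z • 1 := by
  have e : x = g * (g⁻¹ * x * g) * g⁻¹ := by group
  rw [e, Units.val_mul, Units.val_mul, h, Matrix.mul_smul, Matrix.mul_one, Matrix.smul_mul, Units.mul_inv]

variable (h2 : (2 : F) ≠ 0) (h4 : Fintype.card ι = 4)
include h2 h4

/-- An element with a large commutant. -/
theorem not_conj_of_commutant (h : Spans f R) (hneg : (-1 : Matrix ι ι F) ∈ matrixSet R) {x g : GL ι F} {r : ℕ}
    (hr : r.Prime) (hodd : Odd r) (hx : ∃ z : F, ((x ^ r : GL ι F) : Matrix ι ι F) = z • 1)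
    (hns : ∀ z : F, (x : Matrix ι ι F) ≠ z • 1) (hmem : g⁻¹ * x * g ∈ Cfsg.Geo.subgroupNormalizer R)
    {κ : Type*} [Fintype κ] {X : κ → Matrix ι ι F} (hX : LinearIndependent F X)
    (hc : ∀ k, (x : Matrix ι ι F) * X k = X k * x)
    (hb : ∀ n t : ℕ, n ∈ [1, 2, 4, 8] → n + r * t = 16 → n + t < Fintype.card κ) : False := by
  obtain ⟨z, hz⟩ := hx
  obtain ⟨A⟩ := exists_act h2 h4 h hneg hmem hodd ⟨z, conj_pow_scalar hz⟩
  rcases fix_cases A.fix_dvd with h16 | h16 | h16 | h16 | h16
  case inr.inr.inr.inr =>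
    obtain ⟨c, hc'⟩ := A.scalar_of_fix h2 h4 h16
    exact hns c (scalar_of_conj hc')
  all_goals
    let L : Matrix ι ι F →ₗ[F] Matrix ι ι F :=
      (LinearMap.mulLeft F ((g⁻¹ : GL ι F) : Matrix ι ι F)).comp (LinearMap.mulRight F (g : Matrix ι ι F))
    have hLinj : LinearMap.ker L = ⊥ := by
      refine LinearMap.ker_eq_bot'.2 fun Y hY => ?_
      simp only [L, LinearMap.comp_apply, LinearMap.mulLeft_apply, LinearMap.mulRight_apply] at hY
      exact g.isUnit.mul_right_cancel ((g⁻¹).isUnit.mul_left_cancel (by rw [hY, zero_mul, mul_zero]))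
    have hle := A.card_le h2 h4 hr (hX.map' L hLinj) fun k => by
      simp only [Function.comp_apply, L, LinearMap.comp_apply, LinearMap.mulLeft_apply, LinearMap.mulRight_apply,
        Units.val_mul]
      have e : ∀ Y : Matrix ι ι F, (g : Matrix ι ι F) * (((g⁻¹ : GL ι F) : Matrix ι ι F) * Y) = Y := fun Y => by
        rw [← mul_assoc, g.mul_inv, one_mul]
      simp only [mul_assoc, e]
      rw [← mul_assoc (x : Matrix ι ι F) (X k), hc, mul_assoc]
    have := hb _ _ (by rw [h16]; simp) (A.fix_add hr)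
    omega

/-- A prime beyond five. -/
theorem scalar_of_large (h : Spans f R) (hneg : (-1 : Matrix ι ι F) ∈ matrixSet R) {y : GL ι F} {r : ℕ}
    (hr : r.Prime) (h7 : 7 ≤ r) (hy : ∃ z : F, ((y ^ r : GL ι F) : Matrix ι ι F) = z • 1)
    (hmem : y ∈ Cfsg.Geo.subgroupNormalizer R) : ∃ z : F, (y : Matrix ι ι F) = z • 1 := by
  classical
  obtain ⟨A⟩ := exists_act h2 h4 h hneg hmem (hr.odd_of_ne_two (by omega)) hy
  have hadd := A.fix_add hr
  obtain ⟨t, ht⟩ : ∃ t, t = (A.reps.filter fun v => A.π v ≠ v).card := ⟨_, rfl⟩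
  rw [← ht] at hadd
  rcases fix_cases A.fix_dvd with h16 | h16 | h16 | h16 | h16
  case inr.inr.inr.inr => exact A.scalar_of_fix h2 h4 h16
  all_goals exfalso; rw [h16] at hadd
  all_goals
    have hdiv : ∀ m, r * t = m → r ∣ m := fun m e => Dvd.intro t e
    first
    | (have h1 := hdiv 15 (by omega)
       rcases (Nat.Prime.dvd_mul hr (m := 3) (n := 5)).1 h1 with h3 | h3 <;>
         have := Nat.le_of_dvd (by norm_num) h3 <;> omega)
    | (have h1 := hdiv 12 (by omega)
       rcases (Nat.Prime.dvd_mul hr (m := 3) (n := 4)).1 h1 with h3 | h3 <;>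
         have := Nat.le_of_dvd (by norm_num) h3 <;> omega)
    | (have h1 := hdiv 8 (by omega)
       rcases (Nat.Prime.dvd_mul hr (m := 2) (n := 4)).1 h1 with h3 | h3 <;>
         have := Nat.le_of_dvd (by norm_num) h3 <;> omega)
    | skip
  -- two fixed products
  have h7' : r = 7 := by
    have h1 := hdiv 14 (by omega)
    rcases (Nat.Prime.dvd_mul hr (m := 2) (n := 7)).1 h1 with h3 | h3
    · have := Nat.le_of_dvd (by norm_num) h3; omega
    · have := Nat.le_of_dvd (by norm_num) h3; omega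
  obtain ⟨v₀, hv₀, hv₀0⟩ : ∃ v, A.π v = v ∧ v ≠ 0 := by
    by_contra hall
    push Not at hall
    have hsub : (Finset.univ.filter fun v => A.π v = v) ⊆ {0} := fun v hv =>
      Finset.mem_singleton.2 (hall v (Finset.mem_filter.1 hv).2)
    have h1 := Finset.card_le_card hsub
    rw [Finset.card_singleton] at h1
    change A.fix ≤ 1 at h1
    omega
  have hfx : ∀ v, A.π v = v → v = 0 ∨ v = v₀ := by
    intro v hv
    by_contra hne
    push Not at hne
    have hsub : ({0, v₀, v} : Finset V) ⊆ Finset.univ.filter fun v => A.π v = v := by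
      intro u hu
      simp only [Finset.mem_insert, Finset.mem_singleton] at hu
      simp only [Finset.mem_filter, Finset.mem_univ, true_and]
      rcases hu with rfl | rfl | rfl
      · exact A.map_zero
      · exact hv₀
      · exact hv
    have h1 := Finset.card_le_card hsub
    rw [Finset.card_insert_of_notMem (by simp [Ne.symm hv₀0, Ne.symm hne.1]),
      Finset.card_insert_of_notMem (by simp [Ne.symm hne.2]), Finset.card_singleton] at h1
    change 3 ≤ A.fix at h1
    omega
  have hQ : ∀ v, om v₀ (A.π v) = 0 ↔ om v₀ v = 0 := fun v => by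
    conv_lhs => rw [← hv₀, A.pres]
  have h6 := A.card_moved hr (fun v => om v₀ v = 0) hQ
  have heq : (Finset.univ.filter fun v => om v₀ v = 0 ∧ A.π v ≠ v) =
      Finset.univ.filter fun v => om v₀ v = 0 ∧ v ≠ 0 ∧ v ≠ v₀ := by
    ext v
    simp only [Finset.mem_filter, Finset.mem_univ, true_and, and_congr_right_iff]
    intro _
    constructor
    · exact fun hv => ⟨fun e => hv (e ▸ A.map_zero), fun e => hv (e ▸ hv₀)⟩
    · rintro ⟨a, b⟩ e
      rcases hfx v e with e' | e'
      · exact a e'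
      · exact b e'
  have hcount : ∀ u : V, u ≠ 0 → (Finset.univ.filter fun v => om u v = 0 ∧ v ≠ 0 ∧ v ≠ u).card = 6 := by
    decide +kernel
  rw [heq, hcount v₀ hv₀0] at h6
  rcases Nat.eq_zero_or_pos (A.reps.filter fun v => om v₀ v = 0 ∧ A.π v ≠ v).card with h0 | h0
  · rw [h0, mul_zero] at h6; omega
  · have := Nat.le_mul_of_pos_right r h0
    omega

end CfsgLib.Pauli
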